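import Groth.Agent.BunMod.K562.DescIdeal
import Groth.Agent.BunMod.K140.Defs3
import Groth.Agent.BunMod.K54.Theta
import Groth.Agent.Fga.TensorList
import Groth.Agent.Fga.UnitRestrict
import Groth.Agent.PicF.K246.Basic
import Groth.Agent.VarietyA.EulerAdd
import Groth.Prelude.Def_BlowUp2

/-!
# The theta locus of a quotient of an atlas

`A` an atlas (`K140.BM.AtlasC`) of the problem cut out by `Q`, `φ` the transformation to the quotient `A.M`.

* `r_of_iso`: isomorphic families are identified;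
* `mem_jumpLocus_iff`: the jump locus consists of the images of the geometric points of `A.Z` at which the fibre of the
  family is stable and has a section after twisting with `N`;
* `closure_jumpLocus`: the theta locus is the closure of the image of the support of the theta ideal;
* `dvd_of_dvd`, `main`: descent of the theta ideal.
-/

set_option autoImplicit false

universe u

open CategoryTheory CategoryTheory.Limits AlgebraicGeometry TensorProduct TopologicalSpace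

namespace K562.Jump

open K140.BM Groth.Agent

section Gen

variable {X S : Scheme.{u}} (f : X ⟶ S)

/-- Isomorphic families are identified. -/
theorem r_of_iso {T : Over S} {E E' : (PicF.XT f T).Modules} (e : E ≅ E') :
    (ModFun.modProb f).r T E E' :=
  ⟨Coh.structureModule T.left, K246.Basic.isInvertible_structureModule _,
    ⟨e.symm ≪≫ (Fga.TensorList.tensorUnit E).symm ≪≫
      ASBun.K791.Tens.tensMap (Iso.refl E) (Fga.UnitRestrict.pullbackUnitIso (PicF.XTproj f T)).symm⟩⟩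

end Gen

section Fam

variable {k : Type u} [Field k] {X : Scheme.{u}} [X.Over (Spec (CommRingCat.of k))]

/-- Pull-back of families along a composition. -/
noncomputable def plComp {T T' T'' : Over (B0 k)} (h : T'' ⟶ T') (g : T' ⟶ T)
    (E : (PicF.XT (st k X) T).Modules) : pl k X h (pl k X g E) ≅ pl k X (h ≫ g) E :=
  (Scheme.Modules.pullbackComp (PicF.XTmap (st k X) h) (PicF.XTmap (st k X) g)).app E ≪≫
    (Scheme.Modules.pullbackCongr (Fga.RigGrp.XTmap_comp (st k X) g h).symm).app E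

/-- Pull-back of families along the identity. -/
noncomputable def plId (T : Over (B0 k)) (E : (PicF.XT (st k X) T).Modules) : pl k X (𝟙 T) E ≅ E :=
  (Scheme.Modules.pullbackCongr (Fga.RigGrp.XTmap_id (st k X) T)).app E ≪≫ (Scheme.Modules.pullbackId _).app E

variable {Q : ∀ T : Over (B0 k), (ModFun.modProb (st k X)).Fam T → Prop} (A : AtlasC k X Q)

/-- Families over a point come from points of the atlas. -/
theorem exists_point {Ω : Type u} [Field Ω] (t : Spec (CommRingCat.of Ω) ⟶ B0 k)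
    (F : (PicF.XT (st k X) (Over.mk t)).Modules) (hF : Q (Over.mk t) F) :
    ∃ c : Over.mk t ⟶ A.Z, Nonempty (pl k X c A.E ≅ F) := by
  let p : Spec (CommRingCat.of Ω) := IsLocalRing.closedPoint Ω
  obtain ⟨U, c, hU, ⟨e⟩⟩ := A.lift (Over.mk t) F hF p
  have hUt : U = ⊤ := by
    rw [eq_top_iff]
    intro x _
    have hss : Subsingleton (PrimeSpectrum Ω) := inferInstance
    have : x = p := hss.elim x p
    rw [this]; exact hU
  subst hUt
  have hiso' : IsIso (opi (Over.mk t) ⊤) :=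
    (Over.isoMk (f := opn (Over.mk t) ⊤) (g := Over.mk t) (Scheme.topIso _) rfl).isIso_hom
  refine ⟨inv (opi (Over.mk t) ⊤) ≫ c, ⟨(plComp _ _ _).symm ≪≫
    (Scheme.Modules.pullback (PicF.XTmap (st k X) (inv (opi (Over.mk t) ⊤)))).mapIso e ≪≫
    plComp _ _ _ ≪≫ ?_⟩⟩
  exact (Scheme.Modules.pullbackCongr (by rw [IsIso.inv_hom_id])).app F ≪≫ plId _ F

variable {P : ObjectProperty (Over (B0 k))} (φ : ((ModFun.modProb (st k X)).restrict Q).Hom P A.M)

/-- The transformation to the quotient of the atlas is the one defined by `A.π`. -/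
def IsQuot : Prop :=
  ∀ (T : Over (B0 k)) (hT : P T) (c : T ⟶ A.Z) (h : ((ModFun.modProb (st k X)).restrict Q).ok T (pl k X c A.E)),
    φ.app T (pl k X c A.E) hT h = c ≫ A.π

/-- The points of a locus in the quotient are the images of the geometric points of the atlas. -/
theorem ptLocus_eq (hP : ∀ T, P T) (hφ : IsQuot A φ) (hQ : ∀ {T : Over (B0 k)} (c : T ⟶ A.Z), Q T (pl k X c A.E))
    (R : ∀ (Ω : Type u) [Field Ω] [IsAlgClosed Ω] (s : Spec (CommRingCat.of Ω) ⟶ B0 k),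
      (ModFun.modProb (st k X)).Fam (Over.mk s) → Prop)
    (hR : ∀ (Ω : Type u) [Field Ω] [IsAlgClosed Ω] (s : Spec (CommRingCat.of Ω) ⟶ B0 k)
      (E E' : (PicF.XT (st k X) (Over.mk s)).Modules), Nonempty (E ≅ E') → R Ω s E → R Ω s E') :
    ModFun.ptLocus ((ModFun.modProb (st k X)).restrict Q) φ R =
      A.π.left '' {z | ∃ (Ω : Type u) (_ : Field Ω) (_ : IsAlgClosed Ω) (s : Spec (CommRingCat.of Ω) ⟶ B0 k)
        (c : Over.mk s ⟶ A.Z), R Ω s (pl k X c A.E) ∧ z ∈ Set.range c.left} := by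
  ext m
  constructor
  · rintro ⟨Ω, _, _, t, hPt, x, hx, hRx, p, hp⟩
    obtain ⟨c, ⟨e⟩⟩ := exists_point A t x hx.2
    refine ⟨c.left p, ⟨Ω, _, ‹_›, t, c, hR Ω t _ _ ⟨e.symm⟩ hRx, p, rfl⟩, ?_⟩
    have h1 := φ.resp (pl k X c A.E) x hPt ⟨trivial, hQ c⟩ hx (r_of_iso (st k X) e)
    rw [hφ (Over.mk t) hPt c ⟨trivial, hQ c⟩] at h1
    rw [← hp]
    change A.π.left (c.left p) = (φ.app (Over.mk t) x hPt hx).left p
    rw [← h1]
    rfl
  · rintro ⟨z, ⟨Ω, _, _, s, c, hRc, p, hp⟩, rfl⟩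
    refine ⟨Ω, _, ‹_›, s, hP _, pl k X c A.E, ⟨trivial, hQ c⟩, hRc, p, ?_⟩
    change (φ.app (Over.mk s) (pl k X c A.E) _ _).left p = A.π.left z
    rw [hφ (Over.mk s) _ c ⟨trivial, hQ c⟩, ← hp]
    rfl

end Fam

section Jump

variable {k : Type u} [Field k] {X : Scheme.{u}} [X.Over (Spec (CommRingCat.of k))]

/-- The fibre is a stable vector bundle. -/
def StabAt (Ω : Type u) [Field Ω] [IsAlgClosed Ω] (s : Spec (CommRingCat.of Ω) ⟶ B0 k)
    (E : (PicF.XT (st k X) (Over.mk s)).Modules) : Prop :=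
  letI : (PicF.XT (st k X) (Over.mk s)).Over (Spec (CommRingCat.of Ω)) := ⟨PicF.XTproj (st k X) (Over.mk s)⟩
  ∃ n : ℕ, FlatMod.IsFinLocFreeOfRank n E ∧ ModFun.IsSlopeStable Ω (PicF.XT (st k X) (Over.mk s)) E n

/-- The fibre has a nonzero section after twisting with `N`. -/
def SecAt (N : X.Modules) (Ω : Type u) [Field Ω] [IsAlgClosed Ω] (s : Spec (CommRingCat.of Ω) ⟶ B0 k)
    (E : (PicF.XT (st k X) (Over.mk s)).Modules) : Prop :=
  ¬ Subsingleton (Coh.HH (PicF.XT (st k X) (Over.mk s)) (CohB1.tensorMod E (cst k (Over.mk s) N)) 0)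

theorem isFinLocFreeOfRank_of_iso {Y : Scheme.{u}} {M N : Y.Modules} {r : ℕ} (e : M ≅ N)
    (h : FlatMod.IsFinLocFreeOfRank r M) : FlatMod.IsFinLocFreeOfRank r N := by
  intro x
  obtain ⟨U, hx, ⟨a⟩⟩ := h x
  exact ⟨U, hx, ⟨((Scheme.Modules.restrictFunctor U.ι).mapIso e).symm ≪≫ a⟩⟩

theorem StabAt.of_iso {Ω : Type u} [Field Ω] [IsAlgClosed Ω] {s : Spec (CommRingCat.of Ω) ⟶ B0 k}
    {E E' : (PicF.XT (st k X) (Over.mk s)).Modules} (e : E ≅ E') (h : StabAt Ω s E) : StabAt Ω s E' := by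
  obtain ⟨n, h1, h2⟩ := h
  refine ⟨n, isFinLocFreeOfRank_of_iso e h1, fun F r' i hi h0 hr hF => ?_⟩
  have hm : Mono (i ≫ e.inv) := mono_comp _ _
  have h3 := h2 F r' (i ≫ e.inv) hm h0 hr hF
  let : (PicF.XT (st k X) (Over.mk s)).Over (Spec (CommRingCat.of Ω)) := ⟨PicF.XTproj (st k X) (Over.mk s)⟩
  have h4 : Curv2.deg Ω (PicF.XT (st k X) (Over.mk s)) E n = Curv2.deg Ω (PicF.XT (st k X) (Over.mk s)) E' n := by
    rw [Curv2.deg, Curv2.deg]
    exact congrArg (· - _) (VarietyA.EulerAdd.euler_congr Ω e)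
  exact h4 ▸ h3

theorem SecAt.of_iso {N : X.Modules} {Ω : Type u} [Field Ω] [IsAlgClosed Ω] {s : Spec (CommRingCat.of Ω) ⟶ B0 k}
    {E E' : (PicF.XT (st k X) (Over.mk s)).Modules} (e : E ≅ E') (h : SecAt N Ω s E) : SecAt N Ω s E' := by
  let : (PicF.XT (st k X) (Over.mk s)).Over (Spec (CommRingCat.of Ω)) := ⟨PicF.XTproj (st k X) (Over.mk s)⟩
  intro h'
  exact h ((VarietyA.EulerLES.equivA Ω (ASBun.K791.Tens.tensMap e (Iso.refl _)) 0).toEquiv.subsingleton)

variable {Q : ∀ T : Over (B0 k), (ModFun.modProb (st k X)).Fam T → Prop} (A : AtlasC k X Q)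

/-- The points of the atlas at which the fibre is stable. -/
def stab : Set A.Z.left :=
  {z | ∃ (Ω : Type u) (_ : Field Ω) (_ : IsAlgClosed Ω) (s : Spec (CommRingCat.of Ω) ⟶ B0 k)
    (c : Over.mk s ⟶ A.Z), StabAt Ω s (pl k X c A.E) ∧ z ∈ Set.range c.left}

variable (N : X.Modules)

/-- The support of the theta ideal consists of the points at which the fibre has a section after twisting. -/
def SuppCond : Prop :=
  ∀ (Ω : Type u) [Field Ω] [IsAlgClosed Ω] (s : Spec (CommRingCat.of Ω) ⟶ B0 k) (c : Over.mk s ⟶ A.Z)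
    (p : (Over.mk s).left), c.left p ∈ ((thetaIdeal k N A.Z A.E).support : Set A.Z.left) ↔ SecAt N Ω s (pl k X c A.E)

variable {P : ObjectProperty (Over (B0 k))} (φ : ((ModFun.modProb (st k X)).restrict Q).Hom P A.M)

theorem jumpLocus_eq (hP : ∀ T, P T) (hφ : IsQuot A φ) (hQ : ∀ {T : Over (B0 k)} (c : T ⟶ A.Z), Q T (pl k X c A.E))
    (hs : SuppCond A N) :
    BunMod.jumpLocus (st k X) Q φ N =
      A.π.left '' (stab A ∩ ((thetaIdeal k N A.Z A.E).support : Set A.Z.left)) := by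
  refine (ptLocus_eq A φ hP hφ hQ (fun Ω _ _ s E => StabAt Ω s E ∧ SecAt N Ω s E)
    fun Ω _ _ s E E' ⟨e⟩ h => ⟨h.1.of_iso e, h.2.of_iso e⟩).trans ?_
  congr 1
  ext z
  constructor
  · rintro ⟨Ω, _, _, s, c, ⟨h1, h2⟩, p, rfl⟩
    exact ⟨⟨Ω, _, ‹_›, s, c, h1, p, rfl⟩, (hs Ω s c p).2 h2⟩
  · rintro ⟨⟨Ω, _, _, s, c, h1, p, rfl⟩, h2⟩
    exact ⟨Ω, _, ‹_›, s, c, ⟨h1, (hs Ω s c p).1 h2⟩, p, rfl⟩

/-- The theta locus is the closure of the image of the support of the theta ideal. -/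
theorem closure_jumpLocus (hP : ∀ T, P T) (hφ : IsQuot A φ)
    (hQ : ∀ {T : Over (B0 k)} (c : T ⟶ A.Z), Q T (pl k X c A.E)) (hs : SuppCond A N)
    (hd : ((thetaIdeal k N A.Z A.E).support : Set A.Z.left) ⊆
      closure (stab A ∩ ((thetaIdeal k N A.Z A.E).support : Set A.Z.left))) :
    closure (BunMod.jumpLocus (st k X) Q φ N) =
      closure (A.π.left '' ((thetaIdeal k N A.Z A.E).support : Set A.Z.left)) := by
  rw [jumpLocus_eq A N φ hP hφ hQ hs]
  refine subset_antisymm (closure_mono (Set.image_mono Set.inter_subset_right)) ?_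
  refine closure_minimal ?_ isClosed_closure
  exact (Set.image_mono hd).trans (image_closure_subset_closure_image A.π.left.continuous)

/-- Division by invariant nonzerodivisors. -/
theorem dvd_of_dvd (V : A.M.left.Opens) (hV : IsAffineOpen V) (h g : Γ(A.M.left, V))
    (hh : (A.π.left.app V).hom h ∈ nonZeroDivisors Γ(A.Z.left, A.π.left ⁻¹ᵁ V))
    (hd : (A.π.left.app V).hom h ∣ (A.π.left.app V).hom g) : h ∣ g := by
  obtain ⟨hinj, hinv⟩ := A.functions V hV
  obtain ⟨c, hc⟩ := hd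
  have key : ∀ (u : GL (Fin A.b) k) (v : GL (Fin A.a) k)
      (e : A.π.left ⁻¹ᵁ V ≤ (A.act (matT A.Z u) (matT A.Z v) (𝟙 A.Z)).left ⁻¹ᵁ (A.π.left ⁻¹ᵁ V))
      (x : Γ(A.M.left, V)),
      (A.act (matT A.Z u) (matT A.Z v) (𝟙 A.Z)).left.appLE (A.π.left ⁻¹ᵁ V) (A.π.left ⁻¹ᵁ V) e
        (A.π.left.app V x) = A.π.left.app V x := by
    intro u v e x
    have h1 : (A.act (matT A.Z u) (matT A.Z v) (𝟙 A.Z)).left ≫ A.π.left = A.π.left := by
      have h2 := A.act_π (matT A.Z u) (matT A.Z v) (𝟙 A.Z)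
      rw [Category.id_comp] at h2
      exact congrArg (·.left) h2
    have h3 := Scheme.Hom.appLE_comp_appLE (A.act (matT A.Z u) (matT A.Z v) (𝟙 A.Z)).left A.π.left V
      (A.π.left ⁻¹ᵁ V) (A.π.left ⁻¹ᵁ V) le_rfl e
    rw [Scheme.Hom.appLE_eq_app] at h3
    have h4 : A.π.left.app V ≫ (A.act (matT A.Z u) (matT A.Z v) (𝟙 A.Z)).left.appLE (A.π.left ⁻¹ᵁ V)
        (A.π.left ⁻¹ᵁ V) e = A.π.left.app V := by
      rw [h3, ← Scheme.Hom.appLE_eq_app]
      congr 1
    exact congrArg (fun q : Γ(A.M.left, V) ⟶ Γ(A.Z.left, A.π.left ⁻¹ᵁ V) => q x) h4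
  obtain ⟨c', hc'⟩ := hinv c (by
    intro u v e
    have h1 := congrArg ((A.act (matT A.Z u) (matT A.Z v) (𝟙 A.Z)).left.appLE (A.π.left ⁻¹ᵁ V)
      (A.π.left ⁻¹ᵁ V) e).hom hc
    rw [map_mul] at h1
    have h2 := key u v e g
    have h3 := key u v e h
    have h4 : (A.π.left.app V).hom g = (A.π.left.app V).hom h *
        ((A.act (matT A.Z u) (matT A.Z v) (𝟙 A.Z)).left.appLE (A.π.left ⁻¹ᵁ V)
          (A.π.left ⁻¹ᵁ V) e).hom c := by
      refine h2.symm.trans (h1.trans ?_)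
      congr 1
    rw [hc] at h4
    exact ((mem_nonZeroDivisors_iff_right.1 hh _ (by
      rw [sub_mul, mul_comm _ ((A.π.left.app V).hom h), mul_comm _ ((A.π.left.app V).hom h), ← h4,
        sub_self])) |> sub_eq_zero.1))
  refine ⟨c', hinj ?_⟩
  change (A.π.left.app V).hom g = (A.π.left.app V).hom (h * c')
  rw [map_mul, hc]
  congr 1
  exact hc'.symm

/-- **Descent of the theta ideal**: the theta ideal of the atlas is the pull-back of the vanishing ideal of the theta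
locus, and both are effective Cartier ideals. -/
theorem main (hP : ∀ T, P T) (hφ : IsQuot A φ)
    (hQ : ∀ {T : Over (B0 k)} (c : T ⟶ A.Z), Q T (pl k X c A.E)) (hs : SuppCond A N)
    (hd : ((thetaIdeal k N A.Z A.E).support : Set A.Z.left) ⊆
      closure (stab A ∩ ((thetaIdeal k N A.Z A.E).support : Set A.Z.left)))
    (hrad : (thetaIdeal k N A.Z A.E).radical = thetaIdeal k N A.Z A.E)
    (hgen : ∀ x : A.M.left, ∃ V : A.M.left.affineOpens, x ∈ V.1 ∧ ∃ (hW : IsAffineOpen (A.π.left ⁻¹ᵁ V.1))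
      (h : Γ(A.M.left, V)), (thetaIdeal k N A.Z A.E).ideal ⟨A.π.left ⁻¹ᵁ V.1, hW⟩ =
        Ideal.span {(A.π.left.app V).hom h} ∧
        (A.π.left.app V).hom h ∈ nonZeroDivisors Γ(A.Z.left, A.π.left ⁻¹ᵁ V.1)) :
    BlowUp.IsEffCartierIdeal (thetaIdeal k N A.Z A.E) ∧
      (Scheme.IdealSheafData.vanishingIdeal
        ⟨BunMod.thetaLocus (st k X) Q φ N, isClosed_closure⟩).comap A.π.left = thetaIdeal k N A.Z A.E ∧
      BlowUp.IsEffCartierIdeal (Scheme.IdealSheafData.vanishingIdeal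
        ⟨BunMod.thetaLocus (st k X) Q φ N, isClosed_closure⟩) := by
  have haff : IsAffineHom A.π.left := A.aff
  have hS := closure_jumpLocus A N φ hP hφ hQ hs hd
  refine ⟨?_, ?_, ?_⟩
  · intro z
    obtain ⟨V, hV, hW, h, h1, h2⟩ := hgen (A.π.left z)
    exact ⟨⟨A.π.left ⁻¹ᵁ V.1, V.2.preimage A.π.left⟩, hV, (A.π.left.app V).hom h, h2, h1⟩
  · refine DescIdeal.comap_vanishingIdeal_closure A.π.left _ hrad _ hS fun x => ?_
    obtain ⟨V, hV, hW, h, h1, -⟩ := hgen x
    exact ⟨V, hV, h, h1⟩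
  · have h0 := DescIdeal.vanishingIdeal_closure_eq A.π.left _ hrad _ hS
    have h1 : BlowUp.IsEffCartierIdeal ((thetaIdeal k N A.Z A.E).map A.π.left) := by
      refine DescIdeal.isEffCartier A.π.left _ fun x => ?_
      obtain ⟨V, hV, hW, h, h1, h2⟩ := hgen x
      refine ⟨V, hV, h, h1, ?_, fun g hg => dvd_of_dvd A V.1 V.2 h g h2 hg⟩
      rw [mem_nonZeroDivisors_iff_right]
      intro y hy
      have h3 : (A.π.left.app V.1).hom y * (A.π.left.app V.1).hom h = 0 := by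
        rw [← map_mul, hy, map_zero]
      have h4 := mem_nonZeroDivisors_iff_right.1 h2 _ h3
      exact (A.functions V.1 V.2).1 (h4.trans (map_zero _).symm)
    exact (h0 ▸ h1 :)

end Jump

end K562.Jump
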