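import Groth.Agent.BunMod.K822.XTD
import Groth.Agent.BunMod.K562.Jump

/-!
# Lifting of families over `Spec k[ε]` to points

`HasLift Q Z E`: for every `z : Spec k ⟶ Z` and every admissible family `M` over `Spec k[ε]` with an isomorphism
`ρ : i^* M ≅ z^* E` there are `v : Spec k[ε] ⟶ Z` over `z` and `φ : v^* E ≅ M` inducing the given identification.

* `tr_assoc`, `tr_ltr`: associativity of the canonical isomorphisms;
* `HasLift.opn`: restriction to an open of `Z`.
-/

set_option autoImplicit false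

universe u

open CategoryTheory CategoryTheory.Limits AlgebraicGeometry TopologicalSpace

namespace K562.LiftPt

open K140.BM K822 K822.XTD K822.Tr

section Gen

variable {A B C D : Scheme.{u}}

theorem pullbackComp_assoc (k : A ⟶ B) (a : B ⟶ C) (g : C ⟶ D) (E₀ : D.Modules)
    (hk : k ≫ a ≫ g = (k ≫ a) ≫ g) :
    (Scheme.Modules.pullbackComp k a).hom.app ((Scheme.Modules.pullback g).obj E₀) ≫
      (Scheme.Modules.pullbackComp (k ≫ a) g).hom.app E₀ =
    (Scheme.Modules.pullback k).map ((Scheme.Modules.pullbackComp a g).hom.app E₀) ≫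
      (Scheme.Modules.pullbackComp k (a ≫ g)).hom.app E₀ ≫ (Scheme.Modules.pullbackCongr hk).hom.app E₀ := by
  have h1 := congrArg (fun t => t.app E₀) (Scheme.Modules.pseudofunctor_associativity k a g)
  simp only [NatTrans.comp_app, Functor.whiskerRight_app, Functor.associator_hom_app, Functor.whiskerLeft_app,
    Category.id_comp] at h1
  have h3 : (Scheme.Modules.pullbackCongr hk).hom.app E₀ = _ := h1.symm
  rw [h3, Iso.hom_inv_id_app_assoc, ← Functor.map_comp_assoc, Iso.hom_inv_id_app, CategoryTheory.Functor.map_id,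
    Category.id_comp]

theorem tr_rfl (a : A ⟶ B) (b : B ⟶ C) (F : C.Modules) :
    (tr a b rfl F).hom = (Scheme.Modules.pullbackComp a b).hom.app F := by
  change (Scheme.Modules.pullbackComp a b).hom.app F ≫ (Scheme.Modules.pullbackCongr rfl).hom.app F = _
  have h3 : (Scheme.Modules.pullbackCongr (rfl : a ≫ b = a ≫ b)).hom = 𝟙 _ := rfl
  rw [h3, NatTrans.id_app, Category.comp_id]

/-- Associativity. -/
theorem tr_assoc (i : A ⟶ B) (v : B ⟶ C) {z : A ⟶ C} (o : C ⟶ D) {v' : B ⟶ D} {z' : A ⟶ D} (h : i ≫ v = z)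
    (h2 : v ≫ o = v') (h3 : z ≫ o = z') (h4 : i ≫ v' = z') (E : D.Modules) :
    (tr i v h ((Scheme.Modules.pullback o).obj E)).hom ≫ (tr z o h3 E).hom =
      (Scheme.Modules.pullback i).map (tr v o h2 E).hom ≫ (tr i v' h4 E).hom := by
  subst h h2 h3
  rw [tr_rfl, tr_rfl, tr_rfl]
  exact pullbackComp_assoc i v o E h4

/-- The canonical isomorphism `v^* F ≅ (v o)^* E` for `F ≅ o^* E`. -/
noncomputable def ltr (v : B ⟶ C) (o : C ⟶ D) {v' : B ⟶ D} (h : v ≫ o = v') (E : D.Modules) {F : C.Modules}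
    (ι : F ≅ (Scheme.Modules.pullback o).obj E) :
    (Scheme.Modules.pullback v).obj F ≅ (Scheme.Modules.pullback v').obj E :=
  (Scheme.Modules.pullback v).mapIso ι ≪≫ tr v o h E

theorem tr_ltr (i : A ⟶ B) (v : B ⟶ C) {z : A ⟶ C} (o : C ⟶ D) {v' : B ⟶ D} {z' : A ⟶ D} (h : i ≫ v = z)
    (h2 : v ≫ o = v') (h3 : z ≫ o = z') (h4 : i ≫ v' = z') (E : D.Modules) {F : C.Modules}
    (ι : F ≅ (Scheme.Modules.pullback o).obj E) :
    (tr i v h F).hom ≫ (ltr z o h3 E ι).hom =
      (Scheme.Modules.pullback i).map (ltr v o h2 E ι).hom ≫ (tr i v' h4 E).hom := by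
  rw [ltr, ltr, Iso.trans_hom, Iso.trans_hom, Functor.mapIso_hom, Functor.mapIso_hom, Functor.map_comp, Category.assoc,
    ← tr_assoc i v o h h2 h3 h4 E, ← Category.assoc, tr_natural, Category.assoc]

/-- The lifting step. -/
theorem lift_step (i : A ⟶ B) (v : B ⟶ C) {z : A ⟶ C} (o : C ⟶ D) {v' : B ⟶ D} {z' : A ⟶ D} (h : i ≫ v = z)
    (h2 : v ≫ o = v') (h3 : z ≫ o = z') (h4 : i ≫ v' = z') (E : D.Modules) {F : C.Modules}
    (ι : F ≅ (Scheme.Modules.pullback o).obj E) {M : B.Modules}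
    (ρ : (Scheme.Modules.pullback i).obj M ≅ (Scheme.Modules.pullback z).obj F)
    (φ' : (Scheme.Modules.pullback v').obj E ≅ M)
    (hφ' : (Scheme.Modules.pullback i).map φ'.hom ≫ (ρ ≪≫ ltr z o h3 E ι).hom = (tr i v' h4 E).hom) :
    (Scheme.Modules.pullback i).map (ltr v o h2 E ι ≪≫ φ').hom ≫ ρ.hom = (tr i v h F).hom := by
  rw [← cancel_mono (ltr z o h3 E ι).hom, tr_ltr i v o h h2 h3 h4 E ι, Iso.trans_hom, Functor.map_comp,
    Category.assoc, Category.assoc, ← hφ', Iso.trans_hom]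

end Gen

variable {k : Type u} [Field k] {X : Scheme.{u}} [X.Over (Spec (CommRingCat.of k))]

/-- Lifting of families over `Spec k[ε]` to points with the identity on the special fibre. -/
def HasLift (Q : ∀ T : Over (B0 k), (ModFun.modProb (st k X)).Fam T → Prop) (Z : Over (B0 k))
    (E : (PicF.XT (st k X) Z).Modules) : Prop :=
  ∀ (z : T0 k ⟶ Z) (M : (PicF.XT (st k X) (Te k)).Modules) (_ : Q (Te k) M)
    (ρ : (Scheme.Modules.pullback (dt k X).i).obj M ≅ pl k X z E),
    ∃ (v : Te k ⟶ Z) (hv : iT k ≫ v = z) (φ : pl k X v E ≅ M),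
      (Scheme.Modules.pullback (dt k X).i).map φ.hom ≫ ρ.hom = (rv hv E).hom

theorem XTw {T T' T'' : Over (B0 k)} (v : T'' ⟶ T') (o : T' ⟶ T) {v' : T'' ⟶ T} (h : v ≫ o = v') :
   PicF.XTmap (st k X) v ≫ PicF.XTmap (st k X) o = PicF.XTmap (st k X) v' := by
    rw [← Groth.Agent.Fga.RigGrp.XTmap_comp, h]

/-- Descent of the lifting property along `o : T' ⟶ T` when points over `Spec k[ε]` lift. -/
theorem HasLift.comap {T T' : Over (B0 k)} {Q : ∀ T : Over (B0 k), (ModFun.modProb (st k X)).Fam T → Prop}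
    {E : (PicF.XT (st k X) T).Modules} (h : HasLift Q T E) (o : T' ⟶ T)
    {F : (PicF.XT (st k X) T').Modules} (ι : F ≅ pl k X o E)
    (hl : ∀ (z : T0 k ⟶ T') (v' : Te k ⟶ T), iT k ≫ v' = z ≫ o → ∃ v : Te k ⟶ T', v ≫ o = v' ∧ iT k ≫ v = z) :
    HasLift Q T' F := by
  intro z M hM ρ
  obtain ⟨v', hv', φ', hφ'⟩ :=
    h (z ≫ o) M hM (ρ ≪≫ ltr (PicF.XTmap (st k X) z) (PicF.XTmap (st k X) o) (XTw z o rfl) E ι)
  obtain ⟨v, hv1, hv⟩ := hl z v' hv'
  exact ⟨v, hv, ltr (PicF.XTmap (st k X) v) (PicF.XTmap (st k X) o) (XTw v o hv1) E ι ≪≫ φ',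
    lift_step (dt k X).i (PicF.XTmap (st k X) v) (PicF.XTmap (st k X) o) (di_v hv) (XTw v o hv1) (XTw z o rfl)
      (di_v hv') E ι ρ φ' hφ'⟩

theorem surjective_iT (k : Type u) [Field k] : Function.Surjective (iT k).left := by
  have hn : ∀ x : DualNumber k, (TrivSqZeroExt.fstHom k k k).toRingHom x = 0 → IsNilpotent x := by
    intro x hx
    have hx' : x.fst = 0 := hx
    refine ⟨2, ?_⟩
    rw [pow_two]
    ext
    · rw [TrivSqZeroExt.fst_mul, hx', zero_mul]; rfl
    · rw [TrivSqZeroExt.snd_mul, hx']; simp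
  have hs : Function.Surjective (TrivSqZeroExt.fstHom k k k).toRingHom := fun c => ⟨TrivSqZeroExt.inl c, rfl⟩
  have h2 : Function.Surjective (PrimeSpectrum.comap (TrivSqZeroExt.fstHom k k k).toRingHom) := by
    intro p
    have hk : RingHom.ker (TrivSqZeroExt.fstHom k k k).toRingHom ≤ p.asIdeal := by
      intro x hx
      exact p.isPrime.mem_of_pow_mem _ ((hn x hx).choose_spec ▸ p.asIdeal.zero_mem)
    have h3 : p ∈ PrimeSpectrum.zeroLocus (RingHom.ker (TrivSqZeroExt.fstHom k k k).toRingHom : Set (DualNumber k)) :=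
      hk
    rw [← _root_.range_comap_of_surjective _ _ hs] at h3
    exact h3
  exact h2

/-- Points of `Spec k[ε]` over a point of an open lie in the open. -/
theorem exists_lift_opn {Z : Over (B0 k)} {U : Z.left.Opens} (z : T0 k ⟶ opn Z U) (v' : Te k ⟶ Z)
    (hv' : iT k ≫ v' = z ≫ opi Z U) : ∃ v : Te k ⟶ opn Z U, v ≫ opi Z U = v' ∧ iT k ≫ v = z := by
  have hr : Set.range v'.left ⊆ Set.range U.ι := by
    rintro _ ⟨x, rfl⟩
    obtain ⟨y, rfl⟩ := surjective_iT k x
    have h3 : v'.left ((iT k).left y) = (opi Z U).left (z.left y) := by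
      have := congrArg (fun q => q.left y) hv'
      exact this
    rw [h3]
    exact ⟨z.left y, rfl⟩
  let vl : (Te k).left ⟶ (U : Scheme.{u}) := IsOpenImmersion.lift U.ι v'.left hr
  have hvl : vl ≫ U.ι = v'.left := IsOpenImmersion.lift_fac _ _ _
  let v : Te k ⟶ opn Z U := Over.homMk vl (by
    change vl ≫ U.ι ≫ Z.hom = _
    rw [← Category.assoc, hvl]
    exact Over.w v')
  have h1 : v ≫ opi Z U = v' := Over.OverMorphism.ext hvl
  refine ⟨v, h1, ?_⟩
  apply Over.OverMorphism.ext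
  rw [← cancel_mono U.ι]
  have h2 : (iT k ≫ v) ≫ opi Z U = z ≫ opi Z U := by rw [Category.assoc, h1, hv']
  exact congrArg (·.left) h2

/-- Restriction to an open. -/
theorem HasLift.opn {Q : ∀ T : Over (B0 k), (ModFun.modProb (st k X)).Fam T → Prop} {Z : Over (B0 k)}
    {E : (PicF.XT (st k X) Z).Modules} (h : HasLift Q Z E) (U : Z.left.Opens) :
    HasLift Q (opn Z U) (pl k X (opi Z U) E) :=
  h.comap (opi Z U) (Iso.refl _) exists_lift_opn

end K562.LiftPt
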