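import Groth.Agent.VBCurve.K432.MukLaws
import Groth.Prelude.Def_BunMod

/-!
# The admissibility conditions `ussOK`, `ussDetOK` are stable under pull-back and isomorphism

* `fibrewise_iff`, `fibrewise_pull`: conditions on geometric fibres;
* `ussOK_pull`, `ussDetOK_pull`, `ussOK_iso`, `ussDetOK_iso`.
-/

set_option autoImplicit false
set_option backward.isDefEq.respectTransparency false
universe u

open CategoryTheory CategoryTheory.Limits AlgebraicGeometry

namespace K562.OkPull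

open Groth.Agent K432.MukLaws

variable {X S : Scheme.{u}} (f : X ⟶ S)

section Fibrewise

variable (R : ∀ (Ω : Type u) [Field Ω] [IsAlgClosed Ω] (s : Spec (CommRingCat.of Ω) ⟶ S),
  (ModFun.modProb f).Fam (Over.mk s) → Prop)

/-- Conditions on geometric fibres, over all points with values in algebraically closed fields. -/
theorem fibrewise_iff (T : Over S) (E : (PicF.XT f T).Modules) :
    (ModFun.modProb f).Fibrewise R T E ↔
      ∀ (Ω : Type u) [Field Ω] [IsAlgClosed Ω] (s : Spec (CommRingCat.of Ω) ⟶ S) (c : Over.mk s ⟶ T),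
        R Ω s ((Scheme.Modules.pullback (PicF.XTmap f c)).obj E) := by
  constructor
  · intro h Ω _ _ s c
    have key : ∀ (s : Spec (CommRingCat.of Ω) ⟶ S) (t : Spec (CommRingCat.of Ω) ⟶ T.left) (w : t ≫ T.hom = s),
        R Ω s ((Scheme.Modules.pullback (PicF.XTmap f (Over.homMk t w : Over.mk s ⟶ T))).obj E) := by
      rintro s t rfl
      exact h Ω t
    exact key s c.left (Over.w c)
  · intro h Ω _ _ t
    exact h Ω (t ≫ T.hom) (Over.homMk t rfl)

/-- A condition on the fibres which is invariant under isomorphism. -/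
def IsoInv : Prop :=
  ∀ (Ω : Type u) [Field Ω] [IsAlgClosed Ω] (s : Spec (CommRingCat.of Ω) ⟶ S) (E E' : (PicF.XT f (Over.mk s)).Modules),
    Nonempty (E ≅ E') → R Ω s E → R Ω s E'

variable {R}

theorem fibrewise_pull (hR : IsoInv f R) {T T' : Over S} (g : T' ⟶ T) {E : (PicF.XT f T).Modules}
    (h : (ModFun.modProb f).Fibrewise R T E) :
    (ModFun.modProb f).Fibrewise R T' ((Scheme.Modules.pullback (PicF.XTmap f g)).obj E) := by
  rw [fibrewise_iff] at h ⊢
  intro Ω _ _ s c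
  exact hR Ω s _ _ (pull_comp_iso f g c E) (h Ω s (c ≫ g))

theorem fibrewise_iso (hR : IsoInv f R) {T : Over S} {E E' : (PicF.XT f T).Modules} (e : E ≅ E')
    (h : (ModFun.modProb f).Fibrewise R T E) : (ModFun.modProb f).Fibrewise R T E' := by
  rw [fibrewise_iff] at h ⊢
  intro Ω _ _ s c
  exact hR Ω s _ _ ⟨(Scheme.Modules.pullback (PicF.XTmap f c)).mapIso e⟩ (h Ω s c)

end Fibrewise

theorem deg_iso (k : Type u) [Field k] {Y : Scheme.{u}} [Y.Over (Spec (CommRingCat.of k))]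
    {E E' : Y.Modules} (e : E ≅ E') (r : ℕ) : Curv2.deg k Y E r = Curv2.deg k Y E' r := by
  rw [Curv2.deg, Curv2.deg, Fga.HodgePush.euler_congr k Y e]

theorem semistable_of_iso {k : Type u} [Field k] {Y : Scheme.{u}} [Y.Over (Spec (CommRingCat.of k))]
    {E E' : Y.Modules} (e : E ≅ E') {r : ℕ} (h : ModFun.IsSlopeSemistable k Y E r) :
    ModFun.IsSlopeSemistable k Y E' r := by
  intro F r' i hi h1 hF
  have h3 := h F r' (i ≫ e.inv) (mono_comp _ _) h1 hF
  rwa [deg_iso k e] at h3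

theorem isoInv_deg (n : ℕ) (d : ℤ) : IsoInv f (fun Ω _ _ s E =>
    letI : (PicF.XT f (Over.mk s)).Over (Spec (CommRingCat.of Ω)) := ⟨PicF.XTproj f (Over.mk s)⟩
    Curv2.deg Ω (PicF.XT f (Over.mk s)) E n = d) := by
  intro Ω _ _ s E E' ⟨e⟩ h
  let : (PicF.XT f (Over.mk s)).Over (Spec (CommRingCat.of Ω)) := ⟨PicF.XTproj f (Over.mk s)⟩
  exact (deg_iso Ω e n).symm.trans h

theorem isoInv_semistable (n : ℕ) : IsoInv f (fun Ω _ _ s E =>
    letI : (PicF.XT f (Over.mk s)).Over (Spec (CommRingCat.of Ω)) := ⟨PicF.XTproj f (Over.mk s)⟩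
    ModFun.IsSlopeSemistable Ω (PicF.XT f (Over.mk s)) E n) := by
  intro Ω _ _ s E E' ⟨e⟩ h
  let : (PicF.XT f (Over.mk s)).Over (Spec (CommRingCat.of Ω)) := ⟨PicF.XTproj f (Over.mk s)⟩
  exact semistable_of_iso e h

theorem isoInv_stable (n : ℕ) : IsoInv f (fun Ω _ _ s E =>
    letI : (PicF.XT f (Over.mk s)).Over (Spec (CommRingCat.of Ω)) := ⟨PicF.XTproj f (Over.mk s)⟩
    ModFun.IsSlopeStable Ω (PicF.XT f (Over.mk s)) E n) := by
  intro Ω _ _ s E E' ⟨e⟩ h
  let : (PicF.XT f (Over.mk s)).Over (Spec (CommRingCat.of Ω)) := ⟨PicF.XTproj f (Over.mk s)⟩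
  exact stable_of_iso e h

theorem isFinLocFreeOfRank_of_iso {Y : Scheme.{u}} {M N : Y.Modules} {r : ℕ} (e : M ≅ N)
    (h : FlatMod.IsFinLocFreeOfRank r M) : FlatMod.IsFinLocFreeOfRank r N := by
  intro x
  obtain ⟨U, hx, ⟨a⟩⟩ := h x
  exact ⟨U, hx, ⟨((Scheme.Modules.restrictFunctor U.ι).mapIso e).symm ≪≫ a⟩⟩

/-- Admissible families of semistable bundles are stable under pull-back. -/
theorem ussOK_pull {r : ℕ} {d : ℤ} {T T' : Over S} (g : T' ⟶ T) {E : (PicF.XT f T).Modules}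
    (h : BunMod.ussOK f r d T E) :
    BunMod.ussOK f r d T' ((Scheme.Modules.pullback (PicF.XTmap f g)).obj E) :=
  ⟨Krr.H482.PullLambda.isFinLocFreeOfRank_pullback _ h.1, fibrewise_pull f (isoInv_deg f r d) g h.2.1,
    fibrewise_pull f (isoInv_semistable f r) g h.2.2⟩

theorem ussOK_iso {r : ℕ} {d : ℤ} {T : Over S} {E E' : (PicF.XT f T).Modules} (e : E ≅ E')
    (h : BunMod.ussOK f r d T E) : BunMod.ussOK f r d T E' :=
  ⟨isFinLocFreeOfRank_of_iso e h.1, fibrewise_iso f (isoInv_deg f r d) e h.2.1,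
    fibrewise_iso f (isoInv_semistable f r) e h.2.2⟩

/-- Admissible families of semistable bundles with fixed determinant are stable under pull-back. -/
theorem ussDetOK_pull {r : ℕ} {L : X.Modules} {T T' : Over S} (g : T' ⟶ T) {E : (PicF.XT f T).Modules}
    (h : BunMod.ussDetOK f r L T E) :
    BunMod.ussDetOK f r L T' ((Scheme.Modules.pullback (PicF.XTmap f g)).obj E) :=
  ⟨Krr.H482.PullLambda.isFinLocFreeOfRank_pullback _ h.1, detIs_pull f L g h.1 h.2.1,
    fibrewise_pull f (isoInv_semistable f r) g h.2.2⟩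

end K562.OkPull
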