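import Groth.Agent.BunMod.K562.DetRad
import Groth.Agent.BunMod.K140.Defs3
import Groth.Agent.Dix.NormalLoc
import Groth.Prelude.Def_BlowUp2
import Groth.Prelude.Def_Pi1

/-!
# Ideal sheaves on smooth schemes given locally by determinants with large first order variation

`OntoOn Z U d`: the hypothesis of `K562.DetRad.main_dual` for a square matrix `d` over `Γ(Z, U)`.

* `OntoOn.basicOpen`: it is inherited by basic opens;
* `main`: on a scheme `Z` smooth over `k`, an ideal sheaf which is generated by such determinants locally is radical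
  and an effective Cartier ideal.
-/

set_option autoImplicit false

universe u

open CategoryTheory CategoryTheory.Limits AlgebraicGeometry TopologicalSpace

namespace K562.LocRad

open K140.BM Matrix

variable {k : Type u} [Field k] (Z : Over (B0 k))

/-- The hypothesis of `K562.DetRad.main_dual` for a matrix over `Γ(Z, U)`. -/
def OntoOn (U : Z.left.Opens) {n : ℕ} (d : Matrix (Fin n) (Fin n) Γ(Z.left, U)) : Prop :=
  letI := algOn Z U
  ∀ (m : Γ(Z.left, U) →ₐ[k] k) (s : Fin n → k), s ≠ 0 → d.map m *ᵥ s = 0 → ∀ t : Fin n → k,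
    ∃ (v : Γ(Z.left, U) →ₐ[k] DualNumber k) (c : Fin n → k), (∀ x, (v x).fst = m x) ∧
      (fun i => ∑ j, (v (d i j)).snd * s j) = t + d.map m *ᵥ c

/-- Restriction of functions. -/
noncomputable def res {U V : Z.left.Opens} (h : V ≤ U) : Γ(Z.left, U) →+* Γ(Z.left, V) :=
  (Z.left.presheaf.map (homOfLE h).op).hom

theorem res_algebraMap {U V : Z.left.Opens} (h : V ≤ U) (x : k) :
    res Z h ((algOn Z U).algebraMap x) = (algOn Z V).algebraMap x := by
  have h1 : Z.hom.appLE ⊤ U le_top ≫ Z.left.presheaf.map (homOfLE h).op = Z.hom.appLE ⊤ V le_top :=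
    Scheme.Hom.appLE_map _ _ _
  exact congrArg (fun q : Γ(B0 k, ⊤) ⟶ Γ(Z.left, V) => q ((Scheme.ΓSpecIso (CommRingCat.of k)).inv x)) h1

/-- Points of a localization. -/
theorem loc_aux {R S : Type u} [CommRing R] [CommRing S] [Algebra k R] [Algebra k S] [Algebra R S]
    [IsScalarTower k R S] (f : R) [IsLocalization.Away f S] {n : ℕ} (d : Matrix (Fin n) (Fin n) R)
    (h : ∀ (m : R →ₐ[k] k) (s : Fin n → k), s ≠ 0 → d.map m *ᵥ s = 0 → ∀ t : Fin n → k,
      ∃ (v : R →ₐ[k] DualNumber k) (c : Fin n → k), (∀ x, (v x).fst = m x) ∧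
        (fun i => ∑ j, (v (d i j)).snd * s j) = t + d.map m *ᵥ c)
    (m : S →ₐ[k] k) (s : Fin n → k) (hs : s ≠ 0) (hd : (d.map (algebraMap R S)).map m *ᵥ s = 0)
    (t : Fin n → k) :
    ∃ (v : S →ₐ[k] DualNumber k) (c : Fin n → k), (∀ x, (v x).fst = m x) ∧
      (fun i => ∑ j, (v ((d.map (algebraMap R S)) i j)).snd * s j) = t + (d.map (algebraMap R S)).map m *ᵥ c := by
  let m₀ : R →ₐ[k] k := m.comp (IsScalarTower.toAlgHom k R S)
  have h0 : (d.map (algebraMap R S)).map m = d.map m₀ := by ext i j; rfl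
  rw [h0] at hd ⊢
  obtain ⟨v, c, hv, hc⟩ := h m₀ s hs hd t
  have hu : ∀ y : Submonoid.powers f, IsUnit (v y) := by
    rintro ⟨_, N, rfl⟩
    have h1 : IsUnit (m₀ f) := ((IsLocalization.Away.algebraMap_isUnit f (S := S)).map m)
    have h2 : IsUnit (v f) := by
      rw [TrivSqZeroExt.isUnit_iff_isUnit_fst, hv]
      exact h1
    rw [map_pow]
    exact h2.pow N
  refine ⟨IsLocalization.liftAlgHom (M := Submonoid.powers f) (f := v) hu, c, ?_, ?_⟩
  · have h3 : ((TrivSqZeroExt.fstHom k k k).comp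
        (IsLocalization.liftAlgHom (M := Submonoid.powers f) (f := v) hu : S →ₐ[k] DualNumber k)) = m := by
      apply IsLocalization.algHom_ext (Submonoid.powers f)
      ext x
      change TrivSqZeroExt.fst (IsLocalization.lift hu (algebraMap R S x)) = m (algebraMap R S x)
      rw [IsLocalization.lift_eq]
      exact hv x
    intro x
    exact DFunLike.congr_fun h3 x
  · rw [← hc]
    funext i
    refine Finset.sum_congr rfl fun j _ => ?_
    congr 2
    exact IsLocalization.lift_eq hu _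

variable {Z}

/-- The condition is inherited by basic opens. -/
theorem OntoOn.basicOpen {U : Z.left.Opens} (hU : IsAffineOpen U) {n : ℕ}
    {d : Matrix (Fin n) (Fin n) Γ(Z.left, U)} (h : OntoOn Z U d) (f : Γ(Z.left, U)) :
    OntoOn Z (Z.left.basicOpen f) (d.map (res Z (Z.left.basicOpen_le f))) := by
  let _ := algOn Z U
  let _ := algOn Z (Z.left.basicOpen f)
  let _ : Algebra Γ(Z.left, U) Γ(Z.left, Z.left.basicOpen f) := (res Z (Z.left.basicOpen_le f)).toAlgebra
  have _ : IsScalarTower k Γ(Z.left, U) Γ(Z.left, Z.left.basicOpen f) :=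
    IsScalarTower.of_algebraMap_eq fun x => (res_algebraMap Z (Z.left.basicOpen_le f) x).symm
  have _ : IsLocalization.Away f Γ(Z.left, Z.left.basicOpen f) :=
    hU.isLocalization_of_eq_basicOpen f (homOfLE (Z.left.basicOpen_le f)) rfl
  intro m s hs hd t
  exact loc_aux f d h m s hs hd t

/-- Sections over an affine open are of finite type. -/
theorem finiteType [LocallyOfFiniteType Z.hom] {U : Z.left.Opens} (hU : IsAffineOpen U) :
    letI := algOn Z U
    Algebra.FiniteType k Γ(Z.left, U) := by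
  have h1 : (Z.hom.appLE ⊤ U le_top).hom.FiniteType :=
    HasRingHomProperty.appLE @LocallyOfFiniteType Z.hom inferInstance ⟨⊤, isAffineOpen_top _⟩ ⟨U, hU⟩ le_top
  have h2 : (Scheme.ΓSpecIso (CommRingCat.of k)).inv.hom.FiniteType :=
    RingHom.FiniteType.of_surjective _ (ConcreteCategory.bijective_of_isIso
      (Scheme.ΓSpecIso (CommRingCat.of k)).inv).2
  exact h1.comp h2

theorem isIntegrallyClosed_section {Y : Scheme.{u}} (hY : Pi1.IsNormalScheme Y) {U : Y.Opens} (hU : IsAffineOpen U)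
    [IsDomain Γ(Y, U)] : IsIntegrallyClosed Γ(Y, U) := by
  apply IsIntegrallyClosed.of_localization_maximal
  intro P hP hPm
  let z : PrimeSpectrum Γ(Y, U) := ⟨P, hPm.isPrime⟩
  have hzU : hU.fromSpec z ∈ U := by
    have h1 : hU.fromSpec z ∈ Set.range hU.fromSpec := ⟨z, rfl⟩
    rwa [hU.range_fromSpec] at h1
  have hpz : hU.primeIdealOf ⟨hU.fromSpec z, hzU⟩ = z :=
    hU.fromSpec.isOpenEmbedding.injective (hU.fromSpec_primeIdealOf ⟨hU.fromSpec z, hzU⟩)
  let _ := Y.presheaf.algebra_section_stalk ⟨hU.fromSpec z, hzU⟩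
  have hloc := hU.isLocalization_stalk ⟨hU.fromSpec z, hzU⟩
  rw [hpz] at hloc
  have hloc' : IsLocalization.AtPrime (Y.presheaf.stalk (hU.fromSpec z)) P := hloc
  have h2 := (hY (hU.fromSpec z)).2
  exact IsIntegrallyClosed.of_equiv
    (IsLocalization.algEquiv P.primeCompl (Y.presheaf.stalk (hU.fromSpec z)) (Localization.AtPrime P)).toRingEquiv

/-- In a normal locally noetherian scheme every point of an affine open has a basic open neighbourhood whose ring of
sections is a normal domain. -/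
theorem exists_basicOpen {Y : Scheme.{u}} [IsLocallyNoetherian Y] (hY : Pi1.IsNormalScheme Y) {U : Y.Opens}
    (hU : IsAffineOpen U) (y : Y) (hy : y ∈ U) : ∃ f : Γ(Y, U), y ∈ Y.basicOpen f ∧
      IsDomain Γ(Y, Y.basicOpen f) ∧ IsIntegrallyClosed Γ(Y, Y.basicOpen f) := by
  have := (hY y).1
  obtain ⟨W, hyW, hWU, hW, hdom⟩ := Groth.Agent.Dix.NormalLoc.exists_isDomain_affine_nhds Y y U hy
  obtain ⟨f, hfW, hyf⟩ := hU.exists_basicOpen_le ⟨y, hyW⟩ hy
  have hne : Nonempty (Y.basicOpen f) := ⟨⟨y, hyf⟩⟩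
  have hD : IsDomain Γ(Y, Y.basicOpen f) := by
    let g : Γ(Y, W) := Y.presheaf.map (homOfLE hWU).op f
    have hg : Y.basicOpen g = Y.basicOpen f := by
      rw [Scheme.basicOpen_res]
      exact inf_eq_right.mpr hfW
    have hloc := hW.isLocalization_of_eq_basicOpen g (homOfLE hfW) hg.symm
    let _ := (Y.presheaf.map (homOfLE hfW).op).hom.toAlgebra
    have hg0 : g ≠ 0 := by
      rintro h0
      rw [h0, Scheme.basicOpen_zero] at hg
      rw [← hg] at hyf
      exact hyf
    exact IsLocalization.isDomain_of_le_nonZeroDivisors (R := Γ(Y, W)) (M := Submonoid.powers g) _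
      (powers_le_nonZeroDivisors_of_noZeroDivisors hg0)
  refine ⟨f, hyf, hD, isIntegrallyClosed_section hY (hU.basicOpen f)⟩

theorem isNormal [Smooth Z.hom] : Pi1.IsNormalScheme Z.left :=
  fun x => Groth.Agent.Dix.NormalLoc.stalk_of_smooth Z.hom x

/-- **Radicality.** -/
theorem main [IsAlgClosed k] [Smooth Z.hom] (θ : Z.left.IdealSheafData)
    (h : ∀ z : Z.left, ∃ (U : Z.left.affineOpens) (_ : z ∈ U.1) (n : ℕ)
      (d : Matrix (Fin n) (Fin n) Γ(Z.left, U.1)), θ.ideal U = Ideal.span {d.det} ∧ OntoOn Z U.1 d) :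
    θ.radical = θ ∧ BlowUp.IsEffCartierIdeal θ := by
  have hN : IsLocallyNoetherian Z.left := by
    have : IsLocallyNoetherian (B0 k) := inferInstance
    exact LocallyOfFiniteType.isLocallyNoetherian Z.hom
  have hZ : Pi1.IsNormalScheme Z.left := isNormal
  have key : ∀ z : Z.left, ∃ (W : Z.left.affineOpens) (_ : z ∈ W.1) (f : Γ(Z.left, W.1)),
      f ∈ nonZeroDivisors Γ(Z.left, W.1) ∧ θ.ideal W = Ideal.span {f} ∧ (Ideal.span {f}).IsRadical := by
    intro z
    obtain ⟨U, hzU, n, d, hd, hO⟩ := h z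
    obtain ⟨f, hzf, hdom, hic⟩ := exists_basicOpen hZ U.2 z hzU
    let W : Z.left.affineOpens := ⟨Z.left.basicOpen f, U.2.basicOpen f⟩
    let dW := d.map (res Z (Z.left.basicOpen_le f))
    have hOW : OntoOn Z W.1 dW := hO.basicOpen U.2 f
    let _ := algOn Z W.1
    have hft : Algebra.FiniteType k Γ(Z.left, W.1) := finiteType W.2
    have hdom' : IsDomain Γ(Z.left, W.1) := hdom
    have hic' : IsIntegrallyClosed Γ(Z.left, W.1) := hic
    obtain ⟨h1, h2, -⟩ := DetRad.main_dual (k := k) dW hOW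
    refine ⟨W, hzf, dW.det, mem_nonZeroDivisors_of_ne_zero h1, ?_, h2⟩
    have h3 : dW.det = res Z (Z.left.basicOpen_le f) d.det := (RingHom.map_det _ _).symm
    rw [h3]
    have h4 := θ.map_ideal_basicOpen U f
    rw [hd, Ideal.map_span, Set.image_singleton] at h4
    exact h4.symm
  constructor
  · choose W hW f hf using key
    refine Scheme.IdealSheafData.ext_of_iSup_eq_top W ?_ ?_
    · rw [eq_top_iff]
      intro z _
      exact Opens.mem_iSup.mpr ⟨z, hW z⟩
    · intro z
      change (θ.ideal (W z)).radical = θ.ideal (W z)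
      rw [(hf z).2.1]
      exact (hf z).2.2.radical
  · intro z
    obtain ⟨W, hW, f, h1, h2, -⟩ := key z
    exact ⟨W, hW, f, h1, h2⟩

end K562.LocRad
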