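import Groth.Agent.BunMod.K822.XTD
import Groth.Agent.BunMod.K774.D1
import Groth.Agent.BunMod.K977.Trless
import Groth.Agent.BunMod.K977.Adm
import Groth.Agent.BunMod.K977.Fam
import Groth.Agent.Krr.H482.PullFinal

/-!
# Admissible first order deformations with prescribed connecting map

* `det_ES`: the module over `X[ε]` of a traceless Čech extension has constant determinant.
* `Adm Q E₀ N₀`: for `0 ≠ s ∈ H⁰(E₀ ⊗ N₀)` and `β ∈ H¹(E₀ ⊗ N₀)` there is an extension of `E₀` by `E₀` with connecting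
  map `s ↦ β` whose family over `Spec k[ε]` is admissible.
* `uss`, `ussDet`: this holds for semistable bundles of rank `≥ 1`, resp. with fixed determinant of rank `≥ 2`.
-/

set_option autoImplicit false

universe w u

open CategoryTheory CategoryTheory.Limits AlgebraicGeometry TopologicalSpace Opposite

namespace K562.AdmExt

open Groth.Agent.Sga67 Groth.Agent.Sga67.Sec Groth.Agent.Sga67.LocBasis Groth.Agent.Krr.H487.LocBasisPull
open Groth.Agent.PerfC.ExtZero (TF)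
open Groth.Agent.PerfA.TFMV K774.LocHom K774.CechExt K774.Sec
open K140.BM K822 K822.EMod K822.Nine K822.XTD
open Groth.Agent.CohqB.HSeqMod (hmap δ δ_naturality)

section Det

variable {k : Type u} [Field k] {X Y : Scheme.{u}} (D : DT k X Y)

/-- The homomorphism on sections over the opens in `U`. -/
noncomputable def ph {U : X.Opens} {A B : X.Modules} (s : (TF U).obj A ⟶ B) : K977.Trless.PartHom U A B where
  f _ hV := sec s hV
  res_f _ _ hV h x := sec_rs s hV h x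

theorem ph_f {U : X.Opens} {A B : X.Modules} (s : (TF U).obj A ⟶ B) (V : X.Opens) (hV : V ≤ U) (x : Sec A V) :
    (ph s).f V hV x = sec s hV x := rfl

theorem ph_split {U : X.Opens} {A G : X.Modules} (s : (TF U).obj A ⟶ G) (π : G ⟶ A) (h : s ≫ π = inc U A)
    (V : X.Opens) (hV : V ≤ U) (x : Sec A V) : appS π V ((ph s).f V hV x) = x := by
  rw [ph_f]
  refine (sec_comp s π hV x).symm.trans ?_
  rw [h, ← Category.comp_id (inc U A), sec_incl]
  rfl

theorem ph_sub {U V : X.Opens} {A G : X.Modules} (s : (TF U).obj A ⟶ G) (t : (TF V).obj A ⟶ G)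
    (φ : (TF (U ⊓ V)).obj A ⟶ A) (j : A ⟶ G)
    (h : mapLE inf_le_left A ≫ s - mapLE inf_le_right A ≫ t = φ ≫ j)
    (W : X.Opens) (hW : W ≤ U ⊓ V) (x : Sec A W) :
    (ph s).f W (hW.trans inf_le_left) x - (ph t).f W (hW.trans inf_le_right) x = appS j W ((ph φ).f W hW x) := by
  rw [ph_f, ph_f, ph_f]
  refine Eq.trans ?_ (sec_comp φ j hW x)
  rw [← h, ← sec_mapLE inf_le_left s hW, ← sec_mapLE inf_le_right t hW]
  rfl

theorem isQCoh_of_locFree {E : X.Modules} {r : ℕ} (hE : FlatMod.IsFinLocFreeOfRank r E) : Coh.IsQCoh E :=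
  K774.D1.isQCoh (K774.D1.isFinLocFree hE)

/-- The map `G ⟶ q_* ES`. -/
noncomputable def rh {G : X.Modules} (e : G ⟶ G) (V : X.Opens) : Sec G V →+ Sec (D.ES e) (D.q ⁻¹ᵁ V) :=
  ((appS (D.ta e) (D.q ⁻¹ᵁ V)).toAddMonoidHom).comp (pbS D.q G (U := V))

theorem rh_apply {G : X.Modules} (e : G ⟶ G) (V : X.Opens) (g : Sec G V) :
    rh D e V g = appS (D.ta e) (D.q ⁻¹ᵁ V) (pbS D.q G g) := rfl

theorem rh_smul {G : X.Modules} (e : G ⟶ G) (V : X.Opens) (a : Γ(X, V)) (g : Sec G V) :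
    rh D e V (a • g) = (D.q.app V a : Γ(Y, D.q ⁻¹ᵁ V)) • rh D e V g := by
  rw [rh_apply, rh_apply, pbS_smul, map_smul]

theorem rh_res {G : X.Modules} (e : G ⟶ G) (V W : X.Opens) (h : W ≤ V) (g : Sec G V) :
    rh D e W (res G h g) = res (D.ES e) (D.q.preimage_mono h) (rh D e V g) := by
  rw [rh_apply, rh_apply, ← appS_res, res_pbS]

theorem rh_eps {E G : X.Modules} (j : E ⟶ G) (π : G ⟶ E) (V : X.Opens) (g : Sec G V) :
    rh D (π ≫ j) V (appS j V (appS π V g)) = (resO Y le_top D.ep : Γ(Y, D.q ⁻¹ᵁ V)) • rh D (π ≫ j) V g := by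
  rw [rh_apply, rh_apply, ← appS_comp, ← D.appS_eM_ta, ← map_smul]
  rfl

/-- `K977.Trless.det_iso` for `ES`. -/
theorem det_ES' {E G : X.Modules} {r : ℕ} (hE : FlatMod.IsFinLocFreeOfRank r E) {j : E ⟶ G} {π : G ⟶ E}
    {w : j ≫ π = 0} (hS : (ShortComplex.mk j π w).ShortExact) {U V : X.Opens} (hUV : U ⊔ V = ⊤)
    {b : Fin r → Sec E V} (hb : IsLocBasis b) (φ : (TF (U ⊓ V)).obj E ⟶ E)
    (s : (TF U).obj E ⟶ G) (t : (TF V).obj E ⟶ G) (hs : s ≫ π = inc U E) (ht : t ≫ π = inc V E)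
    (hst : mapLE inf_le_left E ≫ s - mapLE inf_le_right E ≫ t = φ ≫ j)
    (Φ : Matrix (Fin r) (Fin r) Γ(X, U ⊓ V)) (htr : Φ.trace = 0)
    (hΦ : ∀ l, (ph φ).f (U ⊓ V) le_rfl (res E inf_le_right (b l)) = ∑ m, Φ l m • res E inf_le_right (b m))
    {D₀ : X.Modules} (hD : ExtPow.IsExtPow r E D₀) {D' : Y.Modules}
    (hD' : ExtPow.IsExtPow r (D.ES (π ≫ j)) D') :
    Nonempty (D' ≅ (Scheme.Modules.pullback D.q).obj D₀) := by
  have H : IsEM (π ≫ j) π := IsEM.of_shortExact hS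
  have hG : Coh.IsQCoh G :=
    Groth.Agent.CohqB.QC6.isQCoh_of_shortExact₂ hS (isQCoh_of_locFree hE) (isQCoh_of_locFree hE)
  have hM := D.isFinLocFreeOfRank_ES hG H hE
  have := D.isAffineHom_q
  exact K977.Trless.det_iso D.q D.ep j π (rh D (π ≫ j)) (rh_smul D (π ≫ j)) (rh_res D (π ≫ j)) (rh_eps D j π) U V
    (ph s) (ph t) (ph φ) (ph_split s π hs) (ph_split t π ht) (ph_sub s t φ j hst) b Φ hΦ D.eps_eps htr hUV hb hE hM
    (fun V b g hb hg => D.isLocBasis_ES hG H hb g hg) hD hD'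

theorem exists_matrix {E : X.Modules} {r : ℕ} {U V : X.Opens} {b : Fin r → Γ(E, V)}
    (hb : Groth.Agent.VarietyB.TensLoc.IsBasis E V b)
    (φ : (TF (U ⊓ V)).obj E ⟶ E)
    (htr : LinearMap.trace Γ(X, (U ⊓ V : X.Opens)) Γ(E, U ⊓ V) (sec φ le_rfl) = 0) :
    ∃ Φ : Matrix (Fin r) (Fin r) Γ(X, U ⊓ V), Φ.trace = 0 ∧
      ∀ l, sec φ le_rfl (rs E inf_le_right (b l)) = ∑ m, Φ l m • rs E inf_le_right (b m) := by
  classical
  let B := hb.basis (inf_le_right : U ⊓ V ≤ V)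
  have hB : ∀ i, B i = rs E inf_le_right (b i) :=
    Groth.Agent.VarietyB.TensLoc.IsBasis.basis_apply hb (inf_le_right : U ⊓ V ≤ V)
  refine ⟨(LinearMap.toMatrix B B (sec φ le_rfl)).transpose, ?_, fun l => ?_⟩
  · rw [Matrix.trace_transpose, ← LinearMap.trace_eq_matrix_trace]
    exact htr
  · rw [← hB]
    refine (B.sum_repr (sec φ le_rfl (B l))).symm.trans (Finset.sum_congr rfl fun m _ => ?_)
    rw [hB m, Matrix.transpose_apply, LinearMap.toMatrix_apply]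

/-- The module of a traceless Čech extension has constant determinant. -/
theorem det_ES {E : X.Modules} {r : ℕ} (hE : FlatMod.IsFinLocFreeOfRank r E) {U V : X.Opens} (hUV : U ⊔ V = ⊤)
    {b : Fin r → Γ(E, V)} (hb : Groth.Agent.VarietyB.TensLoc.IsBasis E V b) (φ : (TF (U ⊓ V)).obj E ⟶ E)
    (htr : LinearMap.trace Γ(X, (U ⊓ V : X.Opens)) Γ(E, U ⊓ V) (sec φ le_rfl) = 0)
    {D₀ : X.Modules} (hD : ExtPow.IsExtPow r E D₀) {G : X.Modules} {j : E ⟶ G} {π : G ⟶ E}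
    {w : j ≫ π = 0} (hS : (ShortComplex.mk j π w).ShortExact) (L : Loc U V (ShortComplex.mk j π w) φ) {D' : Y.Modules}
    (hD' : ExtPow.IsExtPow r (D.ES (π ≫ j)) D') :
    Nonempty (D' ≅ (Scheme.Modules.pullback D.q).obj D₀) := by
  obtain ⟨Φ, h1, h2⟩ := exists_matrix hb φ htr
  exact det_ES' D hE hS hUV hb φ L.s L.t L.hs L.ht L.sub Φ h1 h2 hD hD'

end Det

section Curve

variable (k : Type u) [Field k] (X : Scheme.{u}) [X.Over (Spec (CommRingCat.of k))]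

/-- `X_{Spec k} ≅ X`. -/
noncomputable def xiso : PicF.XT (st k X) (T0 k) ≅ X :=
  have : IsIso (pullback.fst (st k X) (T0 k).hom) := inferInstanceAs (IsIso (pullback.fst (st k X) (𝟙 (B0 k))))
  asIso (pullback.fst (st k X) (T0 k).hom)

theorem isIntegral_XT0 [IsIntegral X] : IsIntegral (PicF.XT (st k X) (T0 k)) := by
  have : Nonempty (PicF.XT (st k X) (T0 k)) := ⟨(xiso k X).inv (Classical.arbitrary X)⟩
  exact isIntegral_of_isOpenImmersion (xiso k X).hom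

theorem isSeparated_XT0 [IsProper (X ↘ Spec (CommRingCat.of k))] : (PicF.XT (st k X) (T0 k)).IsSeparated :=
  ⟨by
    have h : IsSeparated (pullback.snd (st k X) (T0 k).hom) := inferInstance
    change IsSeparated (terminal.from (pullback (st k X) (T0 k).hom))
    rw [← terminal.comp_from (pullback.snd (st k X) (T0 k).hom)]
    have : IsSeparated (terminal.from (T0 k).left) := inferInstanceAs (IsSeparated (terminal.from (Spec _)))
    infer_instance⟩

theorem isNoetherian_XT0 [IsProper (X ↘ Spec (CommRingCat.of k))] : IsNoetherian (PicF.XT (st k X) (T0 k)) := by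
  have : IsLocallyNoetherian X := LocallyOfFiniteType.isLocallyNoetherian (X ↘ Spec (CommRingCat.of k))
  have : IsLocallyNoetherian (PicF.XT (st k X) (T0 k)) :=
    LocallyOfFiniteType.isLocallyNoetherian (xiso k X).hom
  have hc : CompactSpace X := QuasiCompact.compactSpace_of_compactSpace (X ↘ Spec (CommRingCat.of k))
  have : CompactSpace (PicF.XT (st k X) (T0 k)) := (Scheme.homeoOfIso (xiso k X)).symm.compactSpace
  exact {}

theorem dim_XT0 : topologicalKrullDim (PicF.XT (st k X) (T0 k)) = topologicalKrullDim X :=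
  IsHomeomorph.topologicalKrullDim_eq _ (Scheme.homeoOfIso (xiso k X)).isHomeomorph

end Curve

variable {k : Type u} [Field k] {X : Scheme.{u}} [X.Over (Spec (CommRingCat.of k))]

/-- Extensions with prescribed connecting map and admissible family. -/
def Adm (Q : ∀ T : Over (B0 k), (ModFun.modProb (st k X)).Fam T → Prop)
    (E₀ N₀ : (PicF.XT (st k X) (T0 k)).Modules) : Prop :=
  ∀ (s : Coh.HH _ ((K774.D1.tw N₀).obj E₀) 0) (_ : s ≠ 0) (β : Coh.HH _ ((K774.D1.tw N₀).obj E₀) 1),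
    ∃ (G : (PicF.XT (st k X) (T0 k)).Modules) (f : E₀ ⟶ G) (g : G ⟶ E₀) (w : f ≫ g = 0)
      (_ : (ShortComplex.mk f g w).ShortExact)
      (hSN : ((ShortComplex.mk f g w).map (K774.D1.tw N₀)).ShortExact),
      δ hSN 0 s = β ∧ Q (Te k) ((dt k X).ES (g ≫ f))

theorem exists_fac_iT (Ω : Type u) [Field Ω] (t : Spec (CommRingCat.of Ω) ⟶ (Te k).left) :
    ∃ t₀ : Spec (CommRingCat.of Ω) ⟶ (T0 k).left, t₀ ≫ (iT k).left = t := by
  refine K977.Fam.exists_fac (TrivSqZeroExt.fstHom k k k).toRingHom (fun c => ⟨TrivSqZeroExt.inl c, rfl⟩) ?_ t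
  intro x hx
  have hx' : x.fst = 0 := hx
  refine ⟨2, ?_⟩
  rw [pow_two]
  ext
  · rw [TrivSqZeroExt.fst_mul, hx', zero_mul]; rfl
  · rw [TrivSqZeroExt.snd_mul, hx']; simp

/-- `i^* ES ≅ E₀`. -/
theorem nonempty_iso {E₀ G : (PicF.XT (st k X) (T0 k)).Modules} {f : E₀ ⟶ G} {g : G ⟶ E₀} {w : f ≫ g = 0}
    (hS : (ShortComplex.mk f g w).ShortExact) {r : ℕ} (hE : FlatMod.IsFinLocFreeOfRank r E₀) :
    Nonempty ((Scheme.Modules.pullback (PicF.XTmap (st k X) (iT k))).obj ((dt k X).ES (g ≫ f)) ≅ E₀) := by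
  have H : IsEM (g ≫ f) g := IsEM.of_shortExact hS
  have hG : Coh.IsQCoh G :=
    Groth.Agent.CohqB.QC6.isQCoh_of_shortExact₂ hS (isQCoh_of_locFree hE) (isQCoh_of_locFree hE)
  have h := (dt k X).isIso_rho hG H
  exact ⟨@asIso _ _ _ _ ((dt k X).rho g H.w) h⟩

theorem rank_ES {E₀ G : (PicF.XT (st k X) (T0 k)).Modules} {f : E₀ ⟶ G} {g : G ⟶ E₀} {w : f ≫ g = 0}
    (hS : (ShortComplex.mk f g w).ShortExact) {r : ℕ} (hE : FlatMod.IsFinLocFreeOfRank r E₀) :
    FlatMod.IsFinLocFreeOfRank r ((dt k X).ES (g ≫ f)) :=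
  (dt k X).isFinLocFreeOfRank_ES (Groth.Agent.CohqB.QC6.isQCoh_of_shortExact₂ hS (isQCoh_of_locFree hE)
    (isQCoh_of_locFree hE)) (IsEM.of_shortExact hS) hE

/-- The semistable families. -/
theorem uss [IsIntegral X] [IsProper (X ↘ Spec (CommRingCat.of k))] (hdim : topologicalKrullDim X ≤ 1) {r : ℕ}
    (hr : 1 ≤ r) {d : ℤ} {E₀ N₀ : (PicF.XT (st k X) (T0 k)).Modules} (hE : BunMod.ussOK (st k X) r d (T0 k) E₀)
    (hN : PicF.IsInvertible N₀) : Adm (BunMod.ussOK (st k X) r d) E₀ N₀ := by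
  intro s hs β
  have i1 := isIntegral_XT0 k X
  have i2 := isSeparated_XT0 k X
  have i3 := isNoetherian_XT0 k X
  obtain ⟨n, rfl⟩ : ∃ n, r = n + 1 := ⟨r - 1, by omega⟩
  obtain ⟨G, f, g, w, hS, hSN, hδ⟩ := K774.D1.exists_ses ((dim_XT0 k X).trans_le hdim) hE.1 hN s hs β
  exact ⟨G, f, g, w, hS, hSN, hδ, rank_ES hS hE.1,
    K977.Fam.fibDeg_of_thick _ (iT k) exists_fac_iT (nonempty_iso hS hE.1) hE.2.1,
    K977.Fam.fibSemistable_of_thick _ (iT k) exists_fac_iT (nonempty_iso hS hE.1) hE.2.2⟩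

/-- The semistable families with fixed determinant. -/
theorem ussDet [IsIntegral X] [IsProper (X ↘ Spec (CommRingCat.of k))] (hdim : topologicalKrullDim X ≤ 1) {r : ℕ}
    (hr : 2 ≤ r) {L : X.Modules} {E₀ N₀ : (PicF.XT (st k X) (T0 k)).Modules}
    (hE : BunMod.ussDetOK (st k X) r L (T0 k) E₀)
    (hN : PicF.IsInvertible N₀) : Adm (BunMod.ussDetOK (st k X) r L) E₀ N₀ := by
  intro s hs β
  have i1 := isIntegral_XT0 k X
  have i2 := isSeparated_XT0 k X
  have i3 := isNoetherian_XT0 k X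
  obtain ⟨n, rfl⟩ : ∃ n, r = n + 2 := ⟨r - 2, by omega⟩
  obtain ⟨U, V, hU, hV, hUV, b, hb, φ, hSN, htr, hδ⟩ :=
    K774.D1.exists_traceless ((dim_XT0 k X).trans_le hdim) hE.1 hN s hs β
  have hS := shortExact_Sx hUV φ
  obtain ⟨D', hD'⟩ := Groth.Agent.Krr.H482.PullFinal.exists_isExtPow' _ (n + 2)
    ((dt k X).ES ((Sx U V φ).g ≫ (Sx U V φ).f)) (K774.D1.isFinLocFree (rank_ES (w := (Sx U V φ).zero) hS hE.1))
  obtain ⟨D₀, hD₀, M, hM, ⟨eM⟩⟩ := hE.2.1
  obtain ⟨e1⟩ := det_ES (dt k X) hE.1 hUV hb φ htr hD₀ (w := (Sx U V φ).zero) hS (locSx U V φ) hD'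
  refine ⟨_, (Sx U V φ).f, (Sx U V φ).g, (Sx U V φ).zero, hS, hSN, hδ, rank_ES (w := (Sx U V φ).zero) hS hE.1, ?_,
    K977.Fam.fibSemistable_of_thick _ (iT k) exists_fac_iT (nonempty_iso (w := (Sx U V φ).zero) hS hE.1) hE.2.2⟩
  refine ⟨D', hD', (Scheme.Modules.pullback (qT k).left).obj M,
    Groth.Agent.Fdesc.LocGen.isInvertible_pullback _ hM, ⟨e1 ≪≫ ?_⟩⟩
  refine (Scheme.Modules.pullback _).mapIso eM ≪≫ K977.Lift.pullTens _ _ _ ≪≫
    K977.Lift.tensIso (K977.Fam.plCst (qT k) L) ?_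
  exact (Scheme.Modules.pullbackComp _ _).app M ≪≫
    (Scheme.Modules.pullbackCongr (K977.Fam.XTmap_snd (st k X) (qT k))).app M ≪≫
    (Scheme.Modules.pullbackComp _ _).symm.app M

end K562.AdmExt
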