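import Groth.Agent.BunMod.K822.OntoX
import Groth.Agent.BunMod.K54.UB
import Groth.Agent.BunMod.K562.AdmExt
import Groth.Agent.BunMod.K562.LiftPt
import Groth.Agent.BunMod.K562.LocRad

/-!
# Radicality of the theta ideal from presentations of the direct images

* `onto_of_ub`: the point theorem of `K822.OntoX` for universal bases;
* `exists_pt`, `ontoOn_of_pt`: points of an affine open and homomorphisms;
* `rad`: if `R¹p_*(E ⊗ A)` is presented locally on `Z` by square matrices given by universal bases, if `Z` is smooth and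
  admissible first order deformations are pulled back from `Z`, then the theta ideal is radical and effective Cartier.
-/

set_option autoImplicit false

universe u

open CategoryTheory CategoryTheory.Limits AlgebraicGeometry TopologicalSpace Opposite MonoidalCategory

namespace K562.PtMat

open K140.BM K822 K822.Tr K822.XTD K822.OntoX K54.GenPull K54.FamSec K54.UB
open Groth.Agent.Fga.RigGrp

section Pt

variable {k : Type u} [Field k] {T : Over (B0 k)}

/-- Constants as functions. -/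
noncomputable def kT (T : Over (B0 k)) : k →+* Γ(T.left, ⊤) :=
  T.hom.appTop.hom.comp (Scheme.ΓSpecIso (CommRingCat.of k)).inv.hom

theorem kT_apply (x : k) : kT T x = T.hom.appTop ((Scheme.ΓSpecIso (CommRingCat.of k)).inv x) := rfl

theorem ev0_apply (z : T0 k ⟶ T) (r : Γ(T.left, ⊤)) :
    ev0 z r = (Scheme.ΓSpecIso (CommRingCat.of k)).hom (z.left.appTop r) := rfl

theorem evE_apply (v : Te k ⟶ T) (r : Γ(T.left, ⊤)) :
    evE v r = (Scheme.ΓSpecIso (CommRingCat.of (DualNumber k))).hom (v.left.appTop r) := rfl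

theorem evE_kT (v : Te k ⟶ T) (x : k) : evE v (kT T x) = algebraMap k (DualNumber k) x := by
  rw [kT_apply, evE_apply]
  have h1 : T.hom.appTop ≫ v.left.appTop = (Te k).hom.appTop := by
    rw [← Scheme.Hom.comp_appTop]
    exact congrArg (fun q : (Te k).left ⟶ B0 k => q.appTop) (Over.w v)
  have h2 : v.left.appTop (T.hom.appTop ((Scheme.ΓSpecIso (CommRingCat.of k)).inv x)) =
      (Te k).hom.appTop ((Scheme.ΓSpecIso (CommRingCat.of k)).inv x) :=
    congr($h1 ((Scheme.ΓSpecIso (CommRingCat.of k)).inv x))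
  rw [h2]
  have h3 := Scheme.ΓSpecIso_naturality (CommRingCat.ofHom (algebraMap k (DualNumber k)))
  have h4 := congr($h3 ((Scheme.ΓSpecIso (CommRingCat.of k)).inv x))
  have h5 : (Scheme.ΓSpecIso (CommRingCat.of k)).hom ((Scheme.ΓSpecIso (CommRingCat.of k)).inv x) = x :=
    congr($((Scheme.ΓSpecIso (CommRingCat.of k)).inv_hom_id) x)
  refine h4.trans ?_
  change algebraMap k (DualNumber k) ((Scheme.ΓSpecIso (CommRingCat.of k)).hom
    ((Scheme.ΓSpecIso (CommRingCat.of k)).inv x)) = _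
  rw [h5]

/-- Homomorphisms to `k` are points. -/
theorem exists_pt [IsAffine T.left] (m : Γ(T.left, ⊤) →+* k) (hm : ∀ x, m (kT T x) = x) :
    ∃ z : T0 k ⟶ T, ∀ r, ev0 z r = m r := by
  let z₀ : B0 k ⟶ T.left := Spec.map (CommRingCat.ofHom m) ≫ T.left.isoSpec.inv
  have h1 : z₀ ≫ T.left.isoSpec.hom = Spec.map (CommRingCat.ofHom m) := by
    rw [Category.assoc, Iso.inv_hom_id, Category.comp_id]
  have h2 : T.left.isoSpec.hom.appTop ≫ z₀.appTop = (Spec.map (CommRingCat.ofHom m)).appTop := by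
    rw [← Scheme.Hom.comp_appTop, h1]
  have h3 : T.left.isoSpec.hom.appTop = (Scheme.ΓSpecIso Γ(T.left, ⊤)).hom := Scheme.toSpecΓ_appTop T.left
  have h4 : ∀ r : Γ(T.left, ⊤), (Scheme.ΓSpecIso (CommRingCat.of k)).hom (z₀.appTop r) = m r := by
    intro r
    have e1 : z₀.appTop r = (Spec.map (CommRingCat.ofHom m)).appTop ((Scheme.ΓSpecIso Γ(T.left, ⊤)).inv r) := by
      rw [← h2, h3]
      change _ = z₀.appTop ((Scheme.ΓSpecIso Γ(T.left, ⊤)).hom ((Scheme.ΓSpecIso Γ(T.left, ⊤)).inv r))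
      congr 1
      exact (congr($((Scheme.ΓSpecIso Γ(T.left, ⊤)).inv_hom_id) r)).symm
    rw [e1]
    have h5 := Scheme.ΓSpecIso_naturality (CommRingCat.ofHom m)
    refine (congr($h5 ((Scheme.ΓSpecIso Γ(T.left, ⊤)).inv r))).trans ?_
    change m ((Scheme.ΓSpecIso Γ(T.left, ⊤)).hom ((Scheme.ΓSpecIso Γ(T.left, ⊤)).inv r)) = _
    congr 1
    exact congr($((Scheme.ΓSpecIso Γ(T.left, ⊤)).inv_hom_id) r)
  have hw : z₀ ≫ T.hom = 𝟙 (B0 k) := by
    apply ext_of_isAffine
    rw [Scheme.Hom.comp_appTop, Scheme.Hom.id_appTop]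
    ext y
    apply (ConcreteCategory.bijective_of_isIso (Scheme.ΓSpecIso (CommRingCat.of k)).hom).1
    change (Scheme.ΓSpecIso (CommRingCat.of k)).hom (z₀.appTop (T.hom.appTop y)) =
      (Scheme.ΓSpecIso (CommRingCat.of k)).hom y
    rw [h4]
    have h6 : y = (Scheme.ΓSpecIso (CommRingCat.of k)).inv ((Scheme.ΓSpecIso (CommRingCat.of k)).hom y) :=
      (congr($((Scheme.ΓSpecIso (CommRingCat.of k)).hom_inv_id) y)).symm
    conv_lhs => rw [h6]
    exact hm _
  exact ⟨Over.homMk z₀ hw, h4⟩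

/-- From `k[ε]`-points of the affine open `U` to homomorphisms. -/
theorem ontoOn_of_pt {Z : Over (B0 k)} {U : Z.left.Opens} (hU : IsAffineOpen U) {n : ℕ}
    (d : Matrix (Fin n) (Fin n) Γ((opn Z U).left, ⊤))
    (h : ∀ (z : T0 k ⟶ opn Z U) (s : Fin n → k), s ≠ 0 → (∀ l, ∑ j, ev0 z (d l j) * s j = 0) → ∀ t : Fin n → k,
      ∃ (v : Te k ⟶ opn Z U) (_ : iT k ≫ v = z) (c : Fin n → k),
        ∀ l, ∑ j, (evE v (d l j)).snd * s j = t l + ∑ j, ev0 z (d l j) * c j) :
    LocRad.OntoOn Z U (d.map U.topIso.hom) := by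
  have : IsAffine (opn Z U).left := hU
  let _ := algOn Z U
  intro m s hs hsm t
  have hk : ∀ x : k, U.topIso.hom (kT (opn Z U) x) = (algOn Z U).algebraMap x := by
    intro x
    have h1 : (opn Z U).hom.appTop ≫ U.topIso.hom = Z.hom.appLE ⊤ U le_top := by
      change (U.ι ≫ Z.hom).appTop ≫ U.topIso.hom = _
      rw [Scheme.Hom.comp_appTop, Scheme.Opens.ι_appTop, Scheme.Opens.topIso_hom, Category.assoc]
      exact congrArg (fun q => Z.hom.appTop ≫ q) (Functor.map_comp Z.left.presheaf _ _).symm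
    exact congr($h1 ((Scheme.ΓSpecIso (CommRingCat.of k)).inv x))
  have hti : ∀ r : Γ((opn Z U).left, ⊤), U.topIso.inv (U.topIso.hom r) = r := fun r =>
    congr($(U.topIso.hom_inv_id) r)
  have hit : ∀ r : Γ(Z.left, U), U.topIso.hom (U.topIso.inv r) = r := fun r =>
    congr($(U.topIso.inv_hom_id) r)
  obtain ⟨z, hz⟩ := exists_pt (T := opn Z U) (m.toRingHom.comp U.topIso.hom.hom) (fun x => by
    change m (U.topIso.hom (kT (opn Z U) x)) = x
    rw [hk]
    exact m.commutes x)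
  have hz' : ∀ r, ev0 z r = m (U.topIso.hom r) := hz
  obtain ⟨v, hv, c, hc⟩ := h z s hs (fun l => by
    have h1 := congrFun hsm l
    simp only [Matrix.mulVec, dotProduct, Matrix.map_apply, Pi.zero_apply] at h1
    rw [← h1]
    exact Finset.sum_congr rfl fun j _ => by rw [hz']) t
  refine ⟨{ toRingHom := (evE v).comp U.topIso.inv.hom, commutes' := fun x => ?_ }, c, fun x => ?_, ?_⟩
  · change evE v (U.topIso.inv ((algOn Z U).algebraMap x)) = _
    rw [← hk, hti, evE_kT]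
  · change (evE v (U.topIso.inv x)).fst = m x
    rw [evE_fst, hv, hz', hit]
  · funext l
    simp only [Matrix.mulVec, dotProduct, Matrix.map_apply, Pi.add_apply]
    refine Eq.trans ?_ ((hc l).trans ?_)
    · refine Finset.sum_congr rfl fun j _ => ?_
      change (evE v (U.topIso.inv (U.topIso.hom (d l j)))).snd * s j = _
      rw [hti]
    · congr 1
      exact Finset.sum_congr rfl fun j _ => by rw [hz']

theorem ideal_of_ι {Z : Scheme.{u}} (I : Z.IdealSheafData) {U : Z.Opens} (hU : IsAffineOpen U) [IsAffine U]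
    (f : Γ(U, ⊤)) (h : (I.comap U.ι).ideal ⟨⊤, isAffineOpen_top _⟩ = Ideal.span {f}) :
    I.ideal ⟨U, hU⟩ = Ideal.span {(U.topIso.hom f : Γ(Z, U))} := by
  rw [Scheme.IdealSheafData.ideal_comap_of_isOpenImmersion] at h
  have h1 : (I.ideal ⟨U.ι ''ᵁ ⊤, (isAffineOpen_top (U : Scheme.{u})).image_of_isOpenImmersion U.ι⟩) =
      Ideal.span {(f : Γ(Z, U.ι ''ᵁ ⊤))} := by
    rw [Scheme.Opens.ι_appIso] at h
    exact h
  have h2 := I.map_ideal (U := (⟨U, hU⟩ : Z.affineOpens))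
    (V := ⟨U.ι ''ᵁ ⊤, (isAffineOpen_top (U : Scheme.{u})).image_of_isOpenImmersion U.ι⟩)
    (show U ≤ U.ι ''ᵁ ⊤ from U.ι_image_top.ge)
  refine h2.symm.trans ((congrArg (Ideal.map _) h1).trans ((Ideal.map_span _ _).trans ?_))
  exact congrArg Ideal.span (Set.image_singleton)

end Pt

section UB

variable {k : Type u} [Field k] {X : Scheme.{u}} [X.Over (Spec (CommRingCat.of k))] {T T' : Over (B0 k)}

theorem bc_eq_gs (g : T' ⟶ T) (G : (PicF.XT (st k X) T).Modules) (x : K54.FamSec.Sec G) :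
    @Eq (Groth.Agent.Sga67.Sec.Sec (pl k X g G) ⊤) (Bc g G x) (gs (PicF.XTmap (st k X) g) G x) := rfl

theorem smul_eq (G : (PicF.XT (st k X) T).Modules) (a : Γ(T.left, ⊤)) (x : K54.FamSec.Sec G) :
    @Eq (Groth.Agent.Sga67.Sec.Sec G ⊤) (a • x) (fT k X T a • (show Groth.Agent.Sga67.Sec.Sec G ⊤ from x)) := rfl

/-- Functions on `Spec k`. -/
theorem fT_T0 (a : Γ((T0 k).left, ⊤)) : fT k X (T0 k) a = K822.Eps.fn (dt k X).x ((Scheme.ΓSpecIso (CommRingCat.of k)).hom a) := by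
  change (PicF.XTproj (st k X) (T0 k)).appTop a = (PicF.XTproj (st k X) (T0 k)).appTop
    ((Scheme.ΓSpecIso (CommRingCat.of k)).inv ((Scheme.ΓSpecIso (CommRingCat.of k)).hom a))
  congr 1
  exact (congr($((Scheme.ΓSpecIso (CommRingCat.of k)).hom_inv_id) a)).symm

theorem smap_gr {E : (PicF.XT (st k X) T).Modules} {B C : X.Modules} (g : B ⟶ C) (x : K54.FamSec.Sec (Tw E B)) :
    open scoped Groth.Agent.Dcoh.MonCat in
    @Eq (Groth.Agent.Sga67.Sec.Sec (CohB1.tensorMod E (cst k T C)) ⊤)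
     (smap (rmap E g) x) (Groth.Agent.Sga67.Sec.appS (E ◁ (Scheme.Modules.pullback (pX X T)).map g) ⊤ x) := rfl


open scoped Groth.Agent.Dcoh.MonCat in
/-- The point theorem for universal bases. -/
theorem onto_of_ub {E : (PicF.XT (st k X) T).Modules} {A B C : X.Modules} {f₁ : A ⟶ B} {g₁ : B ⟶ C} {w₁ : f₁ ≫ g₁ = 0}
    (hS : (ShortComplex.mk f₁ g₁ w₁).ShortExact)
    (hE : FlatMod.IsFinLocFree E) (hA : FlatMod.IsFinLocFree A) (hB : FlatMod.IsFinLocFree B)
    {n : ℕ} {e : Fin n → K54.FamSec.Sec (Tw E B)} {f : Fin n → K54.FamSec.Sec (Tw E C)}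
    (ube : IsUB (Tw E B) e) (ubf : IsUB (Tw E C) f) (d : Matrix (Fin n) (Fin n) Γ(T.left, ⊤))
    (hd : ∀ i, smap (rmap E g₁) (e i) = ∑ j, d j i • f j)
    {Q : ∀ T : Over (B0 k), (ModFun.modProb (st k X)).Fam T → Prop} (hlift : LiftPt.HasLift Q T E)
    (z : T0 k ⟶ T) (hadm : AdmExt.Adm Q (pl k X z E) (pl k X z (cst k T A)))
    (s : Fin n → k) (hs : s ≠ 0) (hsm : ∀ l, ∑ j, ev0 z (d l j) * s j = 0) (t : Fin n → k) :
    ∃ (v : Te k ⟶ T) (_ : iT k ≫ v = z) (c : Fin n → k),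
      ∀ l, ∑ j, (evE v (d l j)).snd * s j = t l + ∑ j, ev0 z (d l j) * c j := by
  have hι : Function.Injective (Scheme.ΓSpecIso (CommRingCat.of k)).inv := (ConcreteCategory.bijective_of_isIso
      (Scheme.ΓSpecIso (CommRingCat.of k)).inv).1
  have hfn : ∀ (G : (PicF.XT (st k X) T).Modules) (m : Fin n → K54.FamSec.Sec G) (c : Fin n → Γ((T0 k).left, ⊤)),
      @Eq (Groth.Agent.Sga67.Sec.Sec (pl k X z G) ⊤) (∑ i, c i • Bc z G (m i))
        (∑ i, K822.Eps.fn (dt k X).x ((Scheme.ΓSpecIso (CommRingCat.of k)).hom (c i)) •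
          gs (PicF.XTmap (st k X) z) G (m i)) := by
    intro G m c
    refine Finset.sum_congr rfl fun i _ => ?_
    rw [← fT_T0]
    rfl
  have hfn' : ∀ (G : (PicF.XT (st k X) T).Modules) (m : Fin n → K54.FamSec.Sec G) (c : Fin n → k),
      @Eq (Groth.Agent.Sga67.Sec.Sec (pl k X z G) ⊤)
        (∑ i, K822.Eps.fn (dt k X).x (c i) • gs (PicF.XTmap (st k X) z) G (m i))
        (∑ i, (Scheme.ΓSpecIso (CommRingCat.of k)).inv (c i) • Bc z G (m i)) := by
    intro G m c
    rw [hfn]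
    refine Finset.sum_congr rfl fun i _ => ?_
    congr 2
    exact (congr($((Scheme.ΓSpecIso (CommRingCat.of k)).inv_hom_id) (c i))).symm
  have hinj : ∀ (G : (PicF.XT (st k X) T).Modules) (m : Fin n → K54.FamSec.Sec G), IsUB G m → ∀ c : Fin n → k,
      @Eq (Groth.Agent.Sga67.Sec.Sec (pl k X z G) ⊤)
        (∑ i, K822.Eps.fn (dt k X).x (c i) • gs (PicF.XTmap (st k X) z) G (m i)) 0 → c = 0 := by
    intro G m hm c hc
    rw [hfn'] at hc
    obtain ⟨c', -, hu⟩ := hm z (0 : K54.FamSec.Sec (pl k X z G))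
    have h1 := hu _ hc.symm
    have h2 := hu (fun _ => 0) (by simp only [zero_smul, Finset.sum_const_zero])
    have h3 := h1.trans h2.symm
    funext i
    apply hι
    rw [Pi.zero_apply, map_zero]
    exact congrFun h3 i
  refine onto hS hE hA hB z e f d (fun j => hd j) ?_ (hinj _ e ube) (hinj _ f ubf) (Q (Te k)) hadm (hlift z) s hs hsm t
  intro p
  obtain ⟨c, hc, -⟩ := ube z p
  exact ⟨fun j => (Scheme.ΓSpecIso (CommRingCat.of k)).hom (c j), hc.trans (hfn _ e c)⟩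

end UB

section Rad

variable {k : Type u} [Field k] [IsAlgClosed k] {X : Scheme.{u}} [X.Over (Spec (CommRingCat.of k))] [IsProper (st k X)]
  (hdim : topologicalKrullDim X ≤ 1)

include hdim in
/-- **The theta ideal is radical and effective Cartier.** -/
theorem rad {A B C : X.Modules} {f₁ : A ⟶ B} {g₁ : B ⟶ C} {w₁ : f₁ ≫ g₁ = 0}
    (hS : (ShortComplex.mk f₁ g₁ w₁).ShortExact) (hA : PicF.IsInvertible A) (hB : FlatMod.IsFinLocFree B)
    {Q : ∀ T : Over (B0 k), (ModFun.modProb (st k X)).Fam T → Prop}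
    (hQf : ∀ {T : Over (B0 k)} {E : (PicF.XT (st k X) T).Modules}, Q T E → FlatMod.IsFinLocFree E)
    (hQp : ∀ {T T' : Over (B0 k)} (g : T' ⟶ T) {E : (PicF.XT (st k X) T).Modules}, Q T E → Q T' (pl k X g E))
    (hadm : ∀ {E₀ N₀ : (PicF.XT (st k X) (T0 k)).Modules}, Q (T0 k) E₀ → PicF.IsInvertible N₀ →
      AdmExt.Adm Q E₀ N₀)
    {Z : Over (B0 k)} [Smooth Z.hom] {E : (PicF.XT (st k X) Z).Modules} (hE : Q Z E)
    (hlift : LiftPt.HasLift Q Z E)
    (hpres : ∀ z : Z.left, ∃ (U : Z.left.Opens) (_ : z ∈ U) (hU : IsAffineOpen U) (n : ℕ)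
      (e : Fin n → K54.FamSec.Sec (Tw (pl k X (opi Z U) E) B)) (f : Fin n → K54.FamSec.Sec (Tw (pl k X (opi Z U) E) C))
      (d : Matrix (Fin n) (Fin n) Γ((opn Z U).left, ⊤)),
      IsUB (Tw (pl k X (opi Z U) E) B) e ∧ IsUB (Tw (pl k X (opi Z U) E) C) f ∧
      (∀ i, smap (rmap (pl k X (opi Z U) E) g₁) (e i) = ∑ j, d j i • f j) ∧
      haveI : IsAffine (opn Z U).left := hU
      (thetaIdeal k A (opn Z U) (pl k X (opi Z U) E)).ideal ⟨⊤, isAffineOpen_top _⟩ = Ideal.span {d.det}) :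
    (thetaIdeal k A Z E).radical = thetaIdeal k A Z E ∧ BlowUp.IsEffCartierIdeal (thetaIdeal k A Z E) := by
  have hAf : FlatMod.IsFinLocFree A :=
    K774.D1.isFinLocFree (Groth.Agent.Ega2.QCohLocal.isFinLocFreeOfRank_one_iff.2 hA)
  apply LocRad.main
  intro z
  obtain ⟨U, hzU, hU, n, e, f, d, ube, ubf, hd, hθ⟩ := hpres z
  have hEU : Q (opn Z U) (pl k X (opi Z U) E) := hQp (opi Z U) hE
  have : IsAffine (U : Scheme.{u}) := hU
  refine ⟨⟨U, hU⟩, hzU, n, d.map U.topIso.hom, ?_, ?_⟩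
  · have h1 := K54.Theta.thetaIdeal_pl hdim hAf (opi Z U) (hQf hE)
    have h2 := ideal_of_ι (thetaIdeal k A Z E) hU d.det (by
      change ((thetaIdeal k A Z E).comap (opi Z U).left).ideal _ = _
      rw [h1]
      exact hθ)
    refine h2.trans ?_
    congr 2
    exact RingHom.map_det U.topIso.hom.hom d
  · apply ontoOn_of_pt hU
    intro z' s hs hsm t
    refine onto_of_ub hS (hQf hEU) hAf hB ube ubf d hd (LiftPt.HasLift.opn hlift U) z' (hadm (hQp z' hEU) ?_) s hs hsm t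
    exact Groth.Agent.Fdesc.LocGen.isInvertible_pullback _ (Groth.Agent.Fdesc.LocGen.isInvertible_pullback _ hA)

end Rad

end K562.PtMat
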