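import Groth.Agent.BunMod.K562.DensAsm
import Groth.Agent.BunMod.K757.SubDet

/-!
# The theta ideal on the family of an atlas

`Facts A N`: the theta ideal of the family over `A.Z` is radical and effective Cartier, its support is the closure of its
stable part and consists of the points at which the fibre has a section after twisting by `N`.

* `rad`: radical and effective Cartier;
* `facts_uss`, `facts_ussDet`: `Facts A N` for atlases with `A.Z` smooth to which first order families lift, if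
  `deg N = g - 1` and `g ≥ 2`.
-/

set_option autoImplicit false

universe u

open CategoryTheory CategoryTheory.Limits AlgebraicGeometry TopologicalSpace Opposite Abelian

namespace K562.ThetaAt

open K140.BM Groth.Agent K822 K822.XTD

section Rad

variable {k : Type u} [Field k] [IsAlgClosed k] {X : Scheme.{u}} [X.Over (Spec (CommRingCat.of k))]
  [IsProper (X ↘ Spec (CommRingCat.of k))] [Smooth (X ↘ Spec (CommRingCat.of k))]
  [GeometricallyConnected (X ↘ Spec (CommRingCat.of k))] (hdim : topologicalKrullDim X = 1)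

include hdim in
/-- The theta ideal is radical and effective Cartier. -/
theorem rad {r : ℕ} {S : ShortComplex X.Modules} (hS : BunMod.K356.Seq.SeqOK k S)
    {Q : ∀ T : Over (B0 k), (ModFun.modProb (st k X)).Fam T → Prop} (hQ : SubProb k X r Q)
    (hadm : ∀ {E₀ N₀ : (PicF.XT (st k X) (T0 k)).Modules}, Q (T0 k) E₀ → PicF.IsInvertible N₀ → AdmExt.Adm Q E₀ N₀)
    {Z : Over (B0 k)} [Smooth Z.hom] {E : (PicF.XT (st k X) Z).Modules} (hE : Q Z E) (hlift : LiftPt.HasLift Q Z E) :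
    (thetaIdeal k S.X₁ Z E).radical = thetaIdeal k S.X₁ Z E ∧ BlowUp.IsEffCartierIdeal (thetaIdeal k S.X₁ Z E) := by
  have hN : FlatMod.IsFinLocFree S.X₁ := K774.D1.isFinLocFree (Ega2.QCohLocal.isFinLocFreeOfRank_one_iff.2 hS.inv₁)
  have hB : FlatMod.IsFinLocFree S.X₂ := K774.D1.isFinLocFree (Ega2.QCohLocal.isFinLocFreeOfRank_one_iff.2 hS.inv₂)
  have hXn : IsLocallyNoetherian X := LocallyOfFiniteType.isLocallyNoetherian (X ↘ Spec (CommRingCat.of k))
  have h3 : CohB1.IsFP S.X₃ := (S0018.result X _).1 hS.coh₃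
  have hf : FlatMod.IsFinLocFree E := K774.D1.isFinLocFree (hQ.le _ _ hE).1
  refine PtMat.rad hdim.le (f₁ := S.f) (g₁ := S.g) (w₁ := S.zero) hS.ex hS.inv₁ hB
    (fun h => K774.D1.isFinLocFree (hQ.le _ _ h).1) (fun g _ h => hQ.pull g _ h) hadm hE hlift fun z => ?_
  obtain ⟨U, hU, hA, D, hzU, hD⟩ := K54.DP.exists_local hdim.le hS.ex hN hB h3 hf
    (SubDeg.geomTw hdim hS (hQ.le _ _ hE)) (SubDeg.geomChi hdim hS (hQ.le _ _ hE)) z
  exact ⟨U, hzU, hU, D.n, D.e, D.f, D.d, D.ube, D.ubf, D.hd, hD⟩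

include hdim in
/-- The support of the theta ideal. -/
theorem suppCond {r : ℕ} {S : ShortComplex X.Modules} (hS : BunMod.K356.Seq.SeqOK k S)
    {Q : ∀ T : Over (B0 k), (ModFun.modProb (st k X)).Fam T → Prop} (hQ : SubProb k X r Q) (A : AtlasC k X Q) :
    Jump.SuppCond A S.X₁ := fun Ω _ _ s c p =>
  K54.Supp.mem_support_iff hdim.le
    (K774.D1.isFinLocFree (Ega2.QCohLocal.isFinLocFreeOfRank_one_iff.2 hS.inv₁))
    (K774.D1.isFinLocFree (hQ.le _ _ A.ok).1) s c p (SubDeg.geomChi hdim hS (hQ.le _ _ A.ok) Ω s c)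

end Rad

section Atlas

variable {k : Type u} [Field k] {X : Scheme.{u}} [X.Over (Spec (CommRingCat.of k))]
  {Q : ∀ T : Over (B0 k), (ModFun.modProb (st k X)).Fam T → Prop}

/-- The facts about the theta ideal of the family over an atlas. -/
structure Facts (A : AtlasC k X Q) (N : X.Modules) : Prop where
  rad : (thetaIdeal k N A.Z A.E).radical = thetaIdeal k N A.Z A.E
  eff : BlowUp.IsEffCartierIdeal (thetaIdeal k N A.Z A.E)
  supp : Jump.SuppCond A N
  dens : ((thetaIdeal k N A.Z A.E).support : Set A.Z.left) ⊆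
    closure (Jump.stab A ∩ ((thetaIdeal k N A.Z A.E).support : Set A.Z.left))

/-- Stable `k`-points. -/
theorem mem_stab [IsAlgClosed k] (A : AtlasC k X Q) {r : ℕ} (hr : FlatMod.IsFinLocFreeOfRank r A.E)
    (t : Spec (CommRingCat.of k) ⟶ A.Z.left) (h : K325.StabFib.StAt r A.E t) :
    t (IsLocalRing.closedPoint k) ∈ Jump.stab A :=
  ⟨k, inferInstance, inferInstance, t ≫ A.Z.hom, Over.homMk t rfl,
    ⟨r, PerfB.FibreConc.isFinLocFreeOfRank_pullback _ hr, h⟩, ⟨IsLocalRing.closedPoint k, rfl⟩⟩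

variable [IsAlgClosed k] [CharZero k]
  [IsProper (X ↘ Spec (CommRingCat.of k))] [Smooth (X ↘ Spec (CommRingCat.of k))]
  [GeometricallyConnected (X ↘ Spec (CommRingCat.of k))] (hdim : topologicalKrullDim X = 1)
  (hg : 2 ≤ Curv2.genus k X) {N : X.Modules} (hN : PicF.IsInvertible N)
  (hNd : Curv2.deg k X N 1 = (Curv2.genus k X : ℤ) - 1)

include hdim hg hN hNd

theorem facts_uss {r : ℕ} (hr : 0 < r) (A : AtlasC k X (BunMod.ussOK (st k X) r 0)) [Smooth A.Z.hom]
    (hlift : LiftPt.HasLift (BunMod.ussOK (st k X) r 0) A.Z A.E) : Facts A N := by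
  have hXi : IsIntegral X := K705.Setup.isIntegral_of_geomConn k X
  have hQ : SubProb k X r (BunMod.ussOK (st k X) r 0) := K140.BM.subProb_all r
  obtain ⟨S, rfl, hS⟩ := BunMod.K356.Seq.exists_seq hdim hN hNd
  obtain ⟨h1, h2⟩ := rad hdim hS hQ (fun h h' => AdmExt.uss hdim.le hr h h') A.ok hlift
  let _ : HasExt.{u + 1} (PicF.XT (st k X) (T0 k)).Modules := HasExt.standard _
  exact ⟨h1, h2, suppCond hdim hS hQ A, DensAsm.main_gen.{u + 1} hdim hg hr hS hQ
    (fun hC _ _ h1 h3 h _ hN => K892.AdmFilt.uss hdim.le hC h1 h3 h hN) A.Z A.ok hlift h2 (Jump.stab A)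
    fun t _ ht => mem_stab A A.ok.1 t ht⟩

theorem facts_ussDet {r : ℕ} (hr : 2 ≤ r) {L : X.Modules} (hL : PicF.IsInvertible L) (hLd : Curv2.deg k X L 1 = 0)
    (A : AtlasC k X (BunMod.ussDetOK (st k X) r L)) [Smooth A.Z.hom]
    (hlift : LiftPt.HasLift (BunMod.ussDetOK (st k X) r L) A.Z A.E) : Facts A N := by
  have hXi : IsIntegral X := K705.Setup.isIntegral_of_geomConn k X
  have hQ : SubProb k X r (BunMod.ussDetOK (st k X) r L) := K757.SubDet.subProb hdim hL hLd
  obtain ⟨S, rfl, hS⟩ := BunMod.K356.Seq.exists_seq hdim hN hNd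
  obtain ⟨h1, h2⟩ := rad hdim hS hQ (fun h h' => AdmExt.ussDet hdim.le hr h h') A.ok hlift
  let _ : HasExt.{u + 1} (PicF.XT (st k X) (T0 k)).Modules := HasExt.standard _
  exact ⟨h1, h2, suppCond hdim hS hQ A, DensAsm.main_gen.{u + 1} hdim hg (zero_lt_two.trans_le hr) hS hQ
    (fun hC _ _ h1 h3 h _ hN => K892.AdmFilt.ussDet hdim.le hC h1 h3 h hN) A.Z A.ok hlift h2 (Jump.stab A)
    fun t _ ht => mem_stab A A.ok.1 t ht⟩

end Atlas

end K562.ThetaAt
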