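import Groth.Agent.Divis.IdealComap
import Groth.Prelude.Def_BlowUp2
import Groth.Prelude.Def_FGA

/-!
# Descent of a radical ideal sheaf along an affine morphism

`π : Z ⟶ M` affine, `θ` a radical ideal sheaf on `Z`, `S` a subset of `M` with the same closure as the image of the
support of `θ`.  Then the vanishing ideal of the closure of `S` is `θ.map π` (`vanishingIdeal_closure_eq`), and if
`θ` is generated by functions from `M` locally on `M` then its pull-back to `Z` is `θ` (`comap_vanishingIdeal_closure`).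
-/

set_option autoImplicit false

universe u

open CategoryTheory AlgebraicGeometry TopologicalSpace Scheme

namespace K562.DescIdeal

variable {Z M : Scheme.{u}} (π : Z ⟶ M) [IsAffineHom π] (θ : Z.IdealSheafData)

/-- `V` has a local generator `h` of `θ`. -/
def GenAt (V : M.affineOpens) (h : Γ(M, V)) : Prop :=
  θ.ideal ⟨π ⁻¹ᵁ V, V.2.preimage π⟩ = Ideal.span {(π.app V).hom h}

theorem radical_map (hrad : θ.radical = θ) : (θ.map π).radical = θ.map π := by
  ext V : 2
  change ((θ.map π).ideal V).radical = (θ.map π).ideal V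
  rw [IdealSheafData.ideal_map_of_isAffineHom]
  refine (Ideal.comap_radical _ _).symm.trans ?_
  exact congrArg (fun I : Z.IdealSheafData => (I.ideal ⟨π ⁻¹ᵁ V, V.2.preimage π⟩).comap
    (π.app V).hom) hrad

theorem vanishingIdeal_closure_eq (hrad : θ.radical = θ) (S : Set M)
    (hS : closure S = closure (π '' (θ.support : Set Z))) :
    IdealSheafData.vanishingIdeal ⟨closure S, isClosed_closure⟩ = θ.map π := by
  rw [← radical_map π θ hrad, ← IdealSheafData.vanishingIdeal_support]
  congr 1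
  ext1
  rw [IdealSheafData.support_map, Closeds.coe_closure, ← hS]
  rfl

theorem comap_map_eq (hgen : ∀ x : M, ∃ V : M.affineOpens, x ∈ V.1 ∧ ∃ h : Γ(M, V), GenAt π θ V h) :
    (θ.map π).comap π = θ := by
  choose V hV h hh using hgen
  refine IdealSheafData.ext_of_iSup_eq_top (fun x : M => ⟨π ⁻¹ᵁ (V x).1, (V x).2.preimage π⟩) ?_ ?_
  · rw [eq_top_iff]
    intro z _
    exact Opens.mem_iSup.mpr ⟨π z, hV (π z)⟩
  · intro x
    rw [Groth.Agent.Divis.IdealComap.ideal_comap (θ.map π) π (V x) ⟨π ⁻¹ᵁ (V x).1, (V x).2.preimage π⟩ le_rfl]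
    rw [IdealSheafData.ideal_map_of_isAffineHom, Scheme.Hom.appLE_eq_app]
    refine le_antisymm Ideal.map_comap_le ?_
    rw [show θ.ideal ⟨π ⁻¹ᵁ (V x).1, (V x).2.preimage π⟩ = Ideal.span {(π.app (V x)).hom (h x)} from hh x,
      Ideal.span_singleton_le_iff_mem]
    refine Ideal.mem_map_of_mem _ ?_
    rw [Ideal.mem_comap]
    exact Ideal.mem_span_singleton_self _

theorem comap_vanishingIdeal_closure (hrad : θ.radical = θ) (S : Set M)
    (hS : closure S = closure (π '' (θ.support : Set Z)))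
    (hgen : ∀ x : M, ∃ V : M.affineOpens, x ∈ V.1 ∧ ∃ h : Γ(M, V), GenAt π θ V h) :
    (IdealSheafData.vanishingIdeal ⟨closure S, isClosed_closure⟩).comap π = θ := by
  rw [vanishingIdeal_closure_eq π θ hrad S hS, comap_map_eq π θ hgen]

/-- The ideal on `M` is generated by `h`. -/
theorem ideal_map_eq_span {V : M.affineOpens} {h : Γ(M, V)} (hh : GenAt π θ V h)
    (hdvd : ∀ g : Γ(M, V), (π.app V).hom h ∣ (π.app V).hom g → h ∣ g) :
    (θ.map π).ideal V = Ideal.span {h} := by
  rw [IdealSheafData.ideal_map_of_isAffineHom]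
  ext g
  rw [Ideal.mem_comap, hh, Ideal.mem_span_singleton, Ideal.mem_span_singleton]
  exact ⟨hdvd g, fun ⟨c, hc⟩ => ⟨(π.app V).hom c, by rw [hc, map_mul]⟩⟩

/-- The descended ideal is an effective Cartier ideal. -/
theorem isEffCartier (hgen : ∀ x : M, ∃ V : M.affineOpens, x ∈ V.1 ∧ ∃ h : Γ(M, V), GenAt π θ V h ∧
      h ∈ nonZeroDivisors Γ(M, V) ∧ ∀ g : Γ(M, V), (π.app V).hom h ∣ (π.app V).hom g → h ∣ g) :
    FGA.IsEffCartier (θ.map π) := by
  intro x
  obtain ⟨V, hxV, h, hh, hnz, hdvd⟩ := hgen x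
  exact ⟨V, hxV, h, hnz, ideal_map_eq_span π θ hh hdvd⟩

end K562.DescIdeal
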