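import Groth.Agent.BunMod.K562.Dens
import Groth.Agent.BunMod.K562.Jump
import Groth.Agent.BunMod.K562.OkPull
import Groth.Agent.BunMod.K562.LocRad
import Groth.Agent.BunMod.K325.Spread
import Groth.Agent.BunMod.K325.StableOpen
import Mathlib.RingTheory.Flat.TorsionFree

/-!
# Components of the theta locus without stable points

If the support of the theta ideal of a family of semistable bundles of degree zero over a smooth `Z` is not the closure
of its stable part, then there is an étale chart `T` of a closed integral subscheme of codimension at most one of an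
affine open of `Z`, contained in the support, over which the family is an extension of bundles of degree zero
(`exists_bad`).
-/

set_option autoImplicit false

universe u

open CategoryTheory CategoryTheory.Limits AlgebraicGeometry TopologicalSpace

namespace K562.Bad

open K140.BM Groth.Agent

section Chart

variable {Z : Scheme.{u}} {V : Z.Opens} (hV : IsAffineOpen V) (p : Ideal Γ(Z, V))

/-- The closed subscheme of `V` defined by `p`, as a scheme over `Z`. -/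
noncomputable def cι : Spec (CommRingCat.of (Γ(Z, V) ⧸ p)) ⟶ Z :=
  Spec.map (CommRingCat.ofHom (Ideal.Quotient.mk p)) ≫ hV.fromSpec

theorem cι_mem (y : Spec (CommRingCat.of (Γ(Z, V) ⧸ p))) : cι hV p y ∈ V := by
  have h1 : cι hV p y ∈ Set.range hV.fromSpec := ⟨Spec.map (CommRingCat.ofHom (Ideal.Quotient.mk p)) y, rfl⟩
  rwa [hV.range_fromSpec] at h1

theorem chart {T : Scheme.{u}} [IsAffine T] [IsIntegral T] [p.IsPrime]
    (q₀ : T ⟶ Spec (CommRingCat.of (Γ(Z, V) ⧸ p))) [Etale q₀] (q : T ⟶ Z) (hq : q₀ ≫ cι hV p = q)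
    (e : ⊤ ≤ q ⁻¹ᵁ V) :
    ∃ ψ : Γ(Z, V) ⧸ p →+* Γ(T, ⊤), ψ.Etale ∧ Function.Injective ψ ∧
      ψ.comp (Ideal.Quotient.mk p) = (q.appLE V ⊤ e).hom := by
  let ψ : CommRingCat.of (Γ(Z, V) ⧸ p) ⟶ Γ(T, ⊤) :=
    (Scheme.ΓSpecIso (CommRingCat.of (Γ(Z, V) ⧸ p))).inv ≫ q₀.appTop
  have h1 : Spec.map ψ = T.isoSpec.inv ≫ q₀ := by
    rw [← cancel_epi T.isoSpec.hom, Iso.hom_inv_id_assoc]
    change T.toSpecΓ ≫ Spec.map ψ = q₀
    rw [Spec.map_comp, ← Scheme.toSpecΓ_naturality_assoc, toSpecΓ_SpecMap_ΓSpecIso_inv, Category.comp_id]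
  have h2 : Etale (Spec.map ψ) := by rw [h1]; infer_instance
  have h3 : ψ.hom.Etale := (HasRingHomProperty.Spec_iff (P := @Etale)).1 h2
  refine ⟨ψ.hom, h3, ?_, ?_⟩
  · let _ := ψ.hom.toAlgebra
    have _ : Algebra.Etale (Γ(Z, V) ⧸ p) Γ(T, ⊤) := h3
    have _ : Module.Flat (Γ(Z, V) ⧸ p) Γ(T, ⊤) := inferInstance
    rw [injective_iff_map_eq_zero]
    intro a ha
    by_contra ha0
    have h4 := Module.Flat.isSMulRegular_of_nonZeroDivisors (M := Γ(T, ⊤))
      (mem_nonZeroDivisors_of_ne_zero ha0)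
    have h5 : a • (1 : Γ(T, ⊤)) = a • (0 : Γ(T, ⊤)) := by
      rw [smul_zero, Algebra.smul_def, mul_one]
      exact ha
    exact one_ne_zero (h4 h5)
  · have h4 : Spec.map (CommRingCat.ofHom (Ideal.Quotient.mk p) ≫ ψ) = Spec.map (q.appLE V ⊤ e) := by
      rw [← cancel_mono hV.fromSpec, hV.SpecMap_appLE_fromSpec q (isAffineOpen_top T) e, Spec.map_comp, h1,
        ← hq, cι, IsAffineOpen.fromSpec_top]
      simp only [Category.assoc]
    exact congrArg (fun f => f.hom) (Spec.map_injective h4)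

end Chart

section Loc

/-- Points of a locally noetherian normal scheme have small affine neighbourhoods with normal domains of sections. -/
theorem exists_basicOpen {Y : Scheme.{u}} [IsLocallyNoetherian Y] (hY : Pi1.IsNormalScheme Y) {U : Y.Opens}
    (hU : IsAffineOpen U) (W₀ : Y.Opens) (y : Y) (hy : y ∈ U) (hyW : y ∈ W₀) :
    ∃ f : Γ(Y, U), y ∈ Y.basicOpen f ∧ Y.basicOpen f ≤ W₀ ∧
      IsDomain Γ(Y, Y.basicOpen f) ∧ IsIntegrallyClosed Γ(Y, Y.basicOpen f) := by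
  have := (hY y).1
  obtain ⟨W, hyW, hWU, hW, hdom⟩ := Groth.Agent.Dix.NormalLoc.exists_isDomain_affine_nhds Y y (U ⊓ W₀) ⟨hy, hyW⟩
  obtain ⟨f, hfW, hyf⟩ := hU.exists_basicOpen_le ⟨y, hyW⟩ hy
  have hne : Nonempty (Y.basicOpen f) := ⟨⟨y, hyf⟩⟩
  have hD : IsDomain Γ(Y, Y.basicOpen f) := by
    let g : Γ(Y, W) := Y.presheaf.map (homOfLE (hWU.trans inf_le_left)).op f
    have hg : Y.basicOpen g = Y.basicOpen f := by
      rw [Scheme.basicOpen_res]
      exact inf_eq_right.mpr hfW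
    have hloc := hW.isLocalization_of_eq_basicOpen g (homOfLE hfW) hg.symm
    let _ := (Y.presheaf.map (homOfLE hfW).op).hom.toAlgebra
    have hg0 : g ≠ 0 := by
      rintro h0
      rw [h0, Scheme.basicOpen_zero] at hg
      rw [← hg] at hyf
      exact hyf
    exact IsLocalization.isDomain_of_le_nonZeroDivisors (R := Γ(Y, W)) (M := Submonoid.powers g) _
      (powers_le_nonZeroDivisors_of_noZeroDivisors hg0)
  exact ⟨f, hyf, hfW.trans (hWU.trans inf_le_right), hD, LocRad.isIntegrallyClosed_section hY (hU.basicOpen f)⟩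

/-- The support of an ideal sheaf over an affine open on which it is generated by one function. -/
theorem mem_support_iff {Y : Scheme.{u}} (θ : Y.IdealSheafData) (U : Y.affineOpens) {f : Γ(Y, U.1)}
    (hf : θ.ideal U = Ideal.span {f}) (y : Y) (hy : y ∈ U.1) :
    y ∈ (θ.support : Set Y) ↔ f ∈ (U.2.primeIdealOf ⟨y, hy⟩).asIdeal := by
  have h1 : y ∈ (θ.support : Set Y) ↔ y ∈ Y.zeroLocus (U := U.1) (θ.ideal U) :=
    Scheme.IdealSheafData.mem_support_iff_of_mem hy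
  have h2 : ∀ g : Γ(Y, U.1), y ∈ Y.basicOpen g ↔ g ∉ (U.2.primeIdealOf ⟨y, hy⟩).asIdeal := by
    intro g
    have h3 := U.2.fromSpec_primeIdealOf ⟨y, hy⟩
    have h4 : U.2.primeIdealOf ⟨y, hy⟩ ∈ U.2.fromSpec ⁻¹ᵁ Y.basicOpen g ↔
        U.2.primeIdealOf ⟨y, hy⟩ ∈ PrimeSpectrum.basicOpen g := by
      rw [U.2.fromSpec_preimage_basicOpen]
      rfl
    have h5 : U.2.primeIdealOf ⟨y, hy⟩ ∈ U.2.fromSpec ⁻¹ᵁ Y.basicOpen g ↔ y ∈ Y.basicOpen g := by
      change U.2.fromSpec (U.2.primeIdealOf ⟨y, hy⟩) ∈ Y.basicOpen g ↔ _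
      rw [h3]
    rw [← h5, h4]
    rfl
  rw [h1, Scheme.mem_zeroLocus_iff]
  constructor
  · intro h
    have h3 := h f (by rw [hf]; exact Ideal.mem_span_singleton_self f)
    rw [h2, not_not] at h3
    exact h3
  · intro h g hg
    rw [h2, not_not]
    rw [SetLike.mem_coe, hf, Ideal.mem_span_singleton] at hg
    exact Ideal.mem_of_dvd _ hg h

end Loc

section Stab

variable {k : Type u} [Field k] {X : Scheme.{u}} [X.Over (Spec (CommRingCat.of k))]

theorem stAt_of_pl {r : ℕ} {Y Z : Over (B0 k)} (i : Y ⟶ Z) {E : (PicF.XT (st k X) Z).Modules}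
    {Ω : Type u} [Field Ω] (y : Spec (CommRingCat.of Ω) ⟶ Y.left) (h : K325.StabFib.StAt r (pl k X i E) y) :
    K325.StabFib.StAt r E (y ≫ i.left) := by
  let : (PicF.XT (st k X) (Over.mk (y ≫ Y.hom))).Over (Spec (CommRingCat.of Ω)) :=
    ⟨PicF.XTproj (st k X) (Over.mk (y ≫ Y.hom))⟩
  have h1 := K432.MukLaws.stable_of_iso (Jump.plComp (Over.homMk y rfl : Over.mk (y ≫ Y.hom) ⟶ Y) i E) h
  exact K432.MukLaws.fib_transport (st k X) E r Ω (y ≫ Y.hom) ((y ≫ i.left) ≫ Z.hom)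
    (by rw [Category.assoc, Over.w i]) ((Over.homMk y rfl : Over.mk (y ≫ Y.hom) ⟶ Y) ≫ i)
    (Over.homMk (y ≫ i.left) rfl) rfl h1

end Stab

section Main

variable {k : Type u} [Field k] {X : Scheme.{u}} [X.Over (Spec (CommRingCat.of k))]
  [IsProper (X ↘ Spec (CommRingCat.of k))] [Smooth (X ↘ Spec (CommRingCat.of k))]
  [GeometricallyConnected (X ↘ Spec (CommRingCat.of k))] [IsAlgClosed k] [CharZero k]

/-- **A component of the support without stable points** gives an étale chart over which the family is an extension. -/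
theorem exists_bad (hdim : topologicalKrullDim X = 1) {r : ℕ} (hr : 0 < r) (Z : Over (B0 k)) [Smooth Z.hom]
    {E : (PicF.XT (st k X) Z).Modules} (hE : BunMod.ussOK (st k X) r 0 Z E)
    (θ : Z.left.IdealSheafData) (hθ : BlowUp.IsEffCartierIdeal θ) (S : Set Z.left)
    (hS : ∀ t : Spec (CommRingCat.of k) ⟶ Z.left, t ≫ Z.hom = 𝟙 _ → K325.StabFib.StAt r E t →
      t (IsLocalRing.closedPoint k) ∈ S)
    (hn : ¬ (θ.support : Set Z.left) ⊆ closure (S ∩ (θ.support : Set Z.left))) :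
    ∃ (V : Z.left.affineOpens) (p : Ideal Γ(Z.left, V.1)) (T : Over (B0 k)) (q : T ⟶ Z) (e : ⊤ ≤ q.left ⁻¹ᵁ V.1)
      (ψ : Γ(Z.left, V.1) ⧸ p →+* Γ(T.left, ⊤)) (r₁ r₂ : ℕ) (C : ShortComplex (PicF.XT (st k X) T).Modules),
      IsDomain Γ(Z.left, V.1) ∧ IsIntegrallyClosed Γ(Z.left, V.1) ∧ p.IsPrime ∧ p.height ≤ 1 ∧
      IsIntegral T.left ∧ IsAffine T.left ∧ LocallyOfFiniteType T.hom ∧ ψ.Etale ∧ Function.Injective ψ ∧
      ψ.comp (Ideal.Quotient.mk p) = (q.left.appLE V.1 ⊤ e).hom ∧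
      (∀ t, q.left t ∈ (θ.support : Set Z.left)) ∧
      C.ShortExact ∧ Nonempty (C.X₂ ≅ pl k X q E) ∧ 0 < r₁ ∧ 0 < r₂ ∧ r₁ + r₂ = r ∧
      FlatMod.IsFinLocFreeOfRank r₁ C.X₁ ∧ FlatMod.IsFinLocFreeOfRank r₂ C.X₃ ∧
      ModFun.FibDeg (st k X) r₁ 0 T C.X₁ ∧ ModFun.FibDeg (st k X) r₂ 0 T C.X₃ := by
  have hN : IsLocallyNoetherian Z.left := LocallyOfFiniteType.isLocallyNoetherian Z.hom
  have hZ : Pi1.IsNormalScheme Z.left := LocRad.isNormal
  obtain ⟨z₀, hz₀, hz₁⟩ := Set.not_subset.1 hn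
  let W₀ : Z.left.Opens := ⟨(closure (S ∩ (θ.support : Set Z.left)))ᶜ, isClosed_closure.isOpen_compl⟩
  obtain ⟨U, hzU, f₀, hf₀, hθU⟩ := hθ z₀
  obtain ⟨f, hzf, hfW, hdom, hic⟩ := exists_basicOpen hZ U.2 W₀ z₀ hzU hz₁
  let V : Z.left.affineOpens := ⟨Z.left.basicOpen f, U.2.basicOpen f⟩
  let f₁ : Γ(Z.left, V.1) := LocRad.res Z (Z.left.basicOpen_le f) f₀
  have hθV : θ.ideal V = Ideal.span {f₁} := by
    have h4 := θ.map_ideal_basicOpen U f
    rw [hθU, Ideal.map_span, Set.image_singleton] at h4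
    exact h4.symm
  have hP : f₁ ∈ (V.2.primeIdealOf ⟨z₀, hzf⟩).asIdeal := (mem_support_iff θ V hθV z₀ hzf).1 hz₀
  obtain ⟨p, hp, hpP⟩ := Ideal.exists_minimalPrimes_le
    ((Ideal.span_singleton_le_iff_mem (V.2.primeIdealOf ⟨z₀, hzf⟩).asIdeal).2 hP)
  let _ := algOn Z V.1
  have hft : Algebra.FiniteType k Γ(Z.left, V.1) := LocRad.finiteType V.2
  have hNoeth : IsNoetherianRing Γ(Z.left, V.1) := Algebra.FiniteType.isNoetherianRing k _
  have hpr : p.IsPrime := hp.1.1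
  have hht : p.height ≤ 1 := Ideal.height_le_one_of_isPrincipal_of_mem_minimalPrimes _ p hp
  -- the closed subscheme
  have hmem : ∀ y : Spec (CommRingCat.of (Γ(Z.left, V.1) ⧸ p)), cι V.2 p y ∈ (θ.support : Set Z.left) := by
    intro y
    have hy := cι_mem V.2 p y
    refine (mem_support_iff θ V hθV _ hy).2 ?_
    have h1 : V.2.primeIdealOf ⟨cι V.2 p y, hy⟩ = Spec.map (CommRingCat.ofHom (Ideal.Quotient.mk p)) y :=
      V.2.fromSpec.isOpenEmbedding.injective (V.2.fromSpec_primeIdealOf ⟨cι V.2 p y, hy⟩)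
    rw [h1]
    have h2 : Ideal.Quotient.mk p f₁ ∈ y.asIdeal := by
      rw [Ideal.Quotient.eq_zero_iff_mem.2 (hp.1.2 (Ideal.mem_span_singleton_self f₁))]
      exact y.asIdeal.zero_mem
    exact h2
  let Y : Over (B0 k) := Over.mk (cι V.2 p ≫ Z.hom)
  let i : Y ⟶ Z := Over.homMk (cι V.2 p)
  have hYi : IsIntegral Y.left := inferInstanceAs (IsIntegral (Spec (CommRingCat.of (Γ(Z.left, V.1) ⧸ p))))
  have hYf : LocallyOfFiniteType Y.hom := by
    have h1 : LocallyOfFiniteType (Spec.map (CommRingCat.ofHom (Ideal.Quotient.mk p))) :=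
      (HasRingHomProperty.Spec_iff (P := @LocallyOfFiniteType)).2
        (RingHom.FiniteType.of_surjective _ Ideal.Quotient.mk_surjective)
    exact inferInstanceAs (LocallyOfFiniteType
      ((Spec.map (CommRingCat.ofHom (Ideal.Quotient.mk p)) ≫ V.2.fromSpec) ≫ Z.hom))
  have hns : ∀ y : Spec (CommRingCat.of k) ⟶ Y.left, y ≫ Y.hom = 𝟙 _ → ¬ K325.StabFib.StAt r (pl k X i E) y := by
    intro y hy hst
    have h1 := hS (y ≫ i.left) (by rw [Category.assoc, Over.w i]; exact hy) (stAt_of_pl i y hst)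
    have h2 : (y ≫ i.left) (IsLocalRing.closedPoint k) ∈ (θ.support : Set Z.left) :=
      hmem (y (IsLocalRing.closedPoint k))
    have h3 : (y ≫ i.left) (IsLocalRing.closedPoint k) ∈ V.1 := cι_mem V.2 p (y (IsLocalRing.closedPoint k))
    exact hfW h3 (subset_closure ⟨h1, h2⟩)
  obtain ⟨T, q₀, r₁, r₂, C, hT1, hT2, hT3, hC, ⟨eC⟩, hr₁, hr₂, hrr, hC1, hC3, hd1, hd3⟩ :=
    K325.Spread.main hdim hr Y (OkPull.ussOK_pull (st k X) i hE) hns
  have e : ⊤ ≤ (q₀ ≫ i).left ⁻¹ᵁ V.1 := fun t _ => cι_mem V.2 p (q₀.left t)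
  obtain ⟨ψ, hψ1, hψ2, hψ3⟩ := chart V.2 p q₀.left (q₀ ≫ i).left rfl e
  refine ⟨V, p, T, q₀ ≫ i, e, ψ, r₁, r₂, C, hdom, hic, hpr, hht, hT1, hT2, ?_, hψ1, hψ2, hψ3,
    fun t => hmem (q₀.left t), hC, ⟨eC ≪≫ Jump.plComp q₀ i E⟩, hr₁, hr₂, hrr, hC1, hC3, hd1, hd3⟩
  rw [← Over.w q₀]
  infer_instance

end Main

end K562.Bad
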