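import Groth.Agent.BunMod.K562.DetRad
import Mathlib.RingTheory.Etale.Basic

/-!
# Generic first order behaviour along an étale scheme over a closed subscheme of codimension at most one

`K562.Dens.main`: let `R` be a normal domain of finite type over an algebraically closed field `k`,
`p` a prime of height at most one, `R'` a domain of finite type, formally smooth over `R ⧸ p`, with
`R ⧸ p → R'` injective, and `d` a square matrix over `R'`.  For `t` in a non-empty open subset of the
`k`-points of `R'`, over the point `z` of `R`: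

* every tangent vector at `t` acts by zero `ker d(t) → coker d(t)`;
* the tangent space of `R ⧸ p` at `z` is cut out by one linear condition in the one of `R`;
* every tangent vector of `R ⧸ p` at `z` lifts to `t`.
-/

set_option autoImplicit false

universe u

namespace K562.Dens

open Matrix K562.DetRad

section Generic

variable {k R : Type u} [Field k] [CommRing R] [IsDomain R]

/-- Generically, tangent vectors act by zero from the kernel to the cokernel of a matrix. -/
theorem exists_generic {n : Type*} [Fintype n] [DecidableEq n] (d : Matrix n n R) :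
    ∃ b : R, b ≠ 0 ∧ ∀ m : R →+* k, m b ≠ 0 → ∀ D : R →+ k, IsTan m D → ∀ s : n → k,
      d.map m *ᵥ s = 0 → ∃ c : n → k, d.map D *ᵥ s = d.map m *ᵥ c := by
  obtain ⟨L, L', E, hE⟩ := Matrix.Pivot.exists_list_transvec_mul_mul_list_transvec_eq_diagonal
    (d.map (algebraMap R (FractionRing R)))
  have hdL : ∀ L : List (TransvectionStruct n (FractionRing R)),
      (L.map TransvectionStruct.toMatrix).prod.det = 1 := fun L => TransvectionStruct.det_toMatrix_prod L
  obtain ⟨b, hb, A, A', C, C', e, hA, hA', hC, hC', hn, h6⟩ := spread (nonZeroDivisors R) le_rfl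
    (FractionRing R) d _ _ E (by rw [hdL]; exact isUnit_one) (by rw [hdL]; exact isUnit_one) hE
  have hb0 : b ≠ 0 := nonZeroDivisors.ne_zero hb
  classical
  refine ⟨b * ∏ i, (if e i = 0 then 1 else e i), mul_ne_zero hb0
    (Finset.prod_ne_zero_iff.mpr fun i _ => ?_), ?_⟩
  · split_ifs with h
    · exact one_ne_zero
    · exact h
  intro m hm D hD s hs
  rw [map_mul, map_prod] at hm
  have hmb : m b ≠ 0 := left_ne_zero_of_mul hm
  have hme : ∀ i, e i ≠ 0 → m (e i) ≠ 0 := by
    intro i hi
    have := (Finset.prod_ne_zero_iff.mp (right_ne_zero_of_mul hm)) i (Finset.mem_univ i)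
    rwa [if_neg hi] at this
  have hA'm : A'.map m * A.map m = m b • 1 := by
    rw [← map_smul_one, ← hA', Matrix.map_mul]
  have hCm : C.map m * C'.map m = m b • 1 := by
    rw [← map_smul_one, ← hC, Matrix.map_mul]
  have hnm : A.map m * d.map m * C.map m = diagonal (fun l => m (e l)) := by
    rw [← Matrix.map_mul, ← Matrix.map_mul, hn, Matrix.diagonal_map (map_zero m)]
  set t : n → k := (m b)⁻¹ • (C'.map m *ᵥ s) with ht
  have hst : C.map m *ᵥ t = s := by
    rw [ht, Matrix.mulVec_smul, Matrix.mulVec_mulVec, hCm, Matrix.smul_mulVec, Matrix.one_mulVec,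
      smul_smul, inv_mul_cancel₀ hmb, one_smul]
  have hte : ∀ i, m (e i) * t i = 0 := by
    intro i
    have h1 : diagonal (fun l => m (e l)) *ᵥ t = 0 := by
      rw [← hnm, ← Matrix.mulVec_mulVec, hst, ← Matrix.mulVec_mulVec, hs, Matrix.mulVec_zero]
    have := congrFun h1 i
    rwa [Matrix.mulVec_diagonal] at this
  have hte' : ∀ i, D (e i) * t i = 0 := by
    intro i
    by_cases hi : e i = 0
    · rw [hi, map_zero, zero_mul]
    · rw [(mul_eq_zero.mp (hte i)).resolve_left (hme i hi), mul_zero]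
  have hder : diagonal (fun l => D (e l)) = A.map m * d.map m * C.map D +
      (A.map m * d.map D + A.map D * d.map m) * C.map m := by
    rw [← hD.map_mul, ← Matrix.map_mul, ← hD.map_mul, hn, Matrix.diagonal_map (map_zero D)]
  have h3 : (0 : n → k) =
      A.map m *ᵥ (d.map m *ᵥ (C.map D *ᵥ t)) + A.map m *ᵥ (d.map D *ᵥ s) := by
    have h4 : diagonal (fun l => D (e l)) *ᵥ t = 0 := by
      funext i
      rw [Matrix.mulVec_diagonal, Pi.zero_apply]
      exact hte' i
    rw [← h4, hder, Matrix.add_mulVec, ← Matrix.mulVec_mulVec, ← Matrix.mulVec_mulVec,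
      ← Matrix.mulVec_mulVec _ (A.map m * d.map D + A.map D * d.map m) (C.map m), hst,
      Matrix.add_mulVec, ← Matrix.mulVec_mulVec _ (A.map m) (d.map D),
      ← Matrix.mulVec_mulVec _ (A.map D) (d.map m), hs, Matrix.mulVec_zero, add_zero]
  refine ⟨-(C.map D *ᵥ t), ?_⟩
  have h5 : m b • (d.map m *ᵥ (C.map D *ᵥ t) + d.map D *ᵥ s) = 0 := by
    have : m b • (d.map m *ᵥ (C.map D *ᵥ t) + d.map D *ᵥ s) =
        A'.map m *ᵥ (A.map m *ᵥ (d.map m *ᵥ (C.map D *ᵥ t)) + A.map m *ᵥ (d.map D *ᵥ s)) := by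
      rw [← Matrix.mulVec_add, Matrix.mulVec_mulVec _ (A'.map m) (A.map m), hA'm,
        Matrix.smul_mulVec, Matrix.one_mulVec]
    rw [this, ← h3, Matrix.mulVec_zero]
  have h6 := (smul_eq_zero.mp h5).resolve_left hmb
  rw [Matrix.mulVec_neg, eq_neg_iff_add_eq_zero, add_comm]
  exact h6

omit [IsDomain R] in
/-- A tangent vector killing a generator of a prime kills the prime. -/
theorem IsTan.eq_zero_of_mul {m : R →+* k} {D : R →+ k} (hD : IsTan m D) {p : Ideal R}
    (hp : ∀ x ∈ p, m x = 0) {g π x : R} (hg : m g ≠ 0) (hπp : π ∈ p) (hπ : D π = 0) (hx : x ∈ p)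
    (h : g * x ∈ Ideal.span {π}) : D x = 0 := by
  obtain ⟨y, hy⟩ := Ideal.mem_span_singleton'.mp h
  have h1 : D (g * x) = m g * D x := by rw [hD, hp x hx, zero_mul, add_zero]
  have h2 : D (y * π) = 0 := by rw [hD, hp π hπp, zero_mul, add_zero, hπ, mul_zero]
  rw [hy, h1] at h2
  exact (mul_eq_zero.mp h2).resolve_left hg

/-- Primes of height at most one in a normal domain are principal off a proper closed subset. -/
theorem exists_principal [IsNoetherianRing R] [IsIntegrallyClosed R] (p : Ideal R) [p.IsPrime]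
    (hp : p.height ≤ 1) : ∃ g π : R, g ∉ p ∧ π ∈ p ∧ ∀ x ∈ p, g * x ∈ Ideal.span {π} := by
  rcases eq_or_ne p ⊥ with rfl | hbot
  · refine ⟨1, 0, fun h => one_ne_zero (α := R) h, Ideal.zero_mem _, fun x hx => ?_⟩
    rw [(Ideal.mem_bot).mp hx, mul_zero]
    exact Ideal.zero_mem _
  have hp1 : p.height = 1 := by
    refine le_antisymm hp ?_
    rw [Order.one_le_iff_pos, pos_iff_ne_zero]
    intro h0
    rw [Ideal.height_eq_zero_iff, IsDomain.minimalPrimes_eq_singleton_bot,
      Set.mem_singleton_iff] at h0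
    exact hbot h0
  have hpid : IsPrincipalIdealRing (Localization.AtPrime p) := isPrincipalIdealRing_of_height_one p hp1
  have hinj : Function.Injective (algebraMap R (Localization.AtPrime p)) :=
    IsLocalization.injective _ p.primeCompl_le_nonZeroDivisors
  obtain ⟨π', hπ'⟩ := (IsPrincipalIdealRing.principal
    (p.map (algebraMap R (Localization.AtPrime p)))).principal
  have hπ'' : p.map (algebraMap R (Localization.AtPrime p)) = Ideal.span {π'} := hπ'
  obtain ⟨⟨π, s⟩, hπs⟩ := IsLocalization.surj p.primeCompl π'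
  have hspan : p.map (algebraMap R (Localization.AtPrime p)) =
      Ideal.span {algebraMap R (Localization.AtPrime p) π} := by
    rw [hπ'']
    exact Ideal.span_singleton_eq_span_singleton.mpr
      ⟨(IsLocalization.map_units (Localization.AtPrime p) s).unit, hπs⟩
  have hπp : π ∈ p := by
    have h1 : algebraMap R (Localization.AtPrime p) π ∈
        p.map (algebraMap R (Localization.AtPrime p)) := by
      rw [hspan]; exact Ideal.mem_span_singleton_self _
    rw [Localization.AtPrime.map_eq_maximalIdeal] at h1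
    rwa [IsLocalization.AtPrime.to_map_mem_maximal_iff (Localization.AtPrime p) p] at h1
  obtain ⟨S, hS⟩ := (isNoetherianRing_iff_ideal_fg R).mp inferInstance p
  have hloc : ∀ x ∈ p, ∃ g : R, g ∉ p ∧ g * x ∈ Ideal.span {π} := by
    intro x hx
    have h1 : algebraMap R (Localization.AtPrime p) x ∈
        Ideal.span {algebraMap R (Localization.AtPrime p) π} := by
      rw [← hspan]; exact Ideal.mem_map_of_mem _ hx
    obtain ⟨y, hy⟩ := Ideal.mem_span_singleton'.mp h1
    obtain ⟨⟨a, s⟩, has⟩ := IsLocalization.surj p.primeCompl y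
    refine ⟨s.1, s.2, ?_⟩
    have h2 : s.1 * x = a * π := by
      apply hinj
      rw [map_mul, map_mul, ← hy, ← mul_assoc, mul_comm _ y]
      exact congrArg (· * _) has
    rw [h2]
    exact Ideal.mul_mem_left _ _ (Ideal.mem_span_singleton_self π)
  choose! g hg hgx using hloc
  classical
  refine ⟨∏ x ∈ S, g x, π, fun h => ?_, hπp, ?_⟩
  · obtain ⟨x, hxS, hx⟩ := (Ideal.IsPrime.prod_mem_iff (p := p)).mp h
    exact hg x (hS ▸ Ideal.subset_span hxS) hx
  · intro x hx
    rw [← hS] at hx
    induction hx using Submodule.span_induction with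
    | mem x hxS =>
      rw [← Finset.mul_prod_erase S g hxS, mul_comm (g x), mul_assoc]
      exact Ideal.mul_mem_left _ _ (hgx x (hS ▸ Ideal.subset_span hxS))
    | zero => rw [mul_zero]; exact Ideal.zero_mem _
    | add x y _ _ hx hy => rw [mul_add]; exact Ideal.add_mem _ hx hy
    | smul a x _ hx => rw [smul_eq_mul, mul_left_comm]; exact Ideal.mul_mem_left _ _ hx

end Generic

section Lift

variable {k R R' : Type u} [Field k] [CommRing R] [CommRing R'] [Algebra k R] [Algebra k R']
  [Algebra R R'] [IsScalarTower k R R'] (p : Ideal R) [Algebra (R ⧸ p) R'] [IsScalarTower R (R ⧸ p) R']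
  [Algebra.FormallySmooth (R ⧸ p) R']

/-- Tangent vectors of `R ⧸ p` lift to a formally smooth `R ⧸ p`-algebra. -/
theorem exists_lift (t : R' →ₐ[k] k) (v : R →ₐ[k] DualNumber k) (hv : ∀ x, (v x).fst = t (algebraMap R R' x))
    (hvp : ∀ x ∈ p, v x = 0) :
    ∃ w : R' →ₐ[k] DualNumber k, (∀ x, (w x).fst = t x) ∧ ∀ x, w (algebraMap R R' x) = v x := by
  let v' : R ⧸ p →+* DualNumber k := Ideal.Quotient.lift p (v : R →+* DualNumber k) hvp
  let _ : Algebra (R ⧸ p) (DualNumber k) := v'.toAlgebra
  let _ : Algebra (R ⧸ p) k := ((t : R' →+* k).comp (algebraMap (R ⧸ p) R')).toAlgebra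
  let g : DualNumber k →ₐ[R ⧸ p] k := { (TrivSqZeroExt.fstHom k k k : DualNumber k →+* k) with
    commutes' := by
      intro x
      obtain ⟨y, rfl⟩ := Ideal.Quotient.mk_surjective x
      change (v y).fst = t (algebraMap (R ⧸ p) R' (Ideal.Quotient.mk p y))
      rw [hv, IsScalarTower.algebraMap_apply R (R ⧸ p) R']
      rfl }
  let t' : R' →ₐ[R ⧸ p] k := { (t : R' →+* k) with commutes' := fun x => rfl }
  have hg : Function.Surjective g := fun x => ⟨TrivSqZeroExt.inl x, rfl⟩
  have hker : IsNilpotent (RingHom.ker (g : DualNumber k →+* k)) := by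
    have h2 : RingHom.ker (g : DualNumber k →+* k) ^ 2 = ⊥ := by
      rw [pow_two, eq_bot_iff, Ideal.mul_le]
      intro a ha b hb
      have ha' : a.fst = 0 := ha
      have hb' : b.fst = 0 := hb
      rw [Ideal.mem_bot]
      ext
      · rw [TrivSqZeroExt.fst_mul, ha', zero_mul]; rfl
      · rw [TrivSqZeroExt.snd_mul, ha', hb']; simp
    exact ⟨2, h2⟩
  let w : R' →ₐ[R ⧸ p] DualNumber k := Algebra.FormallySmooth.liftOfSurjective t' g hg hker
  have hw : ∀ x, g (w x) = t' x := Algebra.FormallySmooth.liftOfSurjective_apply t' g hg hker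
  have hwR : ∀ x, w (algebraMap R R' x) = v x := by
    intro x
    rw [IsScalarTower.algebraMap_apply R (R ⧸ p) R']
    exact w.commutes _
  refine ⟨{ (w : R' →+* DualNumber k) with commutes' := ?_ }, hw, hwR⟩
  intro a
  change w (algebraMap k R' a) = _
  rw [IsScalarTower.algebraMap_apply k R R', hwR, v.commutes]

end Lift

section Main

variable {k R R' : Type u} [Field k] [IsAlgClosed k] [CommRing R] [IsDomain R] [IsIntegrallyClosed R]
  [Algebra k R] [Algebra.FiniteType k R] [CommRing R'] [IsDomain R'] [Algebra k R'] [Algebra R R']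
  [IsScalarTower k R R'] (p : Ideal R) [p.IsPrime] [Algebra (R ⧸ p) R'] [IsScalarTower R (R ⧸ p) R']
  [Algebra.FormallySmooth (R ⧸ p) R']

omit [IsAlgClosed k] in
/-- Generic first order behaviour along an étale scheme over `R ⧸ p`, with `p` of height at most
one. -/
theorem main (hp : p.height ≤ 1) (hker : RingHom.ker (algebraMap R R') = p) {n : ℕ}
    (d : Matrix (Fin n) (Fin n) R') :
    ∃ g : R', g ≠ 0 ∧ ∃ π ∈ p, ∀ t : R' →ₐ[k] k, t g ≠ 0 →
      (∀ w : R' →ₐ[k] DualNumber k, (∀ x, (w x).fst = t x) → ∀ s : Fin n → k, d.map t *ᵥ s = 0 →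
        ∃ c : Fin n → k, (fun i => ∑ j, (w (d i j)).snd * s j) = d.map t *ᵥ c) ∧
      (∀ v : R →ₐ[k] DualNumber k, (∀ x, (v x).fst = t (algebraMap R R' x)) → (v π).snd = 0 →
        (∀ x ∈ p, v x = 0) ∧
          ∃ w : R' →ₐ[k] DualNumber k, (∀ x, (w x).fst = t x) ∧ ∀ x, w (algebraMap R R' x) = v x) := by
  have hN : IsNoetherianRing R := Algebra.FiniteType.isNoetherianRing k R
  obtain ⟨b, hb, hgen⟩ := exists_generic (k := k) d
  obtain ⟨g, π, hg, hπ, hgπ⟩ := exists_principal p hp
  have hg' : algebraMap R R' g ≠ 0 := by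
    intro h
    exact hg (hker ▸ h)
  refine ⟨b * algebraMap R R' g, mul_ne_zero hb hg', π, hπ, fun t ht => ?_⟩
  rw [map_mul] at ht
  have hpt : ∀ x ∈ p, t (algebraMap R R' x) = 0 := by
    intro x hx
    rw [← hker] at hx
    rw [show algebraMap R R' x = 0 from hx, map_zero]
  have htan : ∀ {A : Type u} [CommRing A] [Algebra k A] (m : A →ₐ[k] k) (v : A →ₐ[k] DualNumber k),
      (∀ x, (v x).fst = m x) → ∃ D : A →+ k, IsTan (m : A →+* k) D ∧ ∀ x, D x = (v x).snd := by
    intro A _ _ m v hv
    refine ⟨⟨⟨fun x => (v x).snd, by simp⟩, fun x y => by simp⟩, ?_, fun x => rfl⟩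
    intro x y
    change (v (x * y)).snd = m x * (v y).snd + m y * (v x).snd
    rw [map_mul, DualNumber.snd_mul, hv, hv, mul_comm (m y)]
  refine ⟨?_, ?_⟩
  · intro w hw s hs
    obtain ⟨D, hD, hDw⟩ := htan t w hw
    obtain ⟨c, hc⟩ := hgen (t : R' →+* k) (left_ne_zero_of_mul ht) D hD s hs
    refine ⟨c, ?_⟩
    rw [show d.map t *ᵥ c = d.map (t : R' →+* k) *ᵥ c from rfl, ← hc]
    funext i
    simp only [Matrix.mulVec, dotProduct, Matrix.map_apply, hDw]
  · intro v hv hvπ
    let z : R →ₐ[k] k := t.comp (IsScalarTower.toAlgHom k R R')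
    obtain ⟨D, hD, hDv⟩ := htan z v hv
    have hvp : ∀ x ∈ p, v x = 0 := by
      intro x hx
      have h1 : D x = 0 := IsTan.eq_zero_of_mul hD (p := p) hpt (g := g) (right_ne_zero_of_mul ht) hπ
        (by rw [hDv]; exact hvπ) hx (hgπ x hx)
      ext
      · rw [hv, hpt x hx]; rfl
      · rw [← hDv, h1]; rfl
    exact ⟨hvp, exists_lift p t v hv hvp⟩

end Main

end K562.Dens
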