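import Groth.Agent.BunMod.K562.DensPt
import Groth.Agent.BunMod.K562.Bad
import Groth.Agent.BunMod.K140.Asm4
import Groth.Agent.S0018

/-!
# The stable points are dense in the theta locus

`main_gen`: `Z` smooth over `k`, `E` a family over `Z` for a subproblem `Q` of semistable bundles of rank `r` and degree
`0`, such that admissible families over `Spec k[ε]` lift to `Z` and there are enough admissible extensions; if the theta
ideal is effective Cartier, its support is the closure of its stable part.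
-/

set_option autoImplicit false

universe w u

open CategoryTheory CategoryTheory.Limits AlgebraicGeometry TopologicalSpace Opposite Abelian

namespace K562.DensAsm

open K140.BM Groth.Agent K822 K822.Tr K822.XTD K822.OntoX K562.PtMat K562.PtHom
open Groth.Agent.Fga.RigGrp

section Ev

variable {k : Type u} [Field k] {T : Over (B0 k)}

/-- The support of an ideal sheaf on an affine scheme generated by one function. -/
theorem mem_supp_iff_ev [IsAffine T.left] (J : T.left.IdealSheafData) {f : Γ(T.left, ⊤)}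
    (hJ : J.ideal ⟨⊤, isAffineOpen_top _⟩ = Ideal.span {f}) (t : T0 k ⟶ T) (p : (T0 k).left) :
    t.left p ∈ J.support ↔ ev0 t f = 0 := by
  have h1 : t.left p ∈ (J.support : Set T.left) ↔ t.left p ∈ T.left.zeroLocus (U := ⊤) (J.ideal ⟨⊤, isAffineOpen_top _⟩) :=
    Scheme.IdealSheafData.mem_support_iff_of_mem (U := ⟨⊤, isAffineOpen_top _⟩) (Set.mem_univ _)
  have h2 : t.left p ∈ T.left.zeroLocus (U := ⊤) (J.ideal ⟨⊤, isAffineOpen_top _⟩) ↔ t.left p ∉ T.left.basicOpen f := by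
    rw [hJ, Scheme.mem_zeroLocus_iff]
    constructor
    · exact fun h => h f (Ideal.mem_span_singleton_self f)
    · intro h g hg hgt
      obtain ⟨a, rfl⟩ := Ideal.mem_span_singleton'.1 hg
      rw [Scheme.basicOpen_mul] at hgt
      exact h hgt.2
  have h3 : t.left p ∈ T.left.basicOpen f ↔ p ∈ (T0 k).left.basicOpen (t.left.appTop f) := by
    rw [← Scheme.preimage_basicOpen_top]
    rfl
  have h4 : p ∈ (T0 k).left.basicOpen (t.left.appTop f) ↔ ev0 t f ≠ 0 := by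
    have e1 : (Scheme.ΓSpecIso (CommRingCat.of k)).inv (ev0 t f) = t.left.appTop f :=
      congr($((Scheme.ΓSpecIso (CommRingCat.of k)).hom_inv_id) (t.left.appTop f))
    constructor
    · intro h h0
      rw [← e1, h0, map_zero] at h
      have h5 : (T0 k).left.basicOpen (0 : Γ((T0 k).left, ⊤)) = ⊥ := Scheme.basicOpen_zero _ _
      rw [h5] at h
      exact h
    · intro h
      have h5 : IsUnit (t.left.appTop f) := by
        rw [← e1]
        exact (IsUnit.mk0 _ h).map _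
      rw [Scheme.basicOpen_of_isUnit _ h5]
      exact Set.mem_univ _
  exact h1.trans (h2.trans (by rw [h3, h4, not_not]))

end Ev

section Chart

variable {k : Type u} [Field k] {Z T : Over (B0 k)}

/-- The chart, factored through the open. -/
theorem exists_fac (q : T ⟶ Z) {V : Z.left.Opens} (e : ⊤ ≤ q.left ⁻¹ᵁ V) : ∃ q' : T ⟶ opn Z V, q' ≫ opi Z V = q := by
  have hr : Set.range q.left ⊆ Set.range V.ι := by
    rintro _ ⟨x, rfl⟩
    have h1 : q.left x ∈ V := e (Set.mem_univ x)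
    exact ⟨⟨q.left x, h1⟩, rfl⟩
  let ql : T.left ⟶ (V : Scheme.{u}) := IsOpenImmersion.lift V.ι q.left hr
  have hql : ql ≫ V.ι = q.left := IsOpenImmersion.lift_fac _ _ _
  refine ⟨Over.homMk ql (by
    change ql ≫ V.ι ≫ Z.hom = _
    rw [← Category.assoc, hql]
    exact Over.w q), Over.OverMorphism.ext hql⟩

theorem appTop_fac {q : T ⟶ Z} {V : Z.left.Opens} (e : ⊤ ≤ q.left ⁻¹ᵁ V) {q' : T ⟶ opn Z V}
    (h : q' ≫ opi Z V = q) (x : Γ(Z.left, V)) : q'.left.appTop (V.topIso.inv x) = q.left.appLE V ⊤ e x := by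
  have h0 : (⊤ : (V : Scheme.{u}).Opens) ≤ V.ι ⁻¹ᵁ V := fun y _ => y.2
  have h1 : V.topIso.inv = V.ι.appLE V ⊤ h0 := by
    rw [← cancel_mono V.topIso.hom, Iso.inv_hom_id]
    exact (K54.DP.appLE_topIso V h0).symm
  have h2 : V.ι.appLE V ⊤ h0 ≫ q'.left.appTop = q.left.appLE V ⊤ e := by
    subst h
    have h3 := Scheme.Hom.appLE_comp_appLE q'.left V.ι V ⊤ ⊤ h0 le_top
    have h4 : q'.left.appLE ⊤ ⊤ le_top = q'.left.appTop := Scheme.Hom.appLE_eq_app _
    rw [h4] at h3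
    exact h3
  rw [h1]
  exact congr($h2 x)

end Chart

section Main

variable {k : Type u} [Field k] [IsAlgClosed k] [CharZero k] {X : Scheme.{u}} [X.Over (Spec (CommRingCat.of k))]
  [IsProper (X ↘ Spec (CommRingCat.of k))] [Smooth (X ↘ Spec (CommRingCat.of k))]
  [GeometricallyConnected (X ↘ Spec (CommRingCat.of k))]

/-- **The stable points are dense in the support of the theta ideal.** -/
theorem main_gen [HasExt.{w} (PicF.XT (st k X) (T0 k)).Modules] (hdim : topologicalKrullDim X = 1)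
    (hg : 2 ≤ Curv2.genus k X) {r : ℕ} (hr : 0 < r) {S : ShortComplex X.Modules} (hS : BunMod.K356.Seq.SeqOK k S)
    {Q : ∀ T : Over (B0 k), (ModFun.modProb (st k X)).Fam T → Prop} (hQ : SubProb k X r Q)
    (hfilt : ∀ {C : ShortComplex (PicF.XT (st k X) (T0 k)).Modules}, C.ShortExact → ∀ {n₁ n₃ : ℕ},
      FlatMod.IsFinLocFreeOfRank (n₁ + 1) C.X₁ → FlatMod.IsFinLocFreeOfRank (n₃ + 1) C.X₃ → Q (T0 k) C.X₂ →
      ∀ {N₀ : (PicF.XT (st k X) (T0 k)).Modules}, PicF.IsInvertible N₀ → K892.AdmFilt.{w} Q C N₀)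
    (Z : Over (B0 k)) [Smooth Z.hom] {E : (PicF.XT (st k X) Z).Modules} (hE : Q Z E) (hlift : LiftPt.HasLift Q Z E)
    (hθ : BlowUp.IsEffCartierIdeal (thetaIdeal k S.X₁ Z E)) (S₀ : Set Z.left)
    (hS₀ : ∀ t : Spec (CommRingCat.of k) ⟶ Z.left, t ≫ Z.hom = 𝟙 _ → K325.StabFib.StAt r E t →
      t (IsLocalRing.closedPoint k) ∈ S₀) :
    ((thetaIdeal k S.X₁ Z E).support : Set Z.left) ⊆
      closure (S₀ ∩ ((thetaIdeal k S.X₁ Z E).support : Set Z.left)) := by
  by_contra hn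
  obtain ⟨V, p, T, q, e, ψ, r₁, r₂, C, hdom, hic, hpr, hht, hTi, hTa, hTf, hψ, hψi, hψq, hsupp, hC, ⟨ι⟩, hr₁, hr₂,
    hrr, hC1, hC3, hd1, hd3⟩ := Bad.exists_bad hdim hr Z (hQ.le _ _ hE) _ hθ S₀ hS₀ hn
  have hN : FlatMod.IsFinLocFree S.X₁ := K774.D1.isFinLocFree (Ega2.QCohLocal.isFinLocFreeOfRank_one_iff.2 hS.inv₁)
  have hB : FlatMod.IsFinLocFree S.X₂ := K774.D1.isFinLocFree (Ega2.QCohLocal.isFinLocFreeOfRank_one_iff.2 hS.inv₂)
  have hfl : ∀ {T : Over (B0 k)} {r : ℕ} {F : (PicF.XT (st k X) T).Modules}, BunMod.ussOK (st k X) r 0 T F →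
    FlatMod.IsFinLocFree F := fun h => K774.D1.isFinLocFree h.1
  -- the pieces are semistable
  have hQ2 : Q T C.X₂ := hQ.iso _ _ _ ⟨ι.symm⟩ (hQ.pull q E hE)
  obtain ⟨hs1, hs3⟩ := SubDeg.sub_quot hdim hC hr₁ hrr hC1 hC3 hd1 hd3 (hQ.le _ _ hQ2)
  -- presentations near the generic point
  have hXn : IsLocallyNoetherian X := LocallyOfFiniteType.isLocallyNoetherian (X ↘ Spec (CommRingCat.of k))
  have h3 : CohB1.IsFP S.X₃ := (S0018.result X _).1 hS.coh₃
  obtain ⟨W₁, hη1, H1⟩ := K54.DP.exists_detPres hdim.le hS.ex hN hB h3 (hfl hs1) (SubDeg.geomTw hdim hS hs1)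
    (SubDeg.geomChi hdim hS hs1) (genericPoint T.left)
  obtain ⟨W₃, hη3, H3⟩ := K54.DP.exists_detPres hdim.le hS.ex hN hB h3 (hfl hs3) (SubDeg.geomTw hdim hS hs3)
    (SubDeg.geomChi hdim hS hs3) (genericPoint T.left)
  obtain ⟨W, hW, hηW, hWW⟩ := exists_isAffineOpen_mem_and_subset (X := T.left) (x := genericPoint T.left)
    (U := W₁ ⊓ W₃) ⟨hη1, hη3⟩
  obtain ⟨D1⟩ := H1 (opi T W) fun x => (hWW x.2).1
  obtain ⟨D3⟩ := H3 (opi T W) fun x => (hWW x.2).2
  have hTWa : IsAffine (opn T W).left := hW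
  have hWne : Nonempty W := ⟨⟨_, hηW⟩⟩
  have hWi : IsIntegral (opn T W).left := inferInstanceAs (IsIntegral (W : Scheme.{u}))
  have hTWf : LocallyOfFiniteType (opn T W).hom := inferInstanceAs (LocallyOfFiniteType (W.ι ≫ T.hom))
  have hTWd : IsDomain Γ((opn T W).left, ⊤) := inferInstance
  -- the chart
  have e' : ⊤ ≤ (opi T W ≫ q).left ⁻¹ᵁ V.1 := fun x _ => e (Set.mem_univ ((opi T W).left x))
  obtain ⟨q', hq'⟩ := exists_fac (opi T W ≫ q) e'
  have hZa : IsAffine (opn Z V.1).left := V.2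
  let ψ' : Γ(Z.left, V.1) ⧸ p →+* Γ((opn T W).left, ⊤) := (opi T W).left.appTop.hom.comp ψ
  have hψ' : ψ'.Etale := RingHom.Etale.stableUnderComposition _ _ hψ
    ((HasRingHomProperty.iff_of_isAffine (P := @Etale)).1 (inferInstanceAs (Etale W.ι)))
  have hinj : Function.Injective ((opi T W).left.appTop.hom) := by
    have h1 : (opi T W).left.appTop = T.left.presheaf.map (homOfLE (x := W.ι ''ᵁ ⊤) le_top).op :=
      Scheme.Opens.ι_appTop _
    have : Nonempty (W.ι ''ᵁ ⊤ : T.left.Opens) := ⟨⟨genericPoint T.left, by rw [Scheme.Opens.ι_image_top]; exact hηW⟩⟩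
    rw [h1]
    exact map_injective_of_isIntegral T.left (homOfLE (x := W.ι ''ᵁ ⊤) le_top)
  have hψi' : Function.Injective ψ' := hinj.comp hψi
  have hψq' : ∀ x : Γ(Z.left, V.1), ψ' (Ideal.Quotient.mk p x) = q'.left.appTop (V.1.topIso.inv x) := by
    intro x
    rw [appTop_fac e' hq']
    have h1 : ψ (Ideal.Quotient.mk p x) = q.left.appLE V.1 ⊤ e x := congr($hψq x)
    change (opi T W).left.appTop (ψ (Ideal.Quotient.mk p x)) = _
    rw [h1]
    have h2 := Scheme.Hom.appLE_comp_appLE (opi T W).left q.left V.1 ⊤ ⊤ e le_top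
    have h4 : (opi T W).left.appLE ⊤ ⊤ le_top = (opi T W).left.appTop := Scheme.Hom.appLE_eq_app _
    rw [h4] at h2
    exact congr($h2 x)
  -- the restricted family
  let C' : ShortComplex (PicF.XT (st k X) (opn T W)).Modules :=
    C.map (Scheme.Modules.pullback (PicF.XTmap (st k X) (opi T W)))
  have hC' : C'.ShortExact := SubDeg.shortExact_pl (opi T W) hC (hfl hs3)
  have hs1' : BunMod.ussOK (st k X) r₁ 0 (opn T W) C'.X₁ := OkPull.ussOK_pull (st k X) (opi T W) hs1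
  have hs3' : BunMod.ussOK (st k X) r₂ 0 (opn T W) C'.X₃ := OkPull.ussOK_pull (st k X) (opi T W) hs3
  have hQ2' : Q (opn T W) C'.X₂ := hQ.pull (opi T W) _ hQ2
  have ι' : C'.X₂ ≅ (Scheme.Modules.pullback (PicF.XTmap (st k X) q')).obj (pl k X (opi Z V.1) E) :=
    K311.Fam.plMap (opi T W) ι ≪≫ K311.Fam.plComp (opi T W) q E ≪≫ K311.Fam.plCongr hq'.symm E ≪≫
      (K311.Fam.plComp q' (opi Z V.1) E).symm
  have hEV : Q (opn Z V.1) (pl k X (opi Z V.1) E) := hQ.pull _ _ hE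
  -- the determinants
  have i1 := D1.ideal hdim.le hS.ex hN hB h3 (hfl hs1') (SubDeg.geomTw hdim hS hs1')
  have i3 := D3.ideal hdim.le hS.ex hN hB h3 (hfl hs3') (SubDeg.geomTw hdim hS hs3')
  have hor : ∀ t : T0 k ⟶ opn T W, ev0 t D1.d.det = 0 ∨ ev0 t D3.d.det = 0 := by
    intro t
    have h1 : (thetaIdeal k S.X₁ (opn T W) C'.X₂) =
        (thetaIdeal k S.X₁ Z E).comap (opi T W ≫ q).left := by
      rw [K54.Theta.thetaIdeal_pl hdim.le hN _ (hfl (hQ.le _ _ hE))]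
      exact K54.Theta.thetaIdeal_iso hdim.le hN (hfl (hQ.le _ _ hQ2')) (hfl (hQ.le _ _ (hQ.pull _ _ hE)))
        (K311.Fam.plMap (opi T W) ι ≪≫ K311.Fam.plComp (opi T W) q E)
    have h2 : t.left (IsLocalRing.closedPoint k) ∈ (thetaIdeal k S.X₁ (opn T W) C'.X₂).support := by
      rw [h1, Scheme.IdealSheafData.support_comap]
      exact hsupp ((opi T W).left (t.left (IsLocalRing.closedPoint k)))
    rcases SubDeg.mem_supp_or hdim.le hS.inv₁ hC' (hfl hs1') (hfl (hQ.le _ _ hQ2')) (hfl hs3') (𝟙 (B0 k)) t _ h2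
      with h | h
    · exact Or.inl ((mem_supp_iff_ev _ i1 t _).1 h)
    · exact Or.inr ((mem_supp_iff_ev _ i3 t _).1 h)
  have hprod : D1.d.det * D3.d.det = 0 := eq_zero_of_pt fun t => by
    rw [map_mul]
    rcases hor t with h | h
    · rw [h, zero_mul]
    · rw [h, mul_zero]
  obtain ⟨n₁, rfl⟩ := Nat.exists_eq_succ_of_ne_zero hr₁.ne'
  obtain ⟨n₃, rfl⟩ := Nat.exists_eq_succ_of_ne_zero hr₂.ne'
  have hadm : ∀ t : T0 k ⟶ opn T W, K892.AdmFilt.{w} Q
      (C'.map (Scheme.Modules.pullback (PicF.XTmap (st k X) t))) (pl k X t (cst k (opn T W) S.X₁)) := by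
    intro t
    exact hfilt (SubDeg.shortExact_pl t hC' (hfl hs3')) (OkPull.ussOK_pull (st k X) t hs1').1
      (OkPull.ussOK_pull (st k X) t hs3').1 (hQ.pull t _ hQ2')
      (Fdesc.LocGen.isInvertible_pullback _ (Fdesc.LocGen.isInvertible_pullback _ hS.inv₁))
  rcases mul_eq_zero.1 hprod with h0 | h0
  · obtain ⟨g, hg0, π, H⟩ := geo V.2 p hht q' ψ' hψ' hψi' hψq' D1.d
    obtain ⟨t, ht⟩ := exists_pt_ne_zero hg0
    obtain ⟨Ha, Hb⟩ := H t ht
    exact DensPt.sub_point.{w} hdim hg hS (hfl (hQ.le _ _ hEV)) (hlift.opn V.1) q' hC' ι' (hfl (hQ.le _ _ hQ2')) hr₁ hr₂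
      hs1' hs3' t π Hb (hadm t) (IsLocalRing.closedPoint k) D1 Ha
      ((mem_supp_iff_ev _ i1 t _).2 (by rw [h0, map_zero]))
  · obtain ⟨g, hg0, π, H⟩ := geo V.2 p hht q' ψ' hψ' hψi' hψq' D3.d
    obtain ⟨t, ht⟩ := exists_pt_ne_zero hg0
    obtain ⟨Ha, Hb⟩ := H t ht
    exact DensPt.quo_point.{w} hdim hg hS (hfl (hQ.le _ _ hEV)) (hlift.opn V.1) q' hC' ι' (hfl (hQ.le _ _ hQ2')) hr₁ hr₂
      hs1' hs3' t π Hb (hadm t) (IsLocalRing.closedPoint k) D3 Ha
      ((mem_supp_iff_ev _ i3 t _).2 (by rw [h0, map_zero]))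

end Main

end K562.DensAsm
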