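import Groth.Agent.BunMod.K822.Cls
import Groth.Agent.BunMod.K774.D1f
import Groth.Agent.BunMod.K562.LiftPt
import Groth.Agent.LoccohB.SectLin303

/-!
# Families which are extensions along the support of the theta ideal

`T ⟶ Z` with `q^* E` an extension `C` of families of lower rank; `t` a point of `T` such that

* (`hii`) tangent vectors of `Z` at `q(t)` killed by one linear form `dπ` are tangent vectors of `T`,
* (`hrig`) for `i = 1` or `3` the classes of `C.X_i` along the tangent vectors of `T` kill `H⁰`;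

then if enough extensions of `E_(q(t))` by itself are realized on `Z` and `Ext¹ ≠ 0` between the pieces, with
`Hom = 0` if `dim Ext¹ = 1`, there is a contradiction (`sub_core`, `quo_core`).
-/

set_option autoImplicit false

universe w u

open CategoryTheory CategoryTheory.Limits AlgebraicGeometry TopologicalSpace Opposite Abelian

namespace K562.PW

open Groth.Agent.LoccohB.HHmap (smulHom smulHom_comp)
open Groth.Agent.LoccohB.SectLin303 (smulHom_add smulHom_mul smulHom_one)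
open K140.BM K822 K822.Eps K822.EMod K822.Tr K822.XTD K822.OntoX K822.XAdd K822.Cls K562.LiftPt

section Abs

variable {C : Type*} [Category C] [Abelian C] [HasExt.{w} C]

theorem comp_assoc3 {A B D E : C} (f : A ⟶ B) (x : Ext.{w} B D 1) (g : D ⟶ E) :
    ((Ext.mk₀ f).comp x (zero_add 1)).comp (Ext.mk₀ g) (add_zero 1) =
      (Ext.mk₀ f).comp (x.comp (Ext.mk₀ g) (add_zero 1)) (zero_add 1) :=
  Ext.comp_assoc _ _ _ (by lia) (by lia) (by lia)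

theorem comp_mk₀_mk₀ {A B D E : C} (x : Ext.{w} A B 1) (f : B ⟶ D) (g : D ⟶ E) :
    (x.comp (Ext.mk₀ f) (add_zero 1)).comp (Ext.mk₀ g) (add_zero 1) = x.comp (Ext.mk₀ (f ≫ g)) (add_zero 1) := by
  rw [Ext.comp_assoc (a₂₃ := 0) _ _ _ (by lia) (by lia) (by lia), Ext.mk₀_comp_mk₀]

theorem mk₀_mk₀_comp {A B D E : C} (f : A ⟶ B) (g : B ⟶ D) (x : Ext.{w} D E 1) :
    (Ext.mk₀ f).comp ((Ext.mk₀ g).comp x (zero_add 1)) (zero_add 1) = (Ext.mk₀ (f ≫ g)).comp x (zero_add 1) := by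
  rw [← Ext.comp_assoc (a₁₂ := 0) _ _ _ (by lia) (by lia) (by lia), Ext.mk₀_comp_mk₀]

/-- Conjugate classes. -/
theorem conj {A B : C} (a : A ≅ B) {x : Ext.{w} A A 1} {y : Ext.{w} B B 1}
    (h : x.comp (Ext.mk₀ a.hom) (add_zero 1) = (Ext.mk₀ a.hom).comp y (zero_add 1)) :
    x = (Ext.mk₀ a.hom).comp (y.comp (Ext.mk₀ a.inv) (add_zero 1)) (zero_add 1) := by
  rw [← comp_assoc3, ← h, comp_mk₀_mk₀, Iso.hom_inv_id, Ext.comp_mk₀_id]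

theorem conj_iff {A B : C} (a : A ≅ B) {x x' : Ext.{w} A A 1} {y : Ext.{w} B B 1}
    (h : x.comp (Ext.mk₀ a.hom) (add_zero 1) = (Ext.mk₀ a.hom).comp y (zero_add 1))
    (h' : x'.comp (Ext.mk₀ a.hom) (add_zero 1) = (Ext.mk₀ a.hom).comp y (zero_add 1)) : x = x' :=
  (conj a h).trans (conj a h').symm

end Abs

/-- The linear algebra of the argument. -/
theorem lin_core {V W K : Type*} [AddCommGroup W] [Field K] (act : K → W → W) (act_one : ∀ x, act 1 x = x)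
    (act_mul : ∀ c d x, act c (act d x) = act (c * d) x) (act_zero : ∀ c, act c 0 = 0)
    (act_add : ∀ c d x, act c x + act d x = act (c + d) x)
    (act_z : ∀ x, act 0 x = 0)
    (l : V → K) (b : V → W)
    (hcomb : ∀ v v₀ c, ∃ v', l v' = l v + c * l v₀ ∧ b v' = b v + act c (b v₀)) (h0 : ∀ v, l v = 0 → b v = 0)
    (v₀ : V) (hv₀ : b v₀ ≠ 0) (v : V) : ∃ c, b v = act c (b v₀) ∧ (b v = 0 → l v = 0) := by
  have hl : l v₀ ≠ 0 := fun h => hv₀ (h0 _ h)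
  obtain ⟨v', h1, h2⟩ := hcomb v v₀ (-(l v / l v₀))
  have h3 : b v' = 0 := by
    apply h0
    rw [h1]
    field_simp
    ring
  rw [h3] at h2
  have h4 : b v = act (l v / l v₀) (b v₀) := by
    have h5 : act (l v / l v₀) (b v₀) + act (-(l v / l v₀)) (b v₀) = 0 := by
      rw [act_add, add_neg_cancel, act_z]
    have h6 : b v + act (-(l v / l v₀)) (b v₀) = act (l v / l v₀) (b v₀) + act (-(l v / l v₀)) (b v₀) := by
      rw [← h2, h5]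
    exact add_right_cancel h6
  refine ⟨_, h4, fun hb => ?_⟩
  by_contra hne
  have h7 : act (l v₀ / l v) (b v) = b v₀ := by
    conv_lhs => rw [h4]
    rw [act_mul, div_mul_div_cancel₀ hne, div_self hl, act_one]
  rw [hb, act_zero] at h7
  exact hv₀ h7.symm

section AbsCore

variable {C : Type*} [Category C] [Abelian C] [HasExt.{w} C]

/-- **The abstract core.** -/
theorem abs_core {K : Type*} [Field K] {S : ShortComplex C} (hS : S.ShortExact) {Ez : C} (a : S.X₂ ≅ Ez)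
    (σ₂ : K → (Ez ⟶ Ez)) (σ₃ : K → (S.X₃ ⟶ S.X₃)) (hσ : ∀ c (f : Ez ⟶ S.X₃), σ₂ c ≫ f = f ≫ σ₃ c)
    (s_one : σ₃ 1 = 𝟙 _) (s_mul : ∀ c d, σ₃ d ≫ σ₃ c = σ₃ (c * d)) (s_add : ∀ c d, σ₃ c + σ₃ d = σ₃ (c + d))
    {V : Type*} (l : V → K) (κ : V → Ext.{w} Ez Ez 1)
    (hcomb : ∀ v v₀ c, ∃ v', l v' = l v + c * l v₀ ∧ κ v' = κ v + (κ v₀).comp (Ext.mk₀ (σ₂ c)) (add_zero 1))
    {W : Type*} (κ₁ : W → Ext.{w} S.X₁ S.X₁ 1) (κ₂ : W → Ext.{w} S.X₂ S.X₂ 1) (κ₃ : W → Ext.{w} S.X₃ S.X₃ 1)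
    (h₁ : ∀ w, (κ₁ w).comp (Ext.mk₀ S.f) (add_zero 1) = (Ext.mk₀ S.f).comp (κ₂ w) (zero_add 1))
    (h₃ : ∀ w, (κ₂ w).comp (Ext.mk₀ S.g) (add_zero 1) = (Ext.mk₀ S.g).comp (κ₃ w) (zero_add 1))
    (hii : ∀ v, l v = 0 → ∃ w, (κ₂ w).comp (Ext.mk₀ a.hom) (add_zero 1) = (Ext.mk₀ a.hom).comp (κ v) (zero_add 1))
    (P : Ext.{w} S.X₂ S.X₂ 1 → Prop)
    (hP : ∀ x, P x → ∃ v, x.comp (Ext.mk₀ a.hom) (add_zero 1) = (Ext.mk₀ a.hom).comp (κ v) (zero_add 1))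
    (hsur : ∀ x : Ext.{w} S.X₁ S.X₃ 1, ∃ y, P y ∧
      (Ext.mk₀ S.f).comp (y.comp (Ext.mk₀ S.g) (add_zero 1)) (zero_add 1) = x)
    (hne : ∃ x : Ext.{w} S.X₁ S.X₃ 1, x ≠ 0)
    (hhom : (∀ x y : Ext.{w} S.X₁ S.X₃ 1, x ≠ 0 → ∃ c : K, y = x.comp (Ext.mk₀ (σ₃ c)) (add_zero 1)) →
      ∀ f : S.X₁ ⟶ S.X₃, f = 0) :
    (∀ f : S.X₁ ⟶ S.X₃, f = 0) ∧
      ∀ y, P y → (Ext.mk₀ S.f).comp (y.comp (Ext.mk₀ S.g) (add_zero 1)) (zero_add 1) = 0 → ∃ w, κ₂ w = y := by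
  let b : V → Ext.{w} S.X₁ S.X₃ 1 := fun v =>
    (Ext.mk₀ (S.f ≫ a.hom)).comp ((κ v).comp (Ext.mk₀ (a.inv ≫ S.g)) (add_zero 1)) (zero_add 1)
  let act : K → Ext.{w} S.X₁ S.X₃ 1 → Ext.{w} S.X₁ S.X₃ 1 := fun c x => x.comp (Ext.mk₀ (σ₃ c)) (add_zero 1)
  have s_zero : σ₃ 0 = 0 := by
    have h := s_add 0 0
    rw [add_zero] at h
    exact add_eq_left.1 h
  -- conjugation
  have hconj : ∀ (x : Ext.{w} S.X₂ S.X₂ 1) (v : V),
      x.comp (Ext.mk₀ a.hom) (add_zero 1) = (Ext.mk₀ a.hom).comp (κ v) (zero_add 1) →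
      b v = (Ext.mk₀ S.f).comp (x.comp (Ext.mk₀ S.g) (add_zero 1)) (zero_add 1) := by
    intro x v h
    have h1 : x.comp (Ext.mk₀ S.g) (add_zero 1) =
        (Ext.mk₀ a.hom).comp ((κ v).comp (Ext.mk₀ (a.inv ≫ S.g)) (add_zero 1)) (zero_add 1) := by
      rw [← comp_assoc3, ← h, comp_mk₀_mk₀, Iso.hom_inv_id_assoc]
    rw [h1, mk₀_mk₀_comp]
  have hb0 : ∀ v, l v = 0 → b v = 0 := by
    intro v hv
    obtain ⟨w, hw⟩ := hii v hv
    rw [hconj _ v hw, h₃, mk₀_mk₀_comp, S.zero, Ext.mk₀_zero, Ext.zero_comp]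
  have hbc : ∀ v v₀ c, ∃ v', l v' = l v + c * l v₀ ∧ b v' = b v + act c (b v₀) := by
    intro v v₀ c
    obtain ⟨v', hl, hκ⟩ := hcomb v v₀ c
    refine ⟨v', hl, ?_⟩
    change (Ext.mk₀ (S.f ≫ a.hom)).comp ((κ v').comp (Ext.mk₀ (a.inv ≫ S.g)) (add_zero 1)) (zero_add 1) =
      (Ext.mk₀ (S.f ≫ a.hom)).comp ((κ v).comp (Ext.mk₀ (a.inv ≫ S.g)) (add_zero 1)) (zero_add 1) +
        ((Ext.mk₀ (S.f ≫ a.hom)).comp ((κ v₀).comp (Ext.mk₀ (a.inv ≫ S.g)) (add_zero 1)) (zero_add 1)).comp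
          (Ext.mk₀ (σ₃ c)) (add_zero 1)
    rw [hκ, Ext.add_comp, Ext.comp_add, comp_mk₀_mk₀, comp_assoc3, comp_mk₀_mk₀, hσ]
  obtain ⟨x₀, hx₀⟩ := hne
  have hbs : ∀ x : Ext.{w} S.X₁ S.X₃ 1, ∃ v, b v = x := by
    intro x
    obtain ⟨y, hy, hyx⟩ := hsur x
    obtain ⟨v, hv⟩ := hP y hy
    exact ⟨v, (hconj y v hv).trans hyx⟩
  obtain ⟨v₀, hv₀⟩ := hbs x₀
  have hlin := lin_core act (fun x => by
      change x.comp (Ext.mk₀ (σ₃ 1)) (add_zero 1) = x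
      rw [s_one, Ext.comp_mk₀_id]) (fun c d x => by
      change (x.comp (Ext.mk₀ (σ₃ d)) (add_zero 1)).comp (Ext.mk₀ (σ₃ c)) (add_zero 1) = x.comp (Ext.mk₀ (σ₃ (c * d))) _
      rw [comp_mk₀_mk₀, s_mul]) (fun c => by
      change Ext.comp 0 (Ext.mk₀ (σ₃ c)) (add_zero 1) = 0
      rw [Ext.zero_comp]) (fun c d x => by
      change x.comp (Ext.mk₀ (σ₃ c)) _ + x.comp (Ext.mk₀ (σ₃ d)) _ = x.comp (Ext.mk₀ (σ₃ (c + d))) _
      rw [← s_add, Ext.mk₀_add, Ext.comp_add]) (fun x => by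
      change x.comp (Ext.mk₀ (σ₃ 0)) (add_zero 1) = 0
      rw [s_zero, Ext.mk₀_zero, Ext.comp_zero]) l b hbc hb0
  constructor
  · apply hhom
    intro x y hx
    obtain ⟨v, rfl⟩ := hbs x
    obtain ⟨v', rfl⟩ := hbs y
    obtain ⟨c, hc, -⟩ := hlin v hx v'
    exact ⟨c, hc⟩
  · intro y hy hy0
    obtain ⟨v, hv⟩ := hP y hy
    obtain ⟨c, -, hc⟩ := hlin v₀ (by rw [hv₀]; exact hx₀) v
    obtain ⟨w, hw⟩ := hii v (hc ((hconj y v hv).trans hy0))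
    exact ⟨w, conj_iff a hw hv⟩

theorem sub_unique {S : ShortComplex C} (hS : S.ShortExact) (h0 : ∀ f : S.X₁ ⟶ S.X₃, f = 0)
    (x x' : Ext.{w} S.X₁ S.X₁ 1) (h : x.comp (Ext.mk₀ S.f) (add_zero 1) = x'.comp (Ext.mk₀ S.f) (add_zero 1)) :
    x = x' := by
  rw [← sub_eq_zero]
  have h1 : (x - x').comp (Ext.mk₀ S.f) (add_zero 1) = 0 := by
    rw [sub_eq_add_neg, Ext.add_comp, Ext.neg_comp, h, add_neg_cancel]
  obtain ⟨y, hy⟩ := Ext.covariant_sequence_exact₁ S.X₁ hS (x - x') h1 (zero_add 1)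
  obtain ⟨f, rfl⟩ := (Ext.mk₀_bijective _ _).2 y
  rw [← hy, h0 f, Ext.mk₀_zero, Ext.zero_comp]

theorem quot_unique {S : ShortComplex C} (hS : S.ShortExact) (h0 : ∀ f : S.X₁ ⟶ S.X₃, f = 0)
    (x x' : Ext.{w} S.X₃ S.X₃ 1) (h : (Ext.mk₀ S.g).comp x (zero_add 1) = (Ext.mk₀ S.g).comp x' (zero_add 1)) :
    x = x' := by
  rw [← sub_eq_zero]
  have h1 : (Ext.mk₀ S.g).comp (x - x') (zero_add 1) = 0 := by
    rw [sub_eq_add_neg, Ext.comp_add, Ext.comp_neg, h, add_neg_cancel]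
  obtain ⟨y, hy⟩ := Ext.contravariant_sequence_exact₃ hS S.X₃ (x - x') h1 (add_zero 1)
  obtain ⟨f, rfl⟩ := (Ext.mk₀_bijective _ _).2 y
  rw [← hy, h0 f, Ext.mk₀_zero, Ext.comp_zero]

/-- Filtered classes: the class of the subobject. -/
theorem abs_sub {S : ShortComplex C} (hS : S.ShortExact) (h0 : ∀ f : S.X₁ ⟶ S.X₃, f = 0)
    {W : Type*} (κ₁ : W → Ext.{w} S.X₁ S.X₁ 1) (κ₂ : W → Ext.{w} S.X₂ S.X₂ 1)
    (h₁ : ∀ w, (κ₁ w).comp (Ext.mk₀ S.f) (add_zero 1) = (Ext.mk₀ S.f).comp (κ₂ w) (zero_add 1))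
    (P : Ext.{w} S.X₂ S.X₂ 1 → Prop)
    (hcov : ∀ y, P y → (Ext.mk₀ S.f).comp (y.comp (Ext.mk₀ S.g) (add_zero 1)) (zero_add 1) = 0 → ∃ w, κ₂ w = y)
    {y : Ext.{w} S.X₂ S.X₂ 1} (hy : P y) {ε : Ext.{w} S.X₁ S.X₁ 1}
    (hε : (Ext.mk₀ S.f).comp y (zero_add 1) = ε.comp (Ext.mk₀ S.f) (add_zero 1)) : ∃ w, κ₁ w = ε := by
  obtain ⟨w, hw⟩ := hcov y hy (by
    rw [← comp_assoc3, hε, comp_mk₀_mk₀, S.zero, Ext.mk₀_zero, Ext.comp_zero])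
  exact ⟨w, sub_unique hS h0 _ _ (by rw [h₁, hw, hε])⟩

/-- Filtered classes: the class of the quotient. -/
theorem abs_quo {S : ShortComplex C} (hS : S.ShortExact) (h0 : ∀ f : S.X₁ ⟶ S.X₃, f = 0)
    {W : Type*} (κ₂ : W → Ext.{w} S.X₂ S.X₂ 1) (κ₃ : W → Ext.{w} S.X₃ S.X₃ 1)
    (h₃ : ∀ w, (κ₂ w).comp (Ext.mk₀ S.g) (add_zero 1) = (Ext.mk₀ S.g).comp (κ₃ w) (zero_add 1))
    (P : Ext.{w} S.X₂ S.X₂ 1 → Prop)
    (hcov : ∀ y, P y → (Ext.mk₀ S.f).comp (y.comp (Ext.mk₀ S.g) (add_zero 1)) (zero_add 1) = 0 → ∃ w, κ₂ w = y)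
    {y : Ext.{w} S.X₂ S.X₂ 1} (hy : P y) {ε : Ext.{w} S.X₃ S.X₃ 1}
    (hε : y.comp (Ext.mk₀ S.g) (add_zero 1) = (Ext.mk₀ S.g).comp ε (zero_add 1)) : ∃ w, κ₃ w = ε := by
  obtain ⟨w, hw⟩ := hcov y hy (by
    rw [hε, mk₀_mk₀_comp, S.zero, Ext.mk₀_zero, Ext.zero_comp])
  exact ⟨w, quot_unique hS h0 _ _ (by rw [← h₃, hw, hε])⟩

end AbsCore

section Core

/-- The class of the pull-back, general form. -/
theorem ext_ltr {k : Type u} [Field k] {X Y Z C : Scheme.{u}} (D : DT k X Y) [HasExt.{w} X.Modules] (v : Y ⟶ C)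
    (o : C ⟶ Z) {v' : Y ⟶ Z} {z : X ⟶ C} {z' : X ⟶ Z}
    (h : D.i ≫ v = z) (h2 : v ≫ o = v') (h3 : z ≫ o = z') (h4 : D.i ≫ v' = z') (E : Z.Modules) {F : C.Modules}
    (ι : F ≅ (Scheme.Modules.pullback o).obj E)
    (H : IsEM (D.eq ((Scheme.Modules.pullback v).obj F)) (rd D v h F))
    (H₀ : IsEM (D.eq ((Scheme.Modules.pullback v).obj ((Scheme.Modules.pullback o).obj E)))
      (rd D v h ((Scheme.Modules.pullback o).obj E)))
    (H' : IsEM (D.eq ((Scheme.Modules.pullback v').obj E)) (rd D v' h4 E)) :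
    (H.ext : Ext.{w} _ _ 1).comp (Ext.mk₀ (ltr z o h3 E ι).hom) (add_zero 1) =
      (Ext.mk₀ (ltr z o h3 E ι).hom).comp H'.ext (zero_add 1) := by
  have h1 := ext_nat.{w} D v h ι.hom H H₀
  have h2 := ext_tr.{w} D v o h h2 h3 h4 E H₀ H'
  rw [ltr, Iso.trans_hom, Functor.mapIso_hom, ← comp_mk₀_mk₀, h1, comp_assoc3, h2, mk₀_mk₀_comp]

variable {k : Type u} [Field k] {X : Scheme.{u}} [X.Over (Spec (CommRingCat.of k))] {Z T : Over (B0 k)}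
  [HasExt.{w} (PicF.XT (st k X) (T0 k)).Modules]

/-- The class of the pull-back. -/
theorem cls_ltr (q : T ⟶ Z) {t : T0 k ⟶ T} {z : T0 k ⟶ Z} (hz : t ≫ q = z) {w : Te k ⟶ T} {v : Te k ⟶ Z}
    (hw : iT k ≫ w = t) (hwq : w ≫ q = v) (hv : iT k ≫ v = z) {E : (PicF.XT (st k X) Z).Modules}
    (hE : FlatMod.IsFinLocFree E) {F : (PicF.XT (st k X) T).Modules} (hF : FlatMod.IsFinLocFree F)
    (ι : F ≅ (Scheme.Modules.pullback (PicF.XTmap (st k X) q)).obj E) :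
    (XAdd.cls.{w} hw hF).comp (Ext.mk₀ (ltr (PicF.XTmap (st k X) t) (PicF.XTmap (st k X) q)
      (LiftPt.XTw t q hz) E ι).hom) (add_zero 1) =
    (Ext.mk₀ (ltr (PicF.XTmap (st k X) t) (PicF.XTmap (st k X) q) (LiftPt.XTw t q hz) E ι).hom).comp
      (XAdd.cls hv hE) (zero_add 1) :=
  ext_ltr (dt k X) (PicF.XTmap (st k X) w) (PicF.XTmap (st k X) q) (di_v hw) (LiftPt.XTw w q hwq)
    (LiftPt.XTw t q hz) (di_v hv) E ι (isEM_v hw hF)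
    (isEM_v hw (Groth.Agent.PerfC.PullRestrict.isFinLocFree_pullback _ hE)) (isEM_v hv hE)

/-- The class of a conjugate extension. -/
theorem extClass_conj {C : Type*} [Category C] [Abelian C] [HasExt.{w} C] {A B G : C} (a : A ≅ B) {f : A ⟶ G}
    {g : G ⟶ A} {w : f ≫ g = 0} (hS : (ShortComplex.mk f g w).ShortExact) :
    ∃ (w' : (a.inv ≫ f) ≫ g ≫ a.hom = 0) (hS' : (ShortComplex.mk (a.inv ≫ f) (g ≫ a.hom) w').ShortExact),
      (hS.extClass : Ext.{w} A A 1).comp (Ext.mk₀ a.hom) (add_zero 1) =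
        (Ext.mk₀ a.hom).comp hS'.extClass (zero_add 1) := by
  have w' : (a.inv ≫ f) ≫ g ≫ a.hom = 0 := by
    rw [Category.assoc, ← Category.assoc f g a.hom, w, zero_comp, comp_zero]
  let e : ShortComplex.mk f g w ≅ ShortComplex.mk (a.inv ≫ f) (g ≫ a.hom) w' :=
    ShortComplex.isoMk a (Iso.refl _) a (by simp) (by simp)
  have hS' : (ShortComplex.mk (a.inv ≫ f) (g ≫ a.hom) w').ShortExact := ShortComplex.shortExact_of_iso e hS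
  exact ⟨w', hS', ShortComplex.ShortExact.extClass_naturality hS hS' e.hom⟩

variable (k X) in
/-- The constants as endomorphisms. -/
theorem sm_hom (M N : (PicF.XT (st k X) (T0 k)).Modules) (c : k) (f : M ⟶ N) :
    smulHom M (fn (dt k X).x c) ≫ f = f ≫ smulHom N (fn (dt k X).x c) := smulHom_comp _ _

/-- The admissible classes. -/
def AC (Qe : (PicF.XT (st k X) (Te k)).Modules → Prop) (A : (PicF.XT (st k X) (T0 k)).Modules)
    (x : Ext.{w} A A 1) : Prop :=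
  ∃ (G : (PicF.XT (st k X) (T0 k)).Modules) (f : A ⟶ G) (g : G ⟶ A) (w : f ≫ g = 0)
    (hS : (ShortComplex.mk f g w).ShortExact), hS.extClass = x ∧ Qe ((dt k X).ES (g ≫ f))

/-- Admissible classes are classes of tangent vectors. -/
theorem AC.exists_cls {Qe : (PicF.XT (st k X) (Te k)).Modules → Prop} {A : (PicF.XT (st k X) (T0 k)).Modules}
    {z : T0 k ⟶ Z} {E : (PicF.XT (st k X) Z).Modules} (hE : FlatMod.IsFinLocFree E) (a : A ≅ pl k X z E)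
    (hlift : ∀ M : (PicF.XT (st k X) (Te k)).Modules, Qe M →
      ∀ ρ : (Scheme.Modules.pullback (dt k X).i).obj M ≅ pl k X z E,
      ∃ (v : Te k ⟶ Z) (hv : iT k ≫ v = z) (φ : pl k X v E ≅ M),
        (Scheme.Modules.pullback (dt k X).i).map φ.hom ≫ ρ.hom = (rv hv E).hom)
    {x : Ext.{w} A A 1} (hx : AC Qe A x) :
    ∃ (v : Te k ⟶ Z) (hv : iT k ≫ v = z), x.comp (Ext.mk₀ a.hom) (add_zero 1) =
      (Ext.mk₀ a.hom).comp (XAdd.cls.{w} hv hE) (zero_add 1) := by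
  obtain ⟨G, f, g, w, hS, rfl, hQ⟩ := hx
  obtain ⟨w', hS', h⟩ := extClass_conj.{w} a hS
  have e : (g ≫ a.hom) ≫ a.inv ≫ f = g ≫ f := by simp
  obtain ⟨v, hv, hc⟩ := Cls.exists_cls.{w} hE hS' (by rw [e]; exact hlift _ hQ)
  exact ⟨v, hv, by rw [hc]; exact h⟩

/-- **The core of the argument.** -/
theorem core [IsAffine Z.left] (q : T ⟶ Z) {E : (PicF.XT (st k X) Z).Modules} (hE : FlatMod.IsFinLocFree E)
    {S : ShortComplex (PicF.XT (st k X) T).Modules} (hF₁ : FlatMod.IsFinLocFree S.X₁)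
    (hF₂ : FlatMod.IsFinLocFree S.X₂) (hF₃ : FlatMod.IsFinLocFree S.X₃)
    (ι : S.X₂ ≅ (Scheme.Modules.pullback (PicF.XTmap (st k X) q)).obj E) {t : T0 k ⟶ T} {z : T0 k ⟶ Z}
    (hz : t ≫ q = z) (π : Γ(Z.left, ⊤))
    (hii : ∀ v : Te k ⟶ Z, iT k ≫ v = z → (evE v π).snd = 0 → ∃ w : Te k ⟶ T, iT k ≫ w = t ∧ w ≫ q = v)
    (Qe : (PicF.XT (st k X) (Te k)).Modules → Prop)
    (hlift : ∀ M : (PicF.XT (st k X) (Te k)).Modules, Qe M →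
      ∀ ρ : (Scheme.Modules.pullback (dt k X).i).obj M ≅ pl k X z E,
      ∃ (v : Te k ⟶ Z) (hv : iT k ≫ v = z) (φ : pl k X v E ≅ M),
        (Scheme.Modules.pullback (dt k X).i).map φ.hom ≫ ρ.hom = (rv hv E).hom)
    (hS : (S.map (Scheme.Modules.pullback (PicF.XTmap (st k X) t))).ShortExact)
    (hsur : ∀ x : Ext.{w} (S.map (Scheme.Modules.pullback (PicF.XTmap (st k X) t))).X₁
        (S.map (Scheme.Modules.pullback (PicF.XTmap (st k X) t))).X₃ 1,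
      ∃ y, AC Qe (S.map (Scheme.Modules.pullback (PicF.XTmap (st k X) t))).X₂ y ∧
        (Ext.mk₀ (S.map (Scheme.Modules.pullback (PicF.XTmap (st k X) t))).f).comp
          (y.comp (Ext.mk₀ (S.map (Scheme.Modules.pullback (PicF.XTmap (st k X) t))).g) (add_zero 1)) (zero_add 1) = x)
    (hne : ∃ x : Ext.{w} (S.map (Scheme.Modules.pullback (PicF.XTmap (st k X) t))).X₁
        (S.map (Scheme.Modules.pullback (PicF.XTmap (st k X) t))).X₃ 1, x ≠ 0)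
    (hhom : (∀ x y : Ext.{w} (S.map (Scheme.Modules.pullback (PicF.XTmap (st k X) t))).X₁
        (S.map (Scheme.Modules.pullback (PicF.XTmap (st k X) t))).X₃ 1, x ≠ 0 → ∃ c : k,
      y = x.comp (Ext.mk₀ (smulHom _ (fn (dt k X).x c))) (add_zero 1)) →
      ∀ f : (S.map (Scheme.Modules.pullback (PicF.XTmap (st k X) t))).X₁ ⟶
        (S.map (Scheme.Modules.pullback (PicF.XTmap (st k X) t))).X₃, f = 0) :
    (∀ f : (S.map (Scheme.Modules.pullback (PicF.XTmap (st k X) t))).X₁ ⟶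
        (S.map (Scheme.Modules.pullback (PicF.XTmap (st k X) t))).X₃, f = 0) ∧
      ∀ y, AC Qe (S.map (Scheme.Modules.pullback (PicF.XTmap (st k X) t))).X₂ y →
        (Ext.mk₀ (S.map (Scheme.Modules.pullback (PicF.XTmap (st k X) t))).f).comp
          (y.comp (Ext.mk₀ (S.map (Scheme.Modules.pullback (PicF.XTmap (st k X) t))).g) (add_zero 1)) (zero_add 1) = 0 →
        ∃ w : {w : Te k ⟶ T // iT k ≫ w = t}, XAdd.cls.{w} w.2 hF₂ = y := by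
  refine abs_core (K := k) hS (ltr (PicF.XTmap (st k X) t) (PicF.XTmap (st k X) q) (LiftPt.XTw t q hz) E ι)
    (fun c => smulHom _ (fn (dt k X).x c)) (fun c => smulHom _ (fn (dt k X).x c)) (fun c f => smulHom_comp _ _)
    ?_ ?_ ?_ (V := {v : Te k ⟶ Z // iT k ≫ v = z}) (fun v => (evE v.1 π).snd) (fun v => XAdd.cls.{w} v.2 hE) ?_
    (W := {w : Te k ⟶ T // iT k ≫ w = t})
    (fun w => XAdd.cls.{w} w.2 hF₁) (fun w => XAdd.cls.{w} w.2 hF₂) (fun w => XAdd.cls.{w} w.2 hF₃)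
    (fun w => cls_nat.{w} w.2 hF₁ hF₂ S.f) (fun w => cls_nat.{w} w.2 hF₂ hF₃ S.g) ?_ (AC Qe _) ?_ hsur hne hhom
  · rw [map_one, smulHom_one]
  · intro c d
    rw [← smulHom_mul, map_mul]
  · intro c d
    rw [← smulHom_add, map_add]
  · intro v v₀ c
    obtain ⟨v₁, h₁, h₁'⟩ := Cls.exists_smul v₀.2 c
    obtain ⟨v₂, h₂, h₂'⟩ := Cls.exists_add v.2 h₁
    refine ⟨⟨v₂, h₂⟩, ?_, ?_⟩
    · rw [h₂', h₁']
    · rw [cls_add.{w} v.2 h₁ h₂ h₂' hE, cls_smul.{w} v₀.2 h₁ c h₁' hE]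
  · intro v hv
    obtain ⟨w, hw, hwq⟩ := hii v.1 v.2 hv
    exact ⟨⟨w, hw⟩, cls_ltr q hz hw hwq v.2 hE hF₂ ι⟩
  · intro x hx
    obtain ⟨v, hv, h⟩ := hx.exists_cls hE (ltr (PicF.XTmap (st k X) t) (PicF.XTmap (st k X) q)
      (LiftPt.XTw t q hz) E ι) hlift
    exact ⟨⟨v, hv⟩, h⟩

/-- Rigidity: all the connecting maps of extensions with class `ε` vanish. -/
def Rig (N₀ : (PicF.XT (st k X) (T0 k)).Modules) {A : (PicF.XT (st k X) (T0 k)).Modules} (ε : Ext.{w} A A 1) : Prop :=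
  ∀ {G : (PicF.XT (st k X) (T0 k)).Modules} (f : A ⟶ G) (g : G ⟶ A) (w : f ≫ g = 0)
    (h : (ShortComplex.mk f g w).ShortExact) (hN : ((ShortComplex.mk f g w).map (K774.D1.tw N₀)).ShortExact),
    (h.extClass : Ext.{w} A A 1) = ε → ∀ σ, Groth.Agent.CohqB.HSeqMod.δ hN 0 σ = 0

/-- The connecting maps of extensions with class `ε` map `s` to `β`. -/
def Val (N₀ : (PicF.XT (st k X) (T0 k)).Modules) {A : (PicF.XT (st k X) (T0 k)).Modules} (ε : Ext.{w} A A 1)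
    (s : Coh.HH _ ((K774.D1.tw N₀).obj A) 0) (β : Coh.HH _ ((K774.D1.tw N₀).obj A) 1) : Prop :=
  ∀ {G : (PicF.XT (st k X) (T0 k)).Modules} (f : A ⟶ G) (g : G ⟶ A) (w : f ≫ g = 0)
    (h : (ShortComplex.mk f g w).ShortExact) (hN : ((ShortComplex.mk f g w).map (K774.D1.tw N₀)).ShortExact),
    (h.extClass : Ext.{w} A A 1) = ε → Groth.Agent.CohqB.HSeqMod.δ hN 0 s = β

theorem rig_val {N₀ : (PicF.XT (st k X) (T0 k)).Modules} (hN₀ : PicF.IsInvertible N₀) {t : T0 k ⟶ T} {w : Te k ⟶ T}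
    (hw : iT k ≫ w = t) {F : (PicF.XT (st k X) T).Modules} (hF : FlatMod.IsFinLocFree F)
    (hr : Rig N₀ (XAdd.cls.{w} hw hF)) {s : Coh.HH _ ((K774.D1.tw N₀).obj (pl k X t F)) 0}
    {β : Coh.HH _ ((K774.D1.tw N₀).obj (pl k X t F)) 1} (hv : Val N₀ (XAdd.cls.{w} hw hF) s β) : β = 0 := by
  have h := (isEM_v hw hF).shortExact
  have hN := K774.D1.shortExact_tw hN₀ h
  exact (hv _ _ _ h hN rfl).symm.trans (hr _ _ _ h hN rfl s)

/-- Enough admissible extensions of the middle term of `S` by itself. -/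
structure Filt (Qe : (PicF.XT (st k X) (Te k)).Modules → Prop) (S : ShortComplex (PicF.XT (st k X) (T0 k)).Modules)
    (N₀ : (PicF.XT (st k X) (T0 k)).Modules) : Prop where
  sur : ∀ x : Ext.{w} S.X₁ S.X₃ 1, ∃ y, AC Qe S.X₂ y ∧
    (Ext.mk₀ S.f).comp (y.comp (Ext.mk₀ S.g) (add_zero 1)) (zero_add 1) = x
  sub : ∀ (s : Coh.HH _ ((K774.D1.tw N₀).obj S.X₁) 0) (_ : s ≠ 0) (β : Coh.HH _ ((K774.D1.tw N₀).obj S.X₁) 1),
    ∃ (y : Ext.{w} S.X₂ S.X₂ 1) (ε : Ext.{w} S.X₁ S.X₁ 1), AC Qe S.X₂ y ∧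
      (Ext.mk₀ S.f).comp y (zero_add 1) = ε.comp (Ext.mk₀ S.f) (add_zero 1) ∧ Val N₀ ε s β
  quo : ∀ (s : Coh.HH _ ((K774.D1.tw N₀).obj S.X₃) 0) (_ : s ≠ 0) (β : Coh.HH _ ((K774.D1.tw N₀).obj S.X₃) 1),
    ∃ (y : Ext.{w} S.X₂ S.X₂ 1) (ε : Ext.{w} S.X₃ S.X₃ 1), AC Qe S.X₂ y ∧
      y.comp (Ext.mk₀ S.g) (add_zero 1) = (Ext.mk₀ S.g).comp ε (zero_add 1) ∧ Val N₀ ε s β

section Main

variable [IsAffine Z.left] (q : T ⟶ Z) {E : (PicF.XT (st k X) Z).Modules} (hE : FlatMod.IsFinLocFree E)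
    {S : ShortComplex (PicF.XT (st k X) T).Modules} (hF₁ : FlatMod.IsFinLocFree S.X₁)
    (hF₂ : FlatMod.IsFinLocFree S.X₂) (hF₃ : FlatMod.IsFinLocFree S.X₃)
    (ι : S.X₂ ≅ (Scheme.Modules.pullback (PicF.XTmap (st k X) q)).obj E) {t : T0 k ⟶ T} {z : T0 k ⟶ Z}
    (hz : t ≫ q = z) (π : Γ(Z.left, ⊤))
    (hii : ∀ v : Te k ⟶ Z, iT k ≫ v = z → (evE v π).snd = 0 → ∃ w : Te k ⟶ T, iT k ≫ w = t ∧ w ≫ q = v)
    (Qe : (PicF.XT (st k X) (Te k)).Modules → Prop)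
    (hlift : ∀ M : (PicF.XT (st k X) (Te k)).Modules, Qe M →
      ∀ ρ : (Scheme.Modules.pullback (dt k X).i).obj M ≅ pl k X z E,
      ∃ (v : Te k ⟶ Z) (hv : iT k ≫ v = z) (φ : pl k X v E ≅ M),
        (Scheme.Modules.pullback (dt k X).i).map φ.hom ≫ ρ.hom = (rv hv E).hom)
    (hS : (S.map (Scheme.Modules.pullback (PicF.XTmap (st k X) t))).ShortExact)
    {N₀ : (PicF.XT (st k X) (T0 k)).Modules} (hN₀ : PicF.IsInvertible N₀)
    (hfilt : Filt.{w} Qe (S.map (Scheme.Modules.pullback (PicF.XTmap (st k X) t))) N₀)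
    (hne : ∃ x : Ext.{w} (S.map (Scheme.Modules.pullback (PicF.XTmap (st k X) t))).X₁
        (S.map (Scheme.Modules.pullback (PicF.XTmap (st k X) t))).X₃ 1, x ≠ 0)
    (hhom : (∀ x y : Ext.{w} (S.map (Scheme.Modules.pullback (PicF.XTmap (st k X) t))).X₁
        (S.map (Scheme.Modules.pullback (PicF.XTmap (st k X) t))).X₃ 1, x ≠ 0 → ∃ c : k,
      y = x.comp (Ext.mk₀ (smulHom _ (fn (dt k X).x c))) (add_zero 1)) →
      ∀ f : (S.map (Scheme.Modules.pullback (PicF.XTmap (st k X) t))).X₁ ⟶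
        (S.map (Scheme.Modules.pullback (PicF.XTmap (st k X) t))).X₃, f = 0)

include hE hF₁ hF₂ hF₃ ι hz hii hlift hS hN₀ hfilt hne hhom

theorem sub_false (hr : ∀ (w : Te k ⟶ T) (hw : iT k ≫ w = t), Rig N₀ (XAdd.cls.{w} hw hF₁))
    {s : Coh.HH _ ((K774.D1.tw N₀).obj (pl k X t S.X₁)) 0} (hs : s ≠ 0)
    {β : Coh.HH _ ((K774.D1.tw N₀).obj (pl k X t S.X₁)) 1} (hβ : β ≠ 0) : False := by
  obtain ⟨h0, hcov⟩ := core.{w} q hE hF₁ hF₂ hF₃ ι hz π hii Qe hlift hS hfilt.sur hne hhom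
  obtain ⟨y, ε, hy, hε, hv⟩ := hfilt.sub s hs β
  obtain ⟨w, rfl⟩ := abs_sub hS h0 (W := {w : Te k ⟶ T // iT k ≫ w = t})
    (fun w => XAdd.cls.{w} w.2 hF₁) (fun w => XAdd.cls.{w} w.2 hF₂) (fun w => cls_nat.{w} w.2 hF₁ hF₂ S.f)
    (AC Qe _) hcov hy hε
  exact hβ (rig_val hN₀ w.2 hF₁ (hr w.1 w.2) hv)

theorem quo_false (hr : ∀ (w : Te k ⟶ T) (hw : iT k ≫ w = t), Rig N₀ (XAdd.cls.{w} hw hF₃))
    {s : Coh.HH _ ((K774.D1.tw N₀).obj (pl k X t S.X₃)) 0} (hs : s ≠ 0)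
    {β : Coh.HH _ ((K774.D1.tw N₀).obj (pl k X t S.X₃)) 1} (hβ : β ≠ 0) : False := by
  obtain ⟨h0, hcov⟩ := core.{w} q hE hF₁ hF₂ hF₃ ι hz π hii Qe hlift hS hfilt.sur hne hhom
  obtain ⟨y, ε, hy, hε, hv⟩ := hfilt.quo s hs β
  obtain ⟨w, rfl⟩ := abs_quo hS h0 (W := {w : Te k ⟶ T // iT k ≫ w = t})
    (fun w => XAdd.cls.{w} w.2 hF₂) (fun w => XAdd.cls.{w} w.2 hF₃) (fun w => cls_nat.{w} w.2 hF₂ hF₃ S.g)
    (AC Qe _) hcov hy hε
  exact hβ (rig_val hN₀ w.2 hF₃ (hr w.1 w.2) hv)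

end Main

end Core

end K562.PW
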