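import Groth.Agent.BunMod.K311.Fam
import Groth.Agent.BunMod.K356.Seq
import Groth.Agent.BunMod.K54.Supp
import Groth.Agent.BunMod.K656.Setup
import Groth.Agent.BunMod.K774.D1
import Groth.Agent.Krr.H496.PullK0
import Groth.Agent.Surf.K462.CohLES
import Groth.Agent.VBCurve.K705.Setup

/-!
# Families of extensions of bundles of degree zero

`C : 0 ⟶ F₁ ⟶ E ⟶ F₂ ⟶ 0` families over `T`, `E` semistable of degree zero, `F₁` and `F₂` of degree zero.

* `sub_quot`: `F₁` and `F₂` are families of semistable bundles;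
* `geomTw`, `geomChi`: the conditions for the existence of determinantal presentations;
* `mem_supp_or`: the support of the theta ideal of `E` is contained in the union of the ones of `F₁` and `F₂`.
-/

set_option autoImplicit false

universe u

open CategoryTheory CategoryTheory.Limits AlgebraicGeometry TopologicalSpace

namespace K562.SubDeg

open K140.BM Groth.Agent Groth.Agent.VarietyA.DegRank K707.Base K707.Deg K707.Slope K707.Semi

section Gen

variable {k : Type u} [Field k] {X : Scheme.{u}} [X.Over (Spec (CommRingCat.of k))] {T T' : Over (B0 k)}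

/-- Degrees along all geometric points. -/
theorem fibDeg_pl {r : ℕ} {d : ℤ} {F : (PicF.XT (st k X) T).Modules} (hF : ModFun.FibDeg (st k X) r d T F)
    {Ω : Type u} [Field Ω] [IsAlgClosed Ω] (s : Spec (CommRingCat.of Ω) ⟶ B0 k) (h : tpt s ⟶ T) :
    letI := K54.DP.ovr X s
    Curv2.deg Ω (PicF.XT (st k X) (tpt s)) (pl k X h F) r = d := by
  obtain ⟨t, ht⟩ : ∃ t : Spec (CommRingCat.of Ω) ⟶ T.left, t = h.left := ⟨_, rfl⟩
  have hs : s = t ≫ T.hom := by
    rw [ht]
    exact (Over.w h).symm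
  subst hs
  obtain rfl : h = Over.homMk t rfl := by
    ext1
    exact ht.symm
  exact hF Ω t

theorem shortExact_pl (g : T' ⟶ T) {C : ShortComplex (PicF.XT (st k X) T).Modules} (hC : C.ShortExact)
    (h3 : FlatMod.IsFinLocFree C.X₃) :
    (C.map (Scheme.Modules.pullback (PicF.XTmap (st k X) g))).ShortExact :=
  Krr.H496.PullK0.shortExact_pullback_of_isFinLocFree _ hC h3

/-- `H¹` of the middle term of a short exact sequence after twisting. -/
theorem h1_or {Y : Scheme.{u}} {N : Y.Modules} (hN : PicF.IsInvertible N) {S : ShortComplex Y.Modules}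
    (hS : S.ShortExact) (h : ¬ Subsingleton (Coh.HH Y (CohB1.tensorMod S.X₂ N) 1)) :
    ¬ Subsingleton (Coh.HH Y (CohB1.tensorMod S.X₁ N) 1) ∨ ¬ Subsingleton (Coh.HH Y (CohB1.tensorMod S.X₃ N) 1) := by
  by_contra hcon
  push Not at hcon
  exact h (K462.CohLES.subsingleton_X₂ (K774.D1.shortExact_tw hN hS) 1 hcon.1 hcon.2)

/-- The support of the theta ideal of an extension. -/
theorem mem_supp_or [IsProper (st k X)] (hdim : topologicalKrullDim X ≤ 1) {N : X.Modules}
    (hN : PicF.IsInvertible N) {C : ShortComplex (PicF.XT (st k X) T).Modules} (hC : C.ShortExact)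
    (h1 : FlatMod.IsFinLocFree C.X₁) (h2 : FlatMod.IsFinLocFree C.X₂) (h3 : FlatMod.IsFinLocFree C.X₃)
    {Ω : Type u} [Field Ω] (s : Spec (CommRingCat.of Ω) ⟶ B0 k) (c : tpt s ⟶ T) (p : (tpt s).left)
    (h : c.left p ∈ (thetaIdeal k N T C.X₂).support) :
    c.left p ∈ (thetaIdeal k N T C.X₁).support ∨ c.left p ∈ (thetaIdeal k N T C.X₃).support := by
  have hN' : FlatMod.IsFinLocFree N := K774.D1.isFinLocFree (Ega2.QCohLocal.isFinLocFreeOfRank_one_iff.2 hN)
  rw [K54.Supp.mem_support_iff' hdim hN' h2] at h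
  rw [K54.Supp.mem_support_iff' hdim hN' h1, K54.Supp.mem_support_iff' hdim hN' h3]
  exact h1_or (N := cst k (tpt s) N) (Fdesc.LocGen.isInvertible_pullback _ hN)
    (S := C.map (Scheme.Modules.pullback (PicF.XTmap (st k X) c))) (shortExact_pl c hC h3) h

end Gen

section Deg

variable {k : Type u} [Field k] [IsAlgClosed k] {X : Scheme.{u}} [X.Over (Spec (CommRingCat.of k))]
  [IsProper (X ↘ Spec (CommRingCat.of k))] [Smooth (X ↘ Spec (CommRingCat.of k))]
  [GeometricallyConnected (X ↘ Spec (CommRingCat.of k))] {T : Over (B0 k)} (hdim : topologicalKrullDim X = 1)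

include hdim

/-- Sub and quotient of degree zero of a family of semistable bundles of degree zero. -/
theorem sub_quot {C : ShortComplex (PicF.XT (st k X) T).Modules} (hC : C.ShortExact) {r r₁ r₂ : ℕ}
    (h₁ : 0 < r₁) (hrr : r₁ + r₂ = r) (hC1 : FlatMod.IsFinLocFreeOfRank r₁ C.X₁)
    (hC3 : FlatMod.IsFinLocFreeOfRank r₂ C.X₃) (d1 : ModFun.FibDeg (st k X) r₁ 0 T C.X₁)
    (d3 : ModFun.FibDeg (st k X) r₂ 0 T C.X₃) (hE : BunMod.ussOK (st k X) r 0 T C.X₂) :
    BunMod.ussOK (st k X) r₁ 0 T C.X₁ ∧ BunMod.ussOK (st k X) r₂ 0 T C.X₃ := by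
  rw [K311.Fam.ussOK_iff] at hE ⊢
  rw [K311.Fam.ussOK_iff]
  have key : ∀ (Ω : Type u) [Field Ω] [IsAlgClosed Ω] (s : Spec (CommRingCat.of Ω) ⟶ B0 k) (h : tpt s ⟶ T),
      SSB r₁ s (pl k X h C.X₁) ∧ SSB r₂ s (pl k X h C.X₃) := by
    intro Ω _ _ s h
    let _ := K656.Fib.isIntegral_F (X := X) s
    let _ := K656.Fib.isProper_F (X := X) s
    have hS := shortExact_pl h hC (isFinLocFree_of_rank hC3)
    have h2 := (K656.Setup.ssb_iff hdim s).1 (hE.2 Ω s h)
    have f1 : FlatMod.IsFinLocFreeOfRank r₁ (pl k X h C.X₁) := PerfB.FibreConc.isFinLocFreeOfRank_pullback _ hC1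
    have f3 : FlatMod.IsFinLocFreeOfRank r₂ (pl k X h C.X₃) := PerfB.FibreConc.isFinLocFreeOfRank_pullback _ hC3
    let _ := K656.Fib.overF k X s
    have e1 : dg Ω (pl k X h C.X₁) = 0 := (dg_of_rank Ω f1).trans (fibDeg_pl d1 s h)
    have e3 : dg Ω (pl k X h C.X₃) = 0 := (dg_of_rank Ω f3).trans (fibDeg_pl d3 s h)
    obtain ⟨a, b, c, d⟩ := h2
    have hpos : 0 < rk (pl k X h C.X₂) := by rw [b]; omega
    have s1 := K705.Setup.ss_left (K656.Fib.crv_F s hdim) _ hS a hpos (by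
      change dg Ω (pl k X h C.X₁) * rk (pl k X h C.X₂) = dg Ω (pl k X h C.X₂) * rk (pl k X h C.X₁)
      rw [e1, c, zero_mul, zero_mul]) d
    have s3 := K705.Setup.ss_right (K656.Fib.crv_F s hdim) _ hS a (isFinLocFree_of_rank f3) hpos (by
      change dg Ω (pl k X h C.X₃) * rk (pl k X h C.X₂) = dg Ω (pl k X h C.X₂) * rk (pl k X h C.X₃)
      rw [e3, c, zero_mul, zero_mul]) d
    exact ⟨(K656.Setup.ssb_iff hdim s).2 ⟨isFinLocFree_of_rank f1, rk_of_rank f1, e1, s1⟩,
      (K656.Setup.ssb_iff hdim s).2 ⟨isFinLocFree_of_rank f3, rk_of_rank f3, e3, s3⟩⟩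
  exact ⟨⟨hC1, fun Ω _ _ s h => (key Ω s h).1⟩, ⟨hC3, fun Ω _ _ s h => (key Ω s h).2⟩⟩

theorem geomTw {S : ShortComplex X.Modules} (hS : BunMod.K356.Seq.SeqOK k S) {r : ℕ}
    {F : (PicF.XT (st k X) T).Modules} (hF : BunMod.ussOK (st k X) r 0 T F) : K54.TwExact.GeomTw F S.X₂ :=
  fun Ω _ _ s g => hS.h1₂ hdim ((K311.Fam.ussOK_iff.1 hF).2 Ω s g)

theorem geomChi {S : ShortComplex X.Modules} (hS : BunMod.K356.Seq.SeqOK k S) {r : ℕ}
    {F : (PicF.XT (st k X) T).Modules} (hF : BunMod.ussOK (st k X) r 0 T F) : K54.DP.GeomChi F S.X₁ :=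
  fun Ω _ _ s g => hS.chi₁ hdim ((K311.Fam.ussOK_iff.1 hF).2 Ω s g)

end Deg

end K562.SubDeg
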