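import Groth.Agent.BunMod.K562.PtHom
import Groth.Agent.BunMod.K562.SubDeg
import Groth.Agent.BunMod.K562.PW
import Groth.Agent.BunMod.K822.Rig
import Groth.Agent.BunMod.K892.AdmFilt
import Groth.Agent.BunMod.K70.ExtDim

/-!
# The density argument at one point

`T ⟶ Z` with `q^* E` an extension `C` of families of bundles of degree zero, `t` a point of `T` such that

* tangent vectors of `Z` at `q(t)` killed by one linear form are tangent vectors of `T`;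
* for `i = 1` or `3` the matrix of `C.X_i` is singular at `t`, and tangent vectors of `T` act by zero from its kernel to
  its cokernel.

This is impossible (`sub_point`, `quo_point`).
-/

set_option autoImplicit false

universe w u

open CategoryTheory CategoryTheory.Limits AlgebraicGeometry TopologicalSpace Opposite Abelian

namespace K562.DensPt

open K140.BM Groth.Agent K822 K822.Tr K822.XTD K822.OntoX K54.GenPull K54.FamSec K54.UB K562.PtMat K562.PtHom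
open Groth.Agent.LoccohB.HHmap (smulHom)
open Groth.Agent.Fga.RigGrp

section UB

variable {k : Type u} [Field k] {X : Scheme.{u}} [X.Over (Spec (CommRingCat.of k))] {T : Over (B0 k)}
  {G : (PicF.XT (st k X) T).Modules} {n : ℕ} {m : Fin n → K54.FamSec.Sec G}

theorem sum_bc (z : T0 k ⟶ T) (m : Fin n → K54.FamSec.Sec G) (c : Fin n → Γ((T0 k).left, ⊤)) :
    @Eq (Groth.Agent.Sga67.Sec.Sec (pl k X z G) ⊤) (∑ i, c i • Bc z G (m i))
      (∑ i, K822.Eps.fn (dt k X).x ((Scheme.ΓSpecIso (CommRingCat.of k)).hom (c i)) •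
        gs (PicF.XTmap (st k X) z) G (m i)) := by
  refine Finset.sum_congr rfl fun i _ => ?_
  rw [← fT_T0]
  rfl

/-- A universal basis generates the sections over a point. -/
theorem gen_of_ub (h : IsUB G m) (z : T0 k ⟶ T) (p : Groth.Agent.Sga67.Sec.Sec (pl k X z G) ⊤) :
    ∃ c : Fin n → k, p = ∑ j, K822.Eps.fn (dt k X).x (c j) • gs (PicF.XTmap (st k X) z) G (m j) := by
  obtain ⟨c, hc, -⟩ := h z p
  exact ⟨fun j => (Scheme.ΓSpecIso (CommRingCat.of k)).hom (c j), hc.trans (sum_bc z m c)⟩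

/-- A universal basis is linearly independent over a point. -/
theorem inj_of_ub (h : IsUB G m) (z : T0 k ⟶ T) (c : Fin n → k)
    (hc : @Eq (Groth.Agent.Sga67.Sec.Sec (pl k X z G) ⊤)
      (∑ i, K822.Eps.fn (dt k X).x (c i) • gs (PicF.XTmap (st k X) z) G (m i)) 0) : c = 0 := by
  have hι : Function.Injective (Scheme.ΓSpecIso (CommRingCat.of k)).inv := (ConcreteCategory.bijective_of_isIso
      (Scheme.ΓSpecIso (CommRingCat.of k)).inv).1
  have h1 : @Eq (Groth.Agent.Sga67.Sec.Sec (pl k X z G) ⊤)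
      (∑ i, K822.Eps.fn (dt k X).x (c i) • gs (PicF.XTmap (st k X) z) G (m i))
      (∑ i, (Scheme.ΓSpecIso (CommRingCat.of k)).inv (c i) • Bc z G (m i)) := by
    rw [sum_bc]
    refine Finset.sum_congr rfl fun i _ => ?_
    congr 2
    exact (congr($((Scheme.ΓSpecIso (CommRingCat.of k)).inv_hom_id) (c i))).symm
  rw [h1] at hc
  obtain ⟨c', -, hu⟩ := h z (0 : K54.FamSec.Sec (pl k X z G))
  have h2 := hu _ hc.symm
  have h3 := hu (fun _ => 0) (by simp only [zero_smul, Finset.sum_const_zero])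
  have h4 := h2.trans h3.symm
  funext i
  apply hι
  rw [Pi.zero_apply, map_zero]
  exact congrFun h4 i

end UB

section Rig

variable {k : Type u} [Field k] {X : Scheme.{u}} [X.Over (Spec (CommRingCat.of k))] {T : Over (B0 k)}
  [HasExt.{w} (PicF.XT (st k X) (T0 k)).Modules]

/-- Rigidity from a determinantal presentation. -/
theorem rig_pt {S : ShortComplex X.Modules} (hS : S.ShortExact) (hA : FlatMod.IsFinLocFree S.X₁)
    (hB : FlatMod.IsFinLocFree S.X₂) {F : (PicF.XT (st k X) T).Modules} (hF : FlatMod.IsFinLocFree F)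
    (D : K54.DP.DetPres S T F) {t : T0 k ⟶ T} (w : Te k ⟶ T) (hw : iT k ≫ w = t)
    (hrig : ∀ s : Fin D.n → k, (∀ l, ∑ j, ev0 t (D.d l j) * s j = 0) →
      ∃ c : Fin D.n → k, ∀ l, ∑ j, (evE w (D.d l j)).snd * s j = ∑ j, ev0 t (D.d l j) * c j) :
    PW.Rig.{w} (pl k X t (cst k T S.X₁)) (XAdd.cls.{w} hw hF) := by
  intro G f g w₀ h hN he σ
  exact K822.Rig.rig.{w} (f₁ := S.f) (g₁ := S.g) (w₁ := S.zero) hS hF hA hB D.e D.f D.d (fun j => D.hd j)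
    (gen_of_ub D.ube t) (inj_of_ub D.ubf t) w hw hrig h hN he σ

/-- Conversion of the data of `K892.AdmFilt`. -/
theorem filt {Q : ∀ T : Over (B0 k), (ModFun.modProb (st k X)).Fam T → Prop}
    {C : ShortComplex (PicF.XT (st k X) (T0 k)).Modules} {N₀ : (PicF.XT (st k X) (T0 k)).Modules}
    (h : K892.AdmFilt.{w} Q C N₀) : PW.Filt.{w} (Q (Te k)) C N₀ where
  sur x := by
    obtain ⟨G, f, g, w, hS, h1, h2⟩ := h.sur x
    exact ⟨hS.extClass, ⟨G, f, g, w, hS, rfl, h2⟩, h1⟩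
  sub s hs β := by
    obtain ⟨G, f, g, w, hS, ε, h1, h2, h3⟩ := h.sub s hs β
    exact ⟨hS.extClass, ε, ⟨G, f, g, w, hS, rfl, h2⟩, h1, fun f₁ g₁ w₁ h₁ hN e => h3 f₁ g₁ w₁ h₁ hN e⟩
  quo s hs β := by
    obtain ⟨G, f, g, w, hS, ε, h1, h2, h3⟩ := h.quo s hs β
    exact ⟨hS.extClass, ε, ⟨G, f, g, w, hS, rfl, h2⟩, h1, fun f₁ g₁ w₁ h₁ hN e => h3 f₁ g₁ w₁ h₁ hN e⟩

end Rig

section Pt

variable {k : Type u} [Field k] [IsAlgClosed k] {X : Scheme.{u}} [X.Over (Spec (CommRingCat.of k))]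
  [IsProper (X ↘ Spec (CommRingCat.of k))] [Smooth (X ↘ Spec (CommRingCat.of k))]
  [GeometricallyConnected (X ↘ Spec (CommRingCat.of k))] {T Z : Over (B0 k)} (hdim : topologicalKrullDim X = 1)

include hdim in
/-- Nonzero classes at the points of the support of the theta ideal. -/
theorem exists_ne {S : ShortComplex X.Modules} (hS : BunMod.K356.Seq.SeqOK k S) {r : ℕ}
    {F : (PicF.XT (st k X) T).Modules} (hF : BunMod.ussOK (st k X) r 0 T F) (t : T0 k ⟶ T) (p : (T0 k).left)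
    (hp : t.left p ∈ (thetaIdeal k S.X₁ T F).support) :
    (∃ s : Coh.HH _ ((K774.D1.tw (pl k X t (cst k T S.X₁))).obj (pl k X t F)) 0, s ≠ 0) ∧
      ∃ β : Coh.HH _ ((K774.D1.tw (pl k X t (cst k T S.X₁))).obj (pl k X t F)) 1, β ≠ 0 := by
  have hN : FlatMod.IsFinLocFree S.X₁ := K774.D1.isFinLocFree (Ega2.QCohLocal.isFinLocFreeOfRank_one_iff.2 hS.inv₁)
  have hF' : FlatMod.IsFinLocFree F := K774.D1.isFinLocFree hF.1
  have h1 := (K54.Supp.mem_support_iff' hdim.le hN hF' (𝟙 (B0 k)) t p).1 hp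
  have hfp : CohB1.IsFP (Tw (pl k X t F) S.X₁) := K54.TwExact.isFP_tw
    (PerfC.PullRestrict.isFinLocFree_pullback _ hF') (Desc.FinLocFreeSections.isFP_of_isFinLocFree hN)
  have h0 : ¬ Subsingleton (Coh.HH (PicF.XT (st k X) (tpt (𝟙 (B0 k)))) (Tw (pl k X t F) S.X₁) 0) := fun h =>
    h1 ((K54.Supp.subsingleton_iff hdim.le (𝟙 (B0 k)) hfp (SubDeg.geomChi hdim hS hF k (𝟙 (B0 k)) t)).1 h)
  have e : (K774.D1.tw (pl k X t (cst k T S.X₁))).obj (pl k X t F) ≅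
      CohB1.tensorMod (pl k X t F) (cst k (T0 k) S.X₁) :=
    ASBun.K791.Tens.tensMap (Iso.refl (pl k X t F)) (K54.Theta.cstPl t S.X₁)
  have key : ∀ i, ¬ Subsingleton (Coh.HH (PicF.XT (st k X) (tpt (𝟙 (B0 k)))) (Tw (pl k X t F) S.X₁) i) →
      ∃ s : Coh.HH _ ((K774.D1.tw (pl k X t (cst k T S.X₁))).obj (pl k X t F)) i, s ≠ 0 := by
    intro i hi
    by_contra hcon
    push Not at hcon
    have h2 : Subsingleton (Coh.HH _ ((K774.D1.tw (pl k X t (cst k T S.X₁))).obj (pl k X t F)) i) :=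
      ⟨fun a b => (hcon a).trans (hcon b).symm⟩
    exact hi (K462.CohLES.subsingleton_of_iso e i)
  exact ⟨key 0 h0, key 1 h1⟩

include hdim in
/-- `Ext¹` between the pieces. -/
theorem ext_facts [HasExt.{w} (PicF.XT (st k X) (T0 k)).Modules] (hg : 2 ≤ Curv2.genus k X)
    {A B : (PicF.XT (st k X) (T0 k)).Modules} {r₁ r₂ : ℕ} (h₁ : 0 < r₁) (h₂ : 0 < r₂)
    (hA : SSB r₁ (𝟙 (B0 k)) A) (hB : SSB r₂ (𝟙 (B0 k)) B) :
    (∃ x : Ext.{w} A B 1, x ≠ 0) ∧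
      ((∀ x y : Ext.{w} A B 1, x ≠ 0 → ∃ c : k,
        y = x.comp (Ext.mk₀ (smulHom B (K822.Eps.fn (dt k X).x c))) (add_zero 1)) → ∀ f : A ⟶ B, f = 0) := by
  let _ := K54.DP.ovr X (𝟙 (B0 k))
  obtain ⟨h1, h2, h3, h4⟩ := BunMod.K356.Seq.fib (X := X) hdim (𝟙 (B0 k))
  have hp : IsProper (PicF.XT (st k X) (tpt (𝟙 (B0 k))) ↘ Spec (CommRingCat.of k)) := h2
  have hs : Smooth (PicF.XT (st k X) (tpt (𝟙 (B0 k))) ↘ Spec (CommRingCat.of k)) := h3
  have hgg : 2 ≤ Curv2.genus k (PicF.XT (st k X) (tpt (𝟙 (B0 k)))) :=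
    hg.trans_eq (BunMod.K356.Seq.deg_cst (X := X) (𝟙 (B0 k)) (Ega2.QCohLocal.isQCoh_of_isInvertible
      (Fdesc.LocGen.isInvertible_structureModule (X := X))) 1).2.symm
  exact ⟨K70.ExtDim.exists_ne_zero.{w} k h4 hgg h₁ h₂ hA.1 hB.1 hA.2.1 hB.2.1,
    fun h f => K70.ExtDim.hom_eq_zero.{w} k h4 hgg h₁ h₂ hA.1 hB.1 hA.2.1 hB.2.1 h f⟩

section Main

variable [HasExt.{w} (PicF.XT (st k X) (T0 k)).Modules] (hg : 2 ≤ Curv2.genus k X)
  {S : ShortComplex X.Modules} (hS : BunMod.K356.Seq.SeqOK k S) [IsAffine Z.left]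
  {E : (PicF.XT (st k X) Z).Modules} (hE : FlatMod.IsFinLocFree E)
  {Q : ∀ T : Over (B0 k), (ModFun.modProb (st k X)).Fam T → Prop} (hlift : LiftPt.HasLift Q Z E) (q : T ⟶ Z)
  {C : ShortComplex (PicF.XT (st k X) T).Modules} (hC : C.ShortExact)
  (ι : C.X₂ ≅ (Scheme.Modules.pullback (PicF.XTmap (st k X) q)).obj E) (hC2 : FlatMod.IsFinLocFree C.X₂)
  {r₁ r₂ : ℕ} (h₁ : 0 < r₁) (h₂ : 0 < r₂)
  (hC1 : BunMod.ussOK (st k X) r₁ 0 T C.X₁) (hC3 : BunMod.ussOK (st k X) r₂ 0 T C.X₃)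
  (t : T0 k ⟶ T) (π : Γ(Z.left, ⊤))
  (hii : ∀ v : Te k ⟶ Z, iT k ≫ v = t ≫ q → (evE v π).snd = 0 → ∃ w : Te k ⟶ T, iT k ≫ w = t ∧ w ≫ q = v)
  (hadm : K892.AdmFilt.{w} Q (C.map (Scheme.Modules.pullback (PicF.XTmap (st k X) t)))
    (pl k X t (cst k T S.X₁)))
  (p : (T0 k).left)

include hdim hg hS hE hlift hC ι hC2 h₁ h₂ hC1 hC3 hii hadm

/-- The matrix of the subfamily is not singular. -/
theorem sub_point (D : K54.DP.DetPres S T C.X₁)
    (hrig : ∀ w : Te k ⟶ T, iT k ≫ w = t → ∀ s : Fin D.n → k, (∀ l, ∑ j, ev0 t (D.d l j) * s j = 0) →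
      ∃ c : Fin D.n → k, ∀ l, ∑ j, (evE w (D.d l j)).snd * s j = ∑ j, ev0 t (D.d l j) * c j)
    (hp : t.left p ∈ (thetaIdeal k S.X₁ T C.X₁).support) : False := by
  have hN : FlatMod.IsFinLocFree S.X₁ := K774.D1.isFinLocFree (Ega2.QCohLocal.isFinLocFreeOfRank_one_iff.2 hS.inv₁)
  have hB : FlatMod.IsFinLocFree S.X₂ := K774.D1.isFinLocFree (Ega2.QCohLocal.isFinLocFreeOfRank_one_iff.2 hS.inv₂)
  have f1 : FlatMod.IsFinLocFree C.X₁ := K774.D1.isFinLocFree hC1.1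
  have f3 : FlatMod.IsFinLocFree C.X₃ := K774.D1.isFinLocFree hC3.1
  obtain ⟨⟨s, hs⟩, ⟨β, hβ⟩⟩ := exists_ne hdim hS hC1 t p hp
  obtain ⟨hne, hhom⟩ := ext_facts.{w} hdim hg h₁ h₂ ((K311.Fam.ussOK_iff.1 hC1).2 k (𝟙 (B0 k)) t)
    ((K311.Fam.ussOK_iff.1 hC3).2 k (𝟙 (B0 k)) t)
  exact PW.sub_false.{w} q hE f1 hC2 f3 ι rfl π hii (Q (Te k)) (hlift (t ≫ q)) (SubDeg.shortExact_pl t hC f3)
    (Fdesc.LocGen.isInvertible_pullback _ (Fdesc.LocGen.isInvertible_pullback _ hS.inv₁)) (filt hadm) hne hhom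
    (fun w hw => rig_pt hS.ex hN hB f1 D w hw (hrig w hw)) hs hβ

/-- The matrix of the quotient family is not singular. -/
theorem quo_point (D : K54.DP.DetPres S T C.X₃)
    (hrig : ∀ w : Te k ⟶ T, iT k ≫ w = t → ∀ s : Fin D.n → k, (∀ l, ∑ j, ev0 t (D.d l j) * s j = 0) →
      ∃ c : Fin D.n → k, ∀ l, ∑ j, (evE w (D.d l j)).snd * s j = ∑ j, ev0 t (D.d l j) * c j)
    (hp : t.left p ∈ (thetaIdeal k S.X₁ T C.X₃).support) : False := by
  have hN : FlatMod.IsFinLocFree S.X₁ := K774.D1.isFinLocFree (Ega2.QCohLocal.isFinLocFreeOfRank_one_iff.2 hS.inv₁)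
  have hB : FlatMod.IsFinLocFree S.X₂ := K774.D1.isFinLocFree (Ega2.QCohLocal.isFinLocFreeOfRank_one_iff.2 hS.inv₂)
  have f1 : FlatMod.IsFinLocFree C.X₁ := K774.D1.isFinLocFree hC1.1
  have f3 : FlatMod.IsFinLocFree C.X₃ := K774.D1.isFinLocFree hC3.1
  obtain ⟨⟨s, hs⟩, ⟨β, hβ⟩⟩ := exists_ne hdim hS hC3 t p hp
  obtain ⟨hne, hhom⟩ := ext_facts.{w} hdim hg h₁ h₂ ((K311.Fam.ussOK_iff.1 hC1).2 k (𝟙 (B0 k)) t)
    ((K311.Fam.ussOK_iff.1 hC3).2 k (𝟙 (B0 k)) t)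
  exact PW.quo_false.{w} q hE f1 hC2 f3 ι rfl π hii (Q (Te k)) (hlift (t ≫ q)) (SubDeg.shortExact_pl t hC f3)
    (Fdesc.LocGen.isInvertible_pullback _ (Fdesc.LocGen.isInvertible_pullback _ hS.inv₁)) (filt hadm) hne hhom
    (fun w hw => rig_pt hS.ex hN hB f3 D w hw (hrig w hw)) hs hβ

end Main

end Pt

end K562.DensPt
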