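import Mathlib.RingTheory.Jacobson.Ring
import Mathlib.RingTheory.Nullstellensatz
import Mathlib.RingTheory.Ideal.KrullsHeightTheorem
import Mathlib.Algebra.DualNumber
import Mathlib.LinearAlgebra.Matrix.Transvection
import Groth.Agent.GIT.K687.Cartan
import Groth.Agent.Etalg.NormalDvr

/-!
# The determinant of a square matrix with large first order variation

Let `R` be a normal domain of finite type over an algebraically closed field `k`, and `d` an `n × n`
matrix over `R` such that at every `k`-point `m` of `R` and for every nonzero `s` in the kernel of `d(m)`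
the tangent vectors `D` at `m` give all of the cokernel of `d(m)` as `D(d) s`.  Then `det d ≠ 0`, the
ideal `(det d)` is radical, and on every component of its zero set the corank of `d` is generically one
(`K562.DetRad.main`; `K562.DetRad.main_dual` is the same with tangent vectors given as `k[ε]`-points).
-/

set_option autoImplicit false

universe u

namespace K562.DetRad

open Matrix

section Point

variable {k R : Type u} [Field k] [CommRing R]

/-- `D` is a tangent vector at the point `m`. -/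
def IsTan (m : R →+* k) (D : R →+ k) : Prop := ∀ x y : R, D (x * y) = m x * D y + m y * D x

theorem IsTan.map_mul {m : R →+* k} {D : R →+ k} (hD : IsTan m D) {n : Type*} [Fintype n]
    (A B : Matrix n n R) :
    (A * B).map D = A.map m * B.map D + A.map D * B.map m := by
  ext i j
  simp only [Matrix.map_apply, Matrix.mul_apply, Matrix.add_apply, map_sum, hD _ _]
  rw [← Finset.sum_add_distrib]
  exact Finset.sum_congr rfl fun l _ => by ring

theorem IsTan.map_pow_two {m : R →+* k} {D : R →+ k} (hD : IsTan m D) {I : Ideal R}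
    (hI : ∀ x ∈ I, m x = 0) {x : R} (hx : x ∈ I ^ 2) : D x = 0 := by
  rw [pow_two] at hx
  induction hx using Submodule.mul_induction_on' with
  | mem_mul_mem a ha b hb => rw [hD, hI a ha, hI b hb]; ring
  | add x _ y _ hx hy => rw [map_add, hx, hy, add_zero]

/-- The condition on first order variations at the point `m`. -/
def Onto {n : Type*} [Fintype n] (d : Matrix n n R) (m : R →+* k) : Prop :=
  ∀ s : n → k, s ≠ 0 → d.map m *ᵥ s = 0 → ∀ t : n → k,
    ∃ D : R →+ k, IsTan m D ∧ ∃ c : n → k, d.map D *ᵥ s = t + d.map m *ᵥ c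

theorem map_smul_one {m : R →+* k} {n : Type*} [DecidableEq n] (b : R) :
    (b • (1 : Matrix n n R)).map m = m b • (1 : Matrix n n k) := by
  ext i j
  by_cases h : i = j
  · subst h; simp
  · simp [Matrix.one_apply_ne h]

theorem core {n : Type*} [Fintype n] [DecidableEq n] (m : R →+* k) (d A A' C C' : Matrix n n R)
    (e : n → R) (b : R) (hb : m b ≠ 0) (hA : A * A' = b • 1) (hA' : A' * A = b • 1)
    (hC : C * C' = b • 1) (hC' : C' * C = b • 1) (hn : A * d * C = diagonal e)
    (hT : Onto d m) :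
    (∀ i j, m (e i) = 0 → m (e j) = 0 → i = j) ∧
      ∀ i, m (e i) = 0 → ∃ D : R →+ k, IsTan m D ∧ D (e i) ≠ 0 := by
  have key : ∀ i j, m (e i) = 0 → m (e j) = 0 → ∃ D : R →+ k, IsTan m D ∧
      (diagonal (fun l => D (e l)) *ᵥ Pi.single i 1) j ≠ 0 := by
    intro i j hi hj
    have hAm : A.map m * A'.map m = m b • 1 := by
      rw [← map_smul_one, ← hA, Matrix.map_mul]
    have hAm' : A'.map m * A.map m = m b • 1 := by
      rw [← map_smul_one, ← hA', Matrix.map_mul]
    have hCm : C.map m * C'.map m = m b • 1 := by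
      rw [← map_smul_one, ← hC, Matrix.map_mul]
    have hCm' : C'.map m * C.map m = m b • 1 := by
      rw [← map_smul_one, ← hC', Matrix.map_mul]
    have hnm : A.map m * d.map m * C.map m = diagonal (fun l => m (e l)) := by
      rw [← Matrix.map_mul, ← Matrix.map_mul, hn, Matrix.diagonal_map (map_zero m)]
    set s : n → k := C.map m *ᵥ Pi.single i 1 with hs
    have hs0 : s ≠ 0 := by
      intro h0
      have h1 : C'.map m *ᵥ s = m b • Pi.single i 1 := by
        rw [hs, Matrix.mulVec_mulVec, hCm', Matrix.smul_mulVec, Matrix.one_mulVec]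
      rw [h0, Matrix.mulVec_zero] at h1
      have h2 := congrFun h1 i
      simp only [Pi.zero_apply, Pi.smul_apply, Pi.single_eq_same, smul_eq_mul, mul_one] at h2
      exact hb h2.symm
    have hds : d.map m *ᵥ s = 0 := by
      have h1 : A.map m *ᵥ (d.map m *ᵥ s) = 0 := by
        rw [hs, Matrix.mulVec_mulVec, Matrix.mulVec_mulVec, hnm,
          Matrix.diagonal_mulVec_single, hi, zero_mul, Pi.single_zero]
      have h2 : A'.map m *ᵥ (A.map m *ᵥ (d.map m *ᵥ s)) = m b • (d.map m *ᵥ s) := by
        rw [Matrix.mulVec_mulVec, hAm', Matrix.smul_mulVec, Matrix.one_mulVec]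
      rw [h1, Matrix.mulVec_zero] at h2
      exact (smul_eq_zero.mp h2.symm).resolve_left hb
    have hcoord : ∀ x : n → k, (A.map m *ᵥ (d.map m *ᵥ x)) j = 0 := by
      intro x
      have h1 : m b • (A.map m *ᵥ (d.map m *ᵥ x)) =
          diagonal (fun l => m (e l)) *ᵥ (C'.map m *ᵥ x) := by
        rw [← hnm, Matrix.mulVec_mulVec, Matrix.mulVec_mulVec, Matrix.mul_assoc _ _ (C'.map m),
          hCm, Matrix.mul_smul, Matrix.mul_one, Matrix.smul_mulVec]
      have h2 := congrFun h1 j
      rw [Matrix.mulVec_diagonal, hj, zero_mul, Pi.smul_apply, smul_eq_mul] at h2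
      exact (mul_eq_zero.mp h2).resolve_left hb
    obtain ⟨D, hD, c, hc⟩ := hT s hs0 hds (A'.map m *ᵥ Pi.single j 1)
    refine ⟨D, hD, ?_⟩
    have hder : diagonal (fun l => D (e l)) = A.map m * d.map m * C.map D +
        (A.map m * d.map D + A.map D * d.map m) * C.map m := by
      rw [← hD.map_mul, ← Matrix.map_mul, ← hD.map_mul, hn, Matrix.diagonal_map (map_zero D)]
    have h3 : diagonal (fun l => D (e l)) *ᵥ Pi.single i 1 =
        A.map m *ᵥ (d.map m *ᵥ (C.map D *ᵥ Pi.single i 1)) + A.map m *ᵥ (d.map D *ᵥ s) := by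
      rw [hder, Matrix.add_mulVec, ← Matrix.mulVec_mulVec, ← Matrix.mulVec_mulVec,
        ← Matrix.mulVec_mulVec _ (A.map m * d.map D + A.map D * d.map m) (C.map m), ← hs,
        Matrix.add_mulVec, ← Matrix.mulVec_mulVec _ (A.map m) (d.map D),
        ← Matrix.mulVec_mulVec _ (A.map D) (d.map m), hds, Matrix.mulVec_zero, add_zero]
    rw [h3, hc, Matrix.mulVec_add, Pi.add_apply, Pi.add_apply, hcoord, hcoord, zero_add, add_zero,
      Matrix.mulVec_mulVec, hAm, Matrix.smul_mulVec, Matrix.one_mulVec, Pi.smul_apply,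
      Pi.single_eq_same, smul_eq_mul, mul_one]
    exact hb
  constructor
  · intro i j hi hj
    by_contra hne
    obtain ⟨D, -, h⟩ := key i j hi hj
    apply h
    rw [Matrix.mulVec_diagonal, Pi.single_eq_of_ne (Ne.symm hne), mul_zero]
  · intro i hi
    obtain ⟨D, hD, h⟩ := key i i hi hi
    refine ⟨D, hD, fun h0 => h ?_⟩
    rw [Matrix.mulVec_diagonal, h0, zero_mul]

end Point

section Spread

variable {R : Type u} [CommRing R]

/-- Clearing denominators in a diagonal form over a localization. -/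
theorem spread (M : Submonoid R) (hM : M ≤ nonZeroDivisors R) (O : Type*) [CommRing O] [Algebra R O]
    [IsLocalization M O] {n : Type*} [Fintype n] [DecidableEq n] (d : Matrix n n R)
    (A C : Matrix n n O) (c : n → O) (hA : IsUnit A.det) (hC : IsUnit C.det)
    (h : A * d.map (algebraMap R O) * C = diagonal c) :
    ∃ b ∈ M, ∃ (A₁ A₂ C₁ C₂ : Matrix n n R) (e : n → R), A₁ * A₂ = b • 1 ∧ A₂ * A₁ = b • 1 ∧
      C₁ * C₂ = b • 1 ∧ C₂ * C₁ = b • 1 ∧ A₁ * d * C₁ = diagonal e ∧
      ∀ i, algebraMap R O (e i) = algebraMap R O b * c i := by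
  have hinj : Function.Injective (algebraMap R O) := IsLocalization.injective O hM
  obtain ⟨β, hβ⟩ := IsLocalization.exist_integer_multiples_of_finite M
    (fun x : Fin 4 × n × n => (![A, A⁻¹, C, C⁻¹] x.1 x.2.1 x.2.2 : O))
  have hmat : ∀ l : Fin 4, ∃ B : Matrix n n R,
      B.map (algebraMap R O) = (β : R) • (![A, A⁻¹, C, C⁻¹] l) := by
    intro l
    choose g hg using fun i j => hβ (l, i, j)
    refine ⟨Matrix.of g, ?_⟩
    ext i j
    rw [Matrix.map_apply, Matrix.of_apply, hg i j, Matrix.smul_apply]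
  obtain ⟨A₁, hA₁⟩ := hmat 0
  obtain ⟨A₂, hA₂⟩ := hmat 1
  obtain ⟨C₁, hC₁⟩ := hmat 2
  obtain ⟨C₂, hC₂⟩ := hmat 3
  have hA₁' : A₁.map (algebraMap R O) = (β : R) • A := hA₁
  have hA₂' : A₂.map (algebraMap R O) = (β : R) • A⁻¹ := hA₂
  have hC₁' : C₁.map (algebraMap R O) = (β : R) • C := hC₁
  have hC₂' : C₂.map (algebraMap R O) = (β : R) • C⁻¹ := hC₂
  have hmapinj : ∀ B B' : Matrix n n R, B.map (algebraMap R O) = B'.map (algebraMap R O) → B = B' :=
    fun B B' hB => Matrix.map_injective hinj hB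
  have hb1 : (((β : R) * β) • (1 : Matrix n n R)).map (algebraMap R O) =
      ((β : R) * β) • (1 : Matrix n n O) := by
    ext i j
    rw [Matrix.map_apply, Matrix.smul_apply, Matrix.smul_apply, smul_eq_mul, map_mul,
      Algebra.smul_def]
    by_cases hij : i = j
    · subst hij; simp
    · simp [Matrix.one_apply_ne hij]
  have hprod : ∀ (B B' : Matrix n n R) (X X' : Matrix n n O),
      B.map (algebraMap R O) = (β : R) • X → B'.map (algebraMap R O) = (β : R) • X' →
      X * X' = 1 → B * B' = ((β : R) * β) • 1 := by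
    intro B B' X X' hB hB' hX
    apply hmapinj
    rw [hb1, Matrix.map_mul, hB, hB', Matrix.smul_mul, Matrix.mul_smul, hX, smul_smul]
  have hmapd : (A₁ * d * C₁).map (algebraMap R O) = ((β : R) * β) • diagonal c := by
    rw [Matrix.map_mul, Matrix.map_mul, hA₁', hC₁', Matrix.smul_mul, Matrix.smul_mul,
      Matrix.mul_smul, h, smul_smul]
  refine ⟨(β : R) * β, M.mul_mem β.2 β.2, A₁, A₂, C₁, C₂, fun i => (A₁ * d * C₁) i i,
    hprod _ _ _ _ hA₁' hA₂' (Matrix.mul_nonsing_inv A hA),
    hprod _ _ _ _ hA₂' hA₁' (Matrix.nonsing_inv_mul A hA),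
    hprod _ _ _ _ hC₁' hC₂' (Matrix.mul_nonsing_inv C hC),
    hprod _ _ _ _ hC₂' hC₁' (Matrix.nonsing_inv_mul C hC), ?_, ?_⟩
  · ext i j
    by_cases hij : i = j
    · subst hij; rw [Matrix.diagonal_apply_eq]
    · rw [Matrix.diagonal_apply_ne _ hij]
      apply hinj
      have := congrFun (congrFun hmapd i) j
      rw [Matrix.map_apply, Matrix.smul_apply, Matrix.diagonal_apply_ne _ hij, smul_zero] at this
      rw [this, map_zero]
  · intro i
    have := congrFun (congrFun hmapd i) i
    rw [Matrix.map_apply, Matrix.smul_apply, Matrix.diagonal_apply_eq, Algebra.smul_def] at this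
    exact this

end Spread

section Main

variable {k R : Type u} [Field k] [IsAlgClosed k] [CommRing R] [Algebra k R] [Algebra.FiniteType k R]

/-- `k`-points off a closed subset. -/
theorem exists_point (p : Ideal R) [p.IsPrime] {b : R} (hb : b ∉ p) :
    ∃ m : R →ₐ[k] k, (∀ x ∈ p, m x = 0) ∧ m b ≠ 0 := by
  have hJ : IsJacobsonRing R := isJacobsonRing_of_finiteType (A := k)
  have hp : p.jacobson = p := (isJacobsonRing_iff_prime_eq.mp hJ) p inferInstance
  have h1 : b ∉ p.jacobson := by rw [hp]; exact hb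
  rw [Ideal.jacobson, Submodule.mem_sInf] at h1
  push Not at h1
  obtain ⟨m, ⟨hpm, hm⟩, hbm⟩ := h1
  have hm' : Ideal.IsMaximal m := hm
  let _ : Field (R ⧸ m) := Ideal.Quotient.field m
  have hfin : Module.Finite k (R ⧸ m) := finite_of_finite_type_of_isJacobsonRing k (R ⧸ m)
  have hbij : Function.Bijective (algebraMap k (R ⧸ m)) :=
    IsAlgClosed.algebraMap_bijective_of_isIntegral
  let e : k ≃ₐ[k] (R ⧸ m) := AlgEquiv.ofBijective (Algebra.ofId k (R ⧸ m)) hbij
  refine ⟨(e.symm : (R ⧸ m) →ₐ[k] k).comp (Ideal.Quotient.mkₐ k m), ?_, ?_⟩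
  · intro x hx
    have : (Ideal.Quotient.mkₐ k m) x = 0 := Ideal.Quotient.eq_zero_iff_mem.2 (hpm hx)
    rw [AlgHom.comp_apply, this, map_zero]
  · intro h
    apply hbm
    have : (Ideal.Quotient.mkₐ k m) b = 0 := by
      have := congrArg e h
      simpa using this
    exact Ideal.Quotient.eq_zero_iff_mem.1 this

theorem isPrincipalIdealRing_of_height_one {A : Type*} [CommRing A] [IsDomain A]
    [IsNoetherianRing A] [IsIntegrallyClosed A] (p : Ideal A) [p.IsPrime] (hp : p.height = 1) :
    IsPrincipalIdealRing (Localization.AtPrime p) := by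
  have : IsIntegrallyClosed (Localization.AtPrime p) :=
    isIntegrallyClosed_of_isLocalization _ p.primeCompl p.primeCompl_le_nonZeroDivisors
  have : IsNoetherianRing (Localization.AtPrime p) :=
    IsLocalization.isNoetherianRing p.primeCompl _ inferInstance
  have H := (tfae_of_isNoetherianRing_of_isLocalRing_of_isDomain (Localization.AtPrime p)).out 3 0
  refine H.mp ⟨inferInstance, fun P hP hPp => ?_⟩
  by_contra hne
  have h1 : P < IsLocalRing.maximalIdeal (Localization.AtPrime p) :=
    lt_of_le_of_ne (IsLocalRing.le_maximalIdeal hPp.ne_top) hne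
  have h2 : (⊥ : Ideal (Localization.AtPrime p)) < P := bot_lt_iff_ne_bot.mpr hP
  have h3 := Ideal.height_add_one_le_of_lt_of_isPrime h1
  have h4 := Ideal.height_add_one_le_of_lt_of_isPrime h2
  have h5 : (IsLocalRing.maximalIdeal (Localization.AtPrime p)).height = 1 := by
    have h6 := IsLocalRing.maximalIdeal_height_eq_ringKrullDim (R := Localization.AtPrime p)
    rw [IsLocalization.AtPrime.ringKrullDim_eq_height p, hp] at h6
    exact_mod_cast h6
  rw [h5] at h3
  have h7 : (1 : ℕ∞) ≤ P.height := le_trans (by simp) h4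
  have h8 : (1 : ℕ∞) + 1 ≤ 1 := le_trans (by gcongr) h3
  exact absurd h8 (by decide)

theorem det_ne_zero [IsDomain R] {n : Type*} [Fintype n] [DecidableEq n] (d : Matrix n n R)
    (hT : ∀ m : R →ₐ[k] k, Onto d (m : R →+* k)) : d.det ≠ 0 := by
  intro h0
  obtain ⟨L, L', D, hD⟩ := Matrix.Pivot.exists_list_transvec_mul_mul_list_transvec_eq_diagonal
    (d.map (algebraMap R (FractionRing R)))
  have hdL : ∀ L : List (TransvectionStruct n (FractionRing R)),
      (L.map TransvectionStruct.toMatrix).prod.det = 1 := fun L => TransvectionStruct.det_toMatrix_prod L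
  obtain ⟨b, hb, A₁, A₂, C₁, C₂, e, h1, h2, h3, h4, h5, h6⟩ := spread (nonZeroDivisors R) le_rfl
    (FractionRing R) d _ _ D (by rw [hdL]; exact isUnit_one) (by rw [hdL]; exact isUnit_one) hD
  have hprod : ∏ i, D i = 0 := by
    rw [← Matrix.det_diagonal, ← hD, Matrix.det_mul, Matrix.det_mul, hdL, hdL, one_mul, mul_one]
    have := RingHom.map_det (algebraMap R (FractionRing R)) d
    rw [h0, map_zero] at this
    exact this.symm
  obtain ⟨i, -, hi⟩ := Finset.prod_eq_zero_iff.mp hprod
  have hei : e i = 0 := by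
    have := h6 i
    rw [hi, mul_zero] at this
    exact (IsFractionRing.injective R (FractionRing R)) (by rw [this, map_zero])
  have hb' : b ∉ (⊥ : Ideal R) := fun h => nonZeroDivisors.ne_zero hb h
  obtain ⟨m, -, hm⟩ := exists_point (k := k) (⊥ : Ideal R) hb'
  obtain ⟨D, -, hDi⟩ := (core (m : R →+* k) d A₁ A₂ C₁ C₂ e b hm h1 h2 h3 h4 h5 (hT m)).2 i
    (by rw [hei, map_zero])
  exact hDi (by rw [hei, map_zero])

variable [IsDomain R] [IsIntegrallyClosed R]

theorem local_gen {n : ℕ} (d : Matrix (Fin n) (Fin n) R)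
    (hT : ∀ m : R →ₐ[k] k, Onto d (m : R →+* k)) (p : Ideal R) [p.IsPrime] (hp1 : p.height = 1)
    (hdp : d.det ∈ p) :
    (∃ i j, d.adjugate i j ∉ p) ∧ ∀ x ∈ p, ∃ s ∉ p, s * x ∈ Ideal.span {d.det} := by
  have hN : IsNoetherianRing R := Algebra.FiniteType.isNoetherianRing k R
  have hpid : IsPrincipalIdealRing (Localization.AtPrime p) := isPrincipalIdealRing_of_height_one p hp1
  have hd0 := det_ne_zero (k := k) d hT
  have hinj : Function.Injective (algebraMap R (Localization.AtPrime p)) :=
    IsLocalization.injective _ p.primeCompl_le_nonZeroDivisors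
  have hd0' : (d.map (algebraMap R (Localization.AtPrime p))).det ≠ 0 := by
    have := RingHom.map_det (algebraMap R (Localization.AtPrime p)) d
    rw [RingHom.mapMatrix_apply] at this
    rw [← this]
    exact fun h => hd0 (hinj (by rw [h, map_zero]))
  obtain ⟨P, B, c, hP, hB, hc, hPB⟩ := K687.exists_smith _ hd0'
  have hPinv : IsUnit P⁻¹.det := by
    rw [Matrix.det_nonsing_inv]; exact hP.ringInverse
  have hBinv : IsUnit B⁻¹.det := by
    rw [Matrix.det_nonsing_inv]; exact hB.ringInverse
  obtain ⟨b, hb, A₁, A₂, C₁, C₂, e, h1, h2, h3, h4, h5, h6⟩ := spread p.primeCompl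
    p.primeCompl_le_nonZeroDivisors (Localization.AtPrime p) d P⁻¹ B⁻¹ c hPinv hBinv (by
      rw [hPB, ← Matrix.mul_assoc, ← Matrix.mul_assoc, Matrix.nonsing_inv_mul _ hP, Matrix.one_mul,
        Matrix.mul_assoc, Matrix.mul_nonsing_inv _ hB, Matrix.mul_one])
  have hb' : b ∉ p := hb
  have hbn : b ^ n ∉ p := fun h => hb' (Ideal.IsPrime.mem_of_pow_mem inferInstance _ h)
  have hdet : ∀ X Y : Matrix (Fin n) (Fin n) R, X * Y = b • 1 → X.det ∉ p := by
    intro X Y hXY hX
    apply hbn
    have := congrArg Matrix.det hXY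
    rw [Matrix.det_mul, Matrix.det_smul, Matrix.det_one, mul_one, Fintype.card_fin] at this
    rw [← this]
    exact Ideal.mul_mem_right _ _ hX
  have hprod : A₁.det * d.det * C₁.det = ∏ i, e i := by
    rw [← Matrix.det_diagonal, ← h5, Matrix.det_mul, Matrix.det_mul]
  have hprodp : ∏ i, e i ∈ p := by
    rw [← hprod]
    exact Ideal.mul_mem_right _ _ (Ideal.mul_mem_left _ _ hdp)
  obtain ⟨i₀, -, hi₀⟩ := (Ideal.IsPrime.prod_mem_iff (p := p)).mp hprodp
  have huniq : ∀ j, e j ∈ p → j = i₀ := by
    intro j hj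
    obtain ⟨m, hm, hmb⟩ := exists_point (k := k) p hb'
    exact (core (m : R →+* k) d A₁ A₂ C₁ C₂ e b hmb h1 h2 h3 h4 h5 (hT m)).1 j i₀
      (hm _ hj) (hm _ hi₀)
  have hrest : ∏ j ∈ Finset.univ.erase i₀, e j ∉ p := by
    intro h
    obtain ⟨j, hj, hjp⟩ := (Ideal.IsPrime.prod_mem_iff (p := p)).mp h
    exact (Finset.ne_of_mem_erase hj) (huniq j hjp)
  have hsq : ∀ g : R, g ∉ p → g * e i₀ ∉ p ^ 2 := by
    intro g hg hmem
    have hbg : b * g ∉ p := fun h => (Ideal.IsPrime.mem_or_mem inferInstance h).elim hb' hg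
    obtain ⟨m, hm, hmb⟩ := exists_point (k := k) p hbg
    rw [map_mul] at hmb
    obtain ⟨D, hD, hDe⟩ := (core (m : R →+* k) d A₁ A₂ C₁ C₂ e b (left_ne_zero_of_mul hmb)
      h1 h2 h3 h4 h5 (hT m)).2 i₀ (hm _ hi₀)
    have h7 := hD.map_pow_two (I := p) (fun x hx => hm x hx) hmem
    rw [hD, show (m : R →+* k) (e i₀) = 0 from hm _ hi₀, zero_mul, add_zero] at h7
    exact (mul_ne_zero (right_ne_zero_of_mul hmb) hDe) h7
  constructor
  · by_contra hall
    push Not at hall
    apply hrest
    have h7 : C₁.adjugate * (d.adjugate * A₁.adjugate) = diagonal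
        (fun i => ∏ j ∈ Finset.univ.erase i, e j) := by
      rw [← Matrix.adjugate_diagonal, ← h5, Matrix.adjugate_mul_distrib,
        Matrix.adjugate_mul_distrib]
    have h8 := congrFun (congrFun h7 i₀) i₀
    rw [Matrix.diagonal_apply_eq] at h8
    rw [← h8, Matrix.mul_apply]
    refine Ideal.sum_mem _ fun l _ => Ideal.mul_mem_left _ _ ?_
    rw [Matrix.mul_apply]
    exact Ideal.sum_mem _ fun l' _ => Ideal.mul_mem_right _ _ (hall _ _)
  · -- `e i₀` generates the maximal ideal of the localization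
    have hmax : IsLocalRing.maximalIdeal (Localization.AtPrime p) =
        Ideal.span {algebraMap R (Localization.AtPrime p) (e i₀)} := by
      obtain ⟨π, hπ⟩ := (IsPrincipalIdealRing.principal
        (IsLocalRing.maximalIdeal (Localization.AtPrime p))).principal
      have hπ' : IsLocalRing.maximalIdeal (Localization.AtPrime p) = Ideal.span {π} := hπ
      have hmem : algebraMap R (Localization.AtPrime p) (e i₀) ∈ Ideal.span {π} := by
        rw [← hπ', ← Localization.AtPrime.map_eq_maximalIdeal]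
        exact Ideal.mem_map_of_mem _ hi₀
      obtain ⟨y, hy⟩ := Ideal.mem_span_singleton'.mp hmem
      have hyu : IsUnit y := by
        by_contra hy'
        have hym : y ∈ IsLocalRing.maximalIdeal (Localization.AtPrime p) :=
          (IsLocalRing.mem_maximalIdeal y).mpr hy'
        have hπm : π ∈ IsLocalRing.maximalIdeal (Localization.AtPrime p) := by
          rw [hπ']; exact Ideal.mem_span_singleton_self π
        have h7 : algebraMap R (Localization.AtPrime p) (e i₀) ∈
            (p ^ 2).map (algebraMap R (Localization.AtPrime p)) := by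
          rw [Ideal.map_pow, Localization.AtPrime.map_eq_maximalIdeal, ← hy, pow_two]
          exact Ideal.mul_mem_mul hym hπm
        obtain ⟨⟨a, s⟩, has⟩ := (IsLocalization.mem_map_algebraMap_iff p.primeCompl
          (Localization.AtPrime p)).mp h7
        refine hsq s.1 s.2 ?_
        have h8 : e i₀ * s.1 = a.1 := hinj (by rw [map_mul]; exact has)
        rw [mul_comm, h8]
        exact a.2
      rw [hπ']
      exact Ideal.span_singleton_eq_span_singleton.mpr
        ⟨hyu.unit, by rw [IsUnit.unit_spec, mul_comm]; exact hy⟩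
    intro x hx
    have hxm : algebraMap R (Localization.AtPrime p) x ∈
        Ideal.span {algebraMap R (Localization.AtPrime p) (e i₀)} := by
      rw [← hmax, ← Localization.AtPrime.map_eq_maximalIdeal]
      exact Ideal.mem_map_of_mem _ hx
    obtain ⟨y, hy⟩ := Ideal.mem_span_singleton'.mp hxm
    obtain ⟨⟨a, s⟩, has⟩ := IsLocalization.surj p.primeCompl y
    have h9 : s.1 * x = a * e i₀ := by
      apply hinj
      rw [map_mul, map_mul, ← hy, ← mul_assoc, mul_comm _ y]
      exact congrArg (· * _) has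
    refine ⟨(∏ j ∈ Finset.univ.erase i₀, e j) * s.1, fun h =>
      (Ideal.IsPrime.mem_or_mem inferInstance h).elim hrest s.2, ?_⟩
    have h10 : (∏ j ∈ Finset.univ.erase i₀, e j) * e i₀ = A₁.det * d.det * C₁.det := by
      rw [hprod, mul_comm]
      exact Finset.mul_prod_erase _ _ (Finset.mem_univ i₀)
    rw [mul_assoc, h9, ← mul_assoc, mul_right_comm, h10, Ideal.mem_span_singleton]
    exact ⟨A₁.det * C₁.det * a, by ring⟩

/-- **The determinant of a matrix with large first order variation.** -/
theorem main {n : ℕ} (d : Matrix (Fin n) (Fin n) R)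
    (hT : ∀ m : R →ₐ[k] k, Onto d (m : R →+* k)) :
    d.det ≠ 0 ∧ (Ideal.span {d.det}).IsRadical ∧
      ∀ p ∈ (Ideal.span {d.det}).minimalPrimes, p.height = 1 ∧ ∃ i j, d.adjugate i j ∉ p := by
  have hN : IsNoetherianRing R := Algebra.FiniteType.isNoetherianRing k R
  have hd0 := det_ne_zero (k := k) d hT
  have hmin : ∀ p ∈ (Ideal.span {d.det}).minimalPrimes, p.height = 1 := by
    intro p hp
    have : p.IsPrime := hp.1.1
    refine le_antisymm (Ideal.height_le_one_of_isPrincipal_of_mem_minimalPrimes _ p hp) ?_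
    rw [Order.one_le_iff_pos, pos_iff_ne_zero]
    intro h0
    rw [Ideal.height_eq_zero_iff, IsDomain.minimalPrimes_eq_singleton_bot,
      Set.mem_singleton_iff] at h0
    rw [h0] at hp
    exact hd0 (hp.1.2 (Ideal.mem_span_singleton_self _))
  refine ⟨hd0, ?_, fun p hp => ⟨hmin p hp, ?_⟩⟩
  · rintro x ⟨N, hx⟩
    refine Groth.Agent.Etalg.NormalDvr.mem_span_of_forall_height_one R hd0 fun P hP hP1 => ?_
    by_cases hdP : d.det ∈ P
    · refine (local_gen (k := k) d hT P hP1 hdP).2 x ?_
      exact Ideal.IsPrime.mem_of_pow_mem hP N ((Ideal.span_singleton_le_iff_mem P).mpr hdP hx)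
    · exact ⟨d.det, hdP, Ideal.mul_mem_right _ _ (Ideal.mem_span_singleton_self _)⟩
  · have : p.IsPrime := hp.1.1
    exact (local_gen (k := k) d hT p (hmin p hp) (hp.1.2 (Ideal.mem_span_singleton_self _))).1

/-- The same with tangent vectors given as points with values in the dual numbers. -/
theorem main_dual {n : ℕ} (d : Matrix (Fin n) (Fin n) R)
    (hT : ∀ (m : R →ₐ[k] k) (s : Fin n → k), s ≠ 0 → d.map m *ᵥ s = 0 → ∀ t : Fin n → k,
      ∃ (v : R →ₐ[k] DualNumber k) (c : Fin n → k), (∀ x, (v x).fst = m x) ∧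
        (fun i => ∑ j, (v (d i j)).snd * s j) = t + d.map m *ᵥ c) :
    d.det ≠ 0 ∧ (Ideal.span {d.det}).IsRadical ∧
      ∀ p ∈ (Ideal.span {d.det}).minimalPrimes, p.height = 1 ∧ ∃ i j, d.adjugate i j ∉ p := by
  refine main (k := k) d fun m s hs hds t => ?_
  obtain ⟨v, c, hv, hc⟩ := hT m s hs hds t
  refine ⟨⟨⟨fun x => (v x).snd, by simp⟩, fun x y => by simp⟩, ?_, c, ?_⟩
  · intro x y
    change (v (x * y)).snd = m x * (v y).snd + m y * (v x).snd
    rw [map_mul, DualNumber.snd_mul, hv, hv, mul_comm (m y)]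
  · exact hc

end Main

end K562.DetRad
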