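import Groth.Agent.BunMod.K562.PtMat
import Groth.Agent.BunMod.K562.Dens
import Groth.Agent.BunMod.K822.XAdd

/-!
# Points and homomorphisms; the first order behaviour along an étale chart

* `ev0_comp`, `evE_comp`, `ev0_kT`, `ev0_ext`, `evE_ext`, `exists_evE`, `exists_pt_ne_zero`;
* `geo`: `K562.Dens.main` in terms of points.
-/

set_option autoImplicit false

universe u

open CategoryTheory CategoryTheory.Limits AlgebraicGeometry TopologicalSpace

namespace K562.PtHom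

open K140.BM K822 K822.XTD K822.OntoX K562.PtMat

section Ev

variable {k : Type u} [Field k] {T T' : Over (B0 k)}

theorem ev0_comp (t : T0 k ⟶ T') (q : T' ⟶ T) (r : Γ(T.left, ⊤)) : ev0 (t ≫ q) r = ev0 t (q.left.appTop r) := by
  change (Scheme.ΓSpecIso (CommRingCat.of k)).hom ((t ≫ q).left.appTop r) = _
  rw [Over.comp_left, Scheme.Hom.comp_appTop]
  rfl

theorem evE_comp (v : Te k ⟶ T') (q : T' ⟶ T) (r : Γ(T.left, ⊤)) : evE (v ≫ q) r = evE v (q.left.appTop r) := by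
  change (Scheme.ΓSpecIso (CommRingCat.of (DualNumber k))).hom ((v ≫ q).left.appTop r) = _
  rw [Over.comp_left, Scheme.Hom.comp_appTop]
  rfl

theorem ev0_kT (t : T0 k ⟶ T) (x : k) : ev0 t (kT T x) = x := by
  have h1 : T.hom.appTop ≫ t.left.appTop = 𝟙 _ := by
    rw [← Scheme.Hom.comp_appTop]
    exact (congrArg (fun q : (T0 k).left ⟶ B0 k => q.appTop) (Over.w t)).trans Scheme.Hom.id_appTop
  have h2 : t.left.appTop (T.hom.appTop ((Scheme.ΓSpecIso (CommRingCat.of k)).inv x)) =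
      (Scheme.ΓSpecIso (CommRingCat.of k)).inv x := congr($h1 ((Scheme.ΓSpecIso (CommRingCat.of k)).inv x))
  rw [kT_apply, ev0_apply, h2]
  exact congr($((Scheme.ΓSpecIso (CommRingCat.of k)).inv_hom_id) x)

theorem ev0_ext [IsAffine T.left] {t t' : T0 k ⟶ T} (h : ∀ r, ev0 t r = ev0 t' r) : t = t' := by
  apply Over.OverMorphism.ext
  apply ext_of_isAffine
  rw [← cancel_mono (Scheme.ΓSpecIso (CommRingCat.of k)).hom]
  ext r
  exact h r

theorem evE_ext [IsAffine T.left] {v v' : Te k ⟶ T} (h : ∀ r, evE v r = evE v' r) : v = v' :=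
  XAdd.evA_ext (A := DualNumber k) h

theorem exists_evE [IsAffine T.left] (φ : Γ(T.left, ⊤) →+* DualNumber k)
    (h : ∀ c, φ (kT T c) = algebraMap k (DualNumber k) c) : ∃ v : Te k ⟶ T, ∀ r, evE v r = φ r := by
  obtain ⟨v, hv⟩ := XAdd.exists_evA (A := DualNumber k) φ h
  exact ⟨v, fun r => congr($hv r)⟩

theorem kT_comp (q : T' ⟶ T) (x : k) : q.left.appTop (kT T x) = kT T' x := by
  have h1 : T.hom.appTop ≫ q.left.appTop = T'.hom.appTop := by
    rw [← Scheme.Hom.comp_appTop]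
    exact congrArg (fun q : T'.left ⟶ B0 k => q.appTop) (Over.w q)
  exact congr($h1 ((Scheme.ΓSpecIso (CommRingCat.of k)).inv x))

theorem kT_opn {Z : Over (B0 k)} (U : Z.left.Opens) (x : k) :
    U.topIso.hom (kT (opn Z U) x) = (algOn Z U).algebraMap x := by
  have h1 : (opn Z U).hom.appTop ≫ U.topIso.hom = Z.hom.appLE ⊤ U le_top := by
    change (U.ι ≫ Z.hom).appTop ≫ U.topIso.hom = _
    rw [Scheme.Hom.comp_appTop, Scheme.Opens.ι_appTop, Scheme.Opens.topIso_hom, Category.assoc]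
    exact congrArg (fun q => Z.hom.appTop ≫ q) (Functor.map_comp Z.left.presheaf _ _).symm
  exact congr($h1 ((Scheme.ΓSpecIso (CommRingCat.of k)).inv x))

end Ev

section Geo

variable {k : Type u} [Field k]

/-- Global functions as a `k`-algebra. -/
@[reducible] noncomputable def kAlg (T : Over (B0 k)) : Algebra k Γ(T.left, ⊤) := (kT T).toAlgebra

theorem finiteType {T : Over (B0 k)} [IsAffine T.left] [LocallyOfFiniteType T.hom] :
    letI := kAlg T
    Algebra.FiniteType k Γ(T.left, ⊤) := by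
  have h1 : T.hom.appTop.hom.FiniteType :=
    (HasRingHomProperty.iff_of_isAffine (P := @LocallyOfFiniteType)).1 inferInstance
  have h2 : (Scheme.ΓSpecIso (CommRingCat.of k)).inv.hom.FiniteType :=
    RingHom.FiniteType.of_surjective _ (ConcreteCategory.bijective_of_isIso
      (Scheme.ΓSpecIso (CommRingCat.of k)).inv).2
  exact h1.comp h2

/-- A `k`-point as a homomorphism of algebras. -/
noncomputable def ptHom {T : Over (B0 k)} (t : T0 k ⟶ T) :
    letI := kAlg T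
    Γ(T.left, ⊤) →ₐ[k] k :=
  letI := kAlg T
  { ev0 t with commutes' := ev0_kT t }

/-- A `k[ε]`-point as a homomorphism of algebras. -/
noncomputable def teHom {T : Over (B0 k)} (w : Te k ⟶ T) :
    letI := kAlg T
    Γ(T.left, ⊤) →ₐ[k] DualNumber k :=
  letI := kAlg T
  { evE w with commutes' := evE_kT w }

/-- Points at which a given function does not vanish. -/
theorem exists_pt_ne_zero [IsAlgClosed k] {T : Over (B0 k)} [IsAffine T.left] [LocallyOfFiniteType T.hom]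
    [IsDomain Γ(T.left, ⊤)] {g : Γ(T.left, ⊤)} (hg : g ≠ 0) : ∃ t : T0 k ⟶ T, ev0 t g ≠ 0 := by
  let _ := kAlg T
  have _ : Algebra.FiniteType k Γ(T.left, ⊤) := finiteType
  obtain ⟨m, -, hm⟩ := DetRad.exists_point (k := k) (⊥ : Ideal Γ(T.left, ⊤)) (b := g) (by simpa using hg)
  obtain ⟨t, ht⟩ := exists_pt (T := T) m.toRingHom (fun x => m.commutes x)
  exact ⟨t, by rw [ht]; exact hm⟩

/-- Functions vanishing at all `k`-points. -/
theorem eq_zero_of_pt [IsAlgClosed k] {T : Over (B0 k)} [IsAffine T.left] [LocallyOfFiniteType T.hom]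
    [IsDomain Γ(T.left, ⊤)] {g : Γ(T.left, ⊤)} (h : ∀ t : T0 k ⟶ T, ev0 t g = 0) : g = 0 := by
  by_contra hg
  obtain ⟨t, ht⟩ := exists_pt_ne_zero hg
  exact ht (h t)

/-- `K562.Dens.main` in terms of points. -/
theorem geo [IsAlgClosed k] {Z T : Over (B0 k)} {V : Z.left.Opens} (hV : IsAffineOpen V) [IsAffine T.left]
    [LocallyOfFiniteType Z.hom] [IsDomain Γ(Z.left, V)] [IsIntegrallyClosed Γ(Z.left, V)] [IsDomain Γ(T.left, ⊤)]
    (p : Ideal Γ(Z.left, V)) [p.IsPrime] (hp : p.height ≤ 1) (q : T ⟶ opn Z V)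
    (ψ : Γ(Z.left, V) ⧸ p →+* Γ(T.left, ⊤)) (hψ : ψ.Etale) (hinj : Function.Injective ψ)
    (hψq : ∀ x : Γ(Z.left, V), ψ (Ideal.Quotient.mk p x) = q.left.appTop (V.topIso.inv x)) {n : ℕ}
    (d : Matrix (Fin n) (Fin n) Γ(T.left, ⊤)) :
    ∃ g : Γ(T.left, ⊤), g ≠ 0 ∧ ∃ π : Γ((opn Z V).left, ⊤), ∀ t : T0 k ⟶ T, ev0 t g ≠ 0 →
      (∀ w : Te k ⟶ T, iT k ≫ w = t → ∀ s : Fin n → k, (∀ l, ∑ j, ev0 t (d l j) * s j = 0) →
        ∃ c : Fin n → k, ∀ l, ∑ j, (evE w (d l j)).snd * s j = ∑ j, ev0 t (d l j) * c j) ∧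
      (∀ v : Te k ⟶ opn Z V, iT k ≫ v = t ≫ q → (evE v π).snd = 0 →
        ∃ w : Te k ⟶ T, iT k ≫ w = t ∧ w ≫ q = v) := by
  have : IsAffine (opn Z V).left := hV
  let _ := algOn Z V
  have _ : Algebra.FiniteType k Γ(Z.left, V) := LocRad.finiteType hV
  let _ := kAlg T
  let _ : Algebra (Γ(Z.left, V) ⧸ p) Γ(T.left, ⊤) := ψ.toAlgebra
  let _ : Algebra Γ(Z.left, V) Γ(T.left, ⊤) := (ψ.comp (Ideal.Quotient.mk p)).toAlgebra
  have _ : IsScalarTower Γ(Z.left, V) (Γ(Z.left, V) ⧸ p) Γ(T.left, ⊤) := IsScalarTower.of_algebraMap_eq fun x => rfl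
  have hti : ∀ r : Γ((opn Z V).left, ⊤), V.topIso.inv (V.topIso.hom r) = r := fun r => congr($(V.topIso.hom_inv_id) r)
  have hit : ∀ r : Γ(Z.left, V), V.topIso.hom (V.topIso.inv r) = r := fun r => congr($(V.topIso.inv_hom_id) r)
  have hk : ∀ x : k, V.topIso.inv ((algOn Z V).algebraMap x) = kT (opn Z V) x := by
    intro x
    rw [← kT_opn, hti]
  have _ : IsScalarTower k Γ(Z.left, V) Γ(T.left, ⊤) := IsScalarTower.of_algebraMap_eq fun x => by
    change kT T x = ψ (Ideal.Quotient.mk p ((algOn Z V).algebraMap x))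
    rw [hψq, hk, kT_comp]
  have _ : Algebra.Etale (Γ(Z.left, V) ⧸ p) Γ(T.left, ⊤) := hψ
  have hker : RingHom.ker (algebraMap Γ(Z.left, V) Γ(T.left, ⊤)) = p := by
    ext x
    rw [RingHom.mem_ker]
    change ψ (Ideal.Quotient.mk p x) = 0 ↔ _
    rw [map_eq_zero_iff ψ hinj, Ideal.Quotient.eq_zero_iff_mem]
  obtain ⟨g, hg, π, -, H⟩ := Dens.main (k := k) p hp hker d
  have hq : ∀ (t : T0 k ⟶ T) (x : Γ(Z.left, V)), ev0 t (algebraMap Γ(Z.left, V) Γ(T.left, ⊤) x) =
      ev0 (t ≫ q) (V.topIso.inv x) := by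
    intro t x
    rw [ev0_comp, ← hψq]
    rfl
  refine ⟨g, hg, V.topIso.inv π, fun t ht => ?_⟩
  obtain ⟨h1, h2⟩ := H (ptHom t) ht
  refine ⟨fun w hw s hs => ?_, fun v hv hvπ => ?_⟩
  · obtain ⟨c, hc⟩ := h1 (teHom w) (fun x => by
      change (evE w x).fst = ev0 t x
      rw [evE_fst, hw]) s (by
      funext l
      simp only [Matrix.mulVec, dotProduct, Matrix.map_apply, Pi.zero_apply]
      exact hs l)
    refine ⟨c, fun l => ?_⟩
    have h3 := congrFun hc l
    simp only [Matrix.mulVec, dotProduct, Matrix.map_apply] at h3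
    exact h3
  · let v' : Γ(Z.left, V) →ₐ[k] DualNumber k := { (evE v).comp V.topIso.inv.hom with
      commutes' := fun x => by
        change evE v (V.topIso.inv ((algOn Z V).algebraMap x)) = _
        rw [hk, evE_kT] }
    have hv' : ∀ x, v' x = evE v (V.topIso.inv x) := fun x => rfl
    obtain ⟨-, w', hw1, hw2⟩ := h2 v' (fun x => by
      rw [hv', evE_fst, hv]
      exact (hq t x).symm) hvπ
    obtain ⟨w, hw⟩ := exists_evE (T := T) w'.toRingHom (fun x => w'.commutes x)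
    have hw' : ∀ r, evE w r = w' r := hw
    refine ⟨w, ev0_ext fun r => ?_, evE_ext fun r => ?_⟩
    · rw [← evE_fst, hw', hw1]
      rfl
    · rw [evE_comp, hw', ← hti r, ← hψq]
      refine (hw2 (V.topIso.hom r)).trans ?_
      rw [hv', hti]

end Geo

end K562.PtHom
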